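import Cfsg.Agent.Lib.Hall.Basic
import Cfsg.Agent.Lib.SylowNumbers.Basic
import Mathlib.GroupTheory.Abelianization.Defs

/-!
# P. Hall's theorem on the number of Hall subgroups

Owner: helper73. Namespace `Cfsg.Agent.Lib.Fgs9.HallNumbers`.
-/

set_option autoImplicit false

namespace Cfsg.Agent.Lib.Fgs9.HallNumbers

open Subgroup
open Cfsg.Agent.Lib
open scoped Pointwise commutatorElement

universe u

variable {G : Type u} [Group G] [Finite G]

/-- A nontrivial solvable group has a normal subgroup of prime index. -/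
theorem exists_normal_prime_index (X : Type u) [Group X] [Finite X] [Group.IsSolvable X]
    [Nontrivial X] : ∃ M : Subgroup X, M.Normal ∧ M.index.Prime := by
  obtain ⟨M, ⟨hMc, hM1⟩, hmax⟩ := Set.Finite.exists_maximal
    (s := {M : Subgroup X | commutator X ≤ M ∧ M ≠ ⊤}) (Set.toFinite _)
    ⟨commutator X, le_rfl, (Group.IsSolvable.commutator_lt_top_of_nontrivial (G := X)).ne⟩
  have hn : ∀ K : Subgroup X, M ≤ K → K.Normal := fun K hK => ⟨fun x hx g => by
    have h1 : ⁅g, x⁆ ∈ K := hK (hMc (Subgroup.commutator_mem_commutator (mem_top g) (mem_top x)))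
    have h2 := mul_mem h1 hx
    rwa [commutatorElement_def, inv_mul_cancel_right] at h2⟩
  haveI := hn M le_rfl
  refine ⟨M, inferInstance, ?_⟩
  obtain ⟨q, hq, hqd⟩ := Nat.exists_prime_and_dvd (fun h => hM1 (Subgroup.index_eq_one.1 h) : M.index ≠ 1)
  haveI := Fact.mk hq
  rw [Subgroup.index_eq_card] at hqd
  obtain ⟨y, hy⟩ := exists_prime_orderOf_dvd_card' q hqd
  have htop : (Subgroup.zpowers y).comap (QuotientGroup.mk' M) = ⊤ := by
    by_contra hne
    have h1 := hmax ⟨hMc.trans (QuotientGroup.le_comap_mk' M _), hne⟩ (QuotientGroup.le_comap_mk' M _)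
    obtain ⟨g, hg⟩ := QuotientGroup.mk'_surjective M y
    have h2 : g ∈ M := h1 (show QuotientGroup.mk' M g ∈ Subgroup.zpowers y from hg ▸ mem_zpowers y)
    rw [← hg, QuotientGroup.mk'_apply, (QuotientGroup.eq_one_iff g).2 h2, orderOf_one] at hy
    exact hq.ne_one hy.symm
  have hz : Subgroup.zpowers y = ⊤ := by
    rw [← Subgroup.map_comap_eq_self_of_surjective (QuotientGroup.mk'_surjective M) (Subgroup.zpowers y),
      htop, Subgroup.map_top_of_surjective _ (QuotientGroup.mk'_surjective M)]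
  rw [Subgroup.index_eq_card, ← Subgroup.card_top, ← hz, Nat.card_zpowers, hy]
  exact hq

omit [Finite G] in
/-- A map of `r`-power period whose only fixed point is `t₀`. -/
theorem card_modEq_one {T : Type*} [Finite T] {r : ℕ} [Fact r.Prime] (σ : Equiv.Perm T)
    (hσ : σ ^ r = 1) (t₀ : T) (h0 : σ t₀ = t₀) (hu : ∀ t, σ t = t → t = t₀) :
    Nat.card T ≡ 1 [MOD r] := by
  have hp : IsPGroup r ↥(zpowers σ) := by
    rintro ⟨_, i, rfl⟩
    refine ⟨1, Subtype.ext ?_⟩
    show (σ ^ i) ^ (r ^ 1) = 1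
    rw [pow_one, ← zpow_natCast, zpow_comm, zpow_natCast, hσ, one_zpow]
  have h1 := hp.card_modEq_card_fixedPoints T
  have h2 : MulAction.fixedPoints ↥(zpowers σ) T = {t₀} := by
    ext t
    simp only [MulAction.mem_fixedPoints, Set.mem_singleton_iff]
    constructor
    · intro h; exact hu t (h ⟨σ, mem_zpowers σ⟩)
    · rintro rfl ⟨_, i, rfl⟩
      have : σ ^ i ∈ MulAction.stabilizer (Equiv.Perm T) t := zpow_mem (MulAction.mem_stabilizer_iff.2 h0) i
      exact MulAction.mem_stabilizer_iff.1 this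
  rw [h2] at h1
  simpa using h1

theorem index_centralizer {p : ℕ} (hp : p.Prime) (V : Subgroup G) (hVp : IsPGroup p V)
    (hVc : ∀ a ∈ V, ∀ b ∈ V, a * b = b * a) :
    ∀ H : Subgroup G, Group.IsSolvable H → H ≤ normalizer (V : Set G) → ¬ p ∣ Nat.card H →
      ∃ l : List ℕ, l.prod = (V ⊓ centralizer (H : Set G)).relIndex V ∧
        ∀ f ∈ l, (∃ e, f = p ^ e) ∧ ∃ r : ℕ, r.Prime ∧ r ∣ Nat.card H ∧ f ≡ 1 [MOD r] := by
  haveI := Fact.mk hp
  intro H
  induction H using WellFoundedLT.induction with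
  | ind H ih =>
  intro hHs hHV hpH
  rcases eq_or_ne H ⊥ with rfl | hH1
  · refine ⟨[], ?_, by simp⟩
    rw [List.prod_nil, eq_comm, Subgroup.relIndex_eq_one]
    refine le_inf le_rfl fun x _ => ?_
    rw [mem_centralizer_iff]
    intro y hy
    rw [Subgroup.mem_bot.1 hy, one_mul, mul_one]
  haveI := (Subgroup.nontrivial_iff_ne_bot H).2 hH1
  obtain ⟨M, hMn, hMr⟩ := exists_normal_prime_index ↥H
  set r := M.index
  haveI := Fact.mk hMr
  set H₁ := M.map H.subtype with hH₁
  have hH₁H : H₁ ≤ H := Subgroup.map_subtype_le _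
  have hlt : H₁ < H := by
    refine lt_of_le_of_ne hH₁H fun h => hMr.ne_one (Subgroup.index_eq_one.2 ?_)
    refine eq_top_iff.2 fun x _ => ?_
    obtain ⟨y, hy, hyx⟩ := (show (x : G) ∈ H₁ by rw [h]; exact x.2)
    exact (Subtype.ext hyx : y = x) ▸ hy
  have hH₁s : Group.IsSolvable H₁ := by
    haveI : Group.IsSolvable M := inferInstance
    exact Group.isSolvable_of_surjective (f := (M.equivMapOfInjective _ H.subtype_injective).toMonoidHom)
      (M.equivMapOfInjective _ H.subtype_injective).surjective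
  obtain ⟨l, hl, hl'⟩ := ih H₁ hlt hH₁s (hH₁H.trans hHV)
    (fun h => hpH (h.trans (Subgroup.card_dvd_of_le hH₁H)))
  have hcH₁ : Nat.card H₁ ∣ Nat.card H := Subgroup.card_dvd_of_le hH₁H
  -- an element outside
  obtain ⟨h, hh, hhM⟩ : ∃ h : ↥H, h ∈ (⊤ : Subgroup ↥H) ∧ h ∉ M := SetLike.exists_of_lt
    (lt_top_iff_ne_top.2 fun e => hMr.ne_one (Subgroup.index_eq_one.2 e))
  have hgen : ∀ y : ↥H, ∃ i : ℕ, ∃ m ∈ M, y = h ^ i * m := by
    intro y
    have hc : Nat.card (↥H ⧸ M) = r := (Subgroup.index_eq_card M).symm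
    obtain ⟨i, hi⟩ := mem_powers_of_prime_card (p := r) hc (g := QuotientGroup.mk' M h)
      (fun e => hhM ((QuotientGroup.eq_one_iff h).1 e)) (g' := QuotientGroup.mk' M y)
    have hi' : QuotientGroup.mk' M h ^ i = QuotientGroup.mk' M y := hi
    rw [← map_pow] at hi'
    exact ⟨i, (h ^ i)⁻¹ * y, QuotientGroup.eq.1 hi', by group⟩
  set W := V ⊓ centralizer (H₁ : Set G) with hW
  set D := V ⊓ centralizer (H : Set G) with hD
  have hDW : D ≤ W := inf_le_inf_left V (Subgroup.centralizer_le hH₁H)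
  have hWconj : ∀ x ∈ W, (h : G) * x * (h : G)⁻¹ ∈ W := by
    intro x hx
    obtain ⟨hxV, hxC⟩ := Subgroup.mem_inf.1 hx
    refine Subgroup.mem_inf.2 ⟨(Subgroup.mem_normalizer_iff.1 (hHV h.2) x).1 hxV, ?_⟩
    rw [mem_centralizer_iff] at hxC ⊢
    rintro _ ⟨m, hm, rfl⟩
    have h1 := hxC _ ⟨_, hMn.conj_mem m hm h⁻¹, rfl⟩
    simp only [Subgroup.coe_subtype, Subgroup.coe_mul, Subgroup.coe_inv, inv_inv] at h1 ⊢
    calc (m : G) * ((h : G) * x * (h : G)⁻¹) = (h : G) * (((h : G)⁻¹ * m * h) * x) * (h : G)⁻¹ := by group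
      _ = (h : G) * (x * ((h : G)⁻¹ * m * h)) * (h : G)⁻¹ := by rw [h1]
      _ = (h : G) * x * (h : G)⁻¹ * m := by group
  let τ : W →* W := MonoidHom.mk' (fun x => ⟨_, hWconj x x.2⟩) fun x y => Subtype.ext (by simp)
  let δ : W →* W := MonoidHom.mk' (fun x => τ x * x⁻¹) fun x y => by
    apply Subtype.ext
    have hc := hVc ((τ y : W) : G) (τ y).2.1 ((x : G)⁻¹) (inv_mem x.2.1)
    have hc2 := hVc ((y : G)⁻¹) (inv_mem y.2.1) ((x : G)⁻¹) (inv_mem x.2.1)
    simp only [map_mul, mul_inv_rev, Subgroup.coe_mul, Subgroup.coe_inv]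
    rw [hc2, mul_assoc, ← mul_assoc ((τ y : W) : G), hc]
    group
  have hδk : δ.ker = D.subgroupOf W := by
    ext x
    rw [MonoidHom.mem_ker, mem_subgroupOf]
    constructor
    · intro hx
      refine Subgroup.mem_inf.2 ⟨x.2.1, ?_⟩
      have h1 : (h : G) * x * (h : G)⁻¹ * (x : G)⁻¹ = 1 := congrArg Subtype.val hx
      have h2 : Commute (h : G) x := mul_inv_eq_iff_eq_mul.1 (mul_inv_eq_one.1 h1)
      rw [mem_centralizer_iff]
      intro y hy
      obtain ⟨i, m, hm, he⟩ := hgen ⟨y, hy⟩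
      have he' : y = (h : G) ^ i * (m : G) := by simpa using congrArg Subtype.val he
      have h3 : Commute (m : G) x := mem_centralizer_iff.1 x.2.2 _ ⟨m, hm, rfl⟩
      rw [he']
      exact ((h2.pow_left i).mul_left h3).eq
    · intro hx
      apply Subtype.ext
      show (h : G) * x * (h : G)⁻¹ * (x : G)⁻¹ = 1
      rw [mem_centralizer_iff.1 (Subgroup.mem_inf.1 hx).2 _ h.2]
      group
  have hidx : D.relIndex W = Nat.card δ.range := by
    rw [← Subgroup.index_ker, hδk]; rfl
  -- congruence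
  have hcong : Nat.card δ.range ≡ 1 [MOD r] := by
    let τ' : W ≃* W := MulEquiv.ofBijective τ (Finite.injective_iff_bijective.1 fun x y e => Subtype.ext
      (mul_left_cancel (mul_right_cancel (congrArg Subtype.val e))))
    have hinv : ∀ t, t ∈ δ.range → τ' t ∈ δ.range := by
      rintro _ ⟨x, rfl⟩
      exact ⟨τ x, by show τ (τ x) * (τ x)⁻¹ = τ (τ x * x⁻¹); rw [map_mul, map_inv]⟩
    let σ : Equiv.Perm δ.range := Equiv.ofBijective (fun t => ⟨τ' t.1, hinv t.1 t.2⟩)
      (Finite.injective_iff_bijective.1 fun a b e => Subtype.ext (τ'.injective (congrArg Subtype.val e)))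
    have hσi : ∀ i (t : δ.range), (((σ ^ i) t : δ.range) : W).1 = (h : G) ^ i * ((t : W) : G) * ((h : G) ^ i)⁻¹ := by
      intro i
      induction i with
      | zero => intro t; simp
      | succ i ih =>
        intro t
        rw [pow_succ', Equiv.Perm.mul_apply]
        show (h : G) * (((σ ^ i) t : δ.range) : W).1 * (h : G)⁻¹ = _
        rw [ih, pow_succ']
        group
    have hr : (h : G) ^ r ∈ H₁ := ⟨h ^ r, Subgroup.pow_index_mem M h, by simp⟩
    refine card_modEq_one σ ?_ 1 (Subtype.ext (map_one τ')) ?_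
    · ext t
      rw [hσi, mem_centralizer_iff.1 (t : W).2.2 _ hr, mul_inv_cancel_right]
      rfl
    · rintro ⟨t, x, hx⟩ ht
      refine Subtype.ext (Subtype.ext ?_)
      show (t : G) = 1
      have h1 : (h : G) * t * (h : G)⁻¹ = t := congrArg (fun z : δ.range => ((z : W) : G)) ht
      have hbase : (h : G) * (x : G) * (h : G)⁻¹ = (t : G) * x := by
        have h2 : (h : G) * x * (h : G)⁻¹ * (x : G)⁻¹ = (t : G) := congrArg Subtype.val hx
        rw [← h2, inv_mul_cancel_right]
      have hiter : ∀ i : ℕ, (h : G) ^ i * (x : G) * ((h : G) ^ i)⁻¹ = (t : G) ^ i * x := by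
        intro i
        induction i with
        | zero => simp
        | succ i ih =>
          have h3 : (h : G) * (t : G) ^ i * (h : G)⁻¹ = (t : G) ^ i := by rw [← conj_pow, h1]
          calc (h : G) ^ (i + 1) * (x : G) * ((h : G) ^ (i + 1))⁻¹
              = (h : G) * ((h : G) ^ i * x * ((h : G) ^ i)⁻¹) * (h : G)⁻¹ := by rw [pow_succ']; group
            _ = ((h : G) * (t : G) ^ i * (h : G)⁻¹) * ((h : G) * x * (h : G)⁻¹) := by rw [ih]; group
            _ = (t : G) ^ (i + 1) * x := by rw [h3, hbase, pow_succ, mul_assoc]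
      have hr1 : (t : G) ^ r = 1 := by
        have := hiter r
        rw [mem_centralizer_iff.1 x.2.2 _ hr, mul_inv_cancel_right, eq_comm, mul_eq_right] at this
        exact this
      obtain ⟨k, hk⟩ := hVp ⟨t, t.2.1⟩
      refine orderOf_eq_one_iff.1 (Nat.eq_one_of_dvd_coprimes (a := r) (b := p ^ k) ?_
        (orderOf_dvd_of_pow_eq_one hr1) (orderOf_dvd_of_pow_eq_one (congrArg Subtype.val hk)))
      refine Nat.Coprime.pow_right _ ((Nat.coprime_primes hMr hp).2 fun e => hpH ?_)
      rw [← e]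
      exact (Subgroup.index_dvd_card M)
  refine ⟨Nat.card δ.range :: l, ?_, ?_⟩
  · rw [List.prod_cons, hl, ← hidx, Subgroup.relIndex_mul_relIndex _ _ _ hDW inf_le_left]
  · intro f hf
    rcases List.mem_cons.1 hf with rfl | hf
    · refine ⟨IsPGroup.iff_card.1 ((hVp.to_le (inf_le_left : W ≤ V)).to_subgroup δ.range), r, hMr,
        Subgroup.index_dvd_card M, hcong⟩
    · obtain ⟨he, q, hq, hqd, hqm⟩ := hl' f hf
      exact ⟨he, q, hq, hqd.trans hcH₁, hqm⟩

/-- The number of subgroups of Hall order is the index of a normalizer. -/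
theorem card_hall [Group.IsSolvable G] {m n : ℕ} (hG : Nat.card G = m * n) (hmn : m.Coprime n)
    {H : Subgroup G} (hH : Nat.card H = m) :
    Nat.card {K : Subgroup G // Nat.card K = m} = (normalizer (H : Set G)).index := by
  have h1 : Nat.card {K : Subgroup G // Nat.card K = m} = (MulAction.orbit (ConjAct G) H).ncard := by
    rw [← Nat.card_coe_set_eq]
    refine Nat.card_congr (Equiv.subtypeEquivRight fun K => ?_)
    constructor
    · intro hK
      obtain ⟨g, hg⟩ := Hall.exists_conj_eq ((Hall.isPiHall_iff_card_eq hG hmn H).2 hH)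
        ((Hall.isPiHall_iff_card_eq hG hmn K).2 hK)
      exact ⟨ConjAct.toConjAct g, hg⟩
    · rintro ⟨g, rfl⟩
      rw [← hH]
      exact Nat.card_congr (Subgroup.equivSMul g H).toEquiv.symm
  rw [h1, ← MulAction.index_stabilizer]
  have h2 : (MulAction.stabilizer (ConjAct G) H).comap (ConjAct.toConjAct (G := G)).toMonoidHom =
      normalizer (H : Set G) := by
    ext g
    rw [Subgroup.mem_comap, MulAction.mem_stabilizer_iff, Subgroup.mem_normalizer_iff_map_conj_eq]
    rfl
  rw [← h2]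
  exact (Subgroup.index_comap_of_surjective _ (ConjAct.toConjAct (G := G)).surjective).symm

/-- The conclusion of Hall's theorem. -/
def IsHallNumber (G : Type u) [Group G] (m c : ℕ) : Prop :=
  ∃ (k : ℕ) (f : Fin k → ℕ), c = ∏ i, f i ∧ ∀ i, (∃ q e : ℕ, q.Prime ∧ f i = q ^ e) ∧
    (∃ K L : Subgroup G, K.Normal ∧ L.Normal ∧ K < L ∧
      (∀ M : Subgroup G, M.Normal → K ≤ M → M ≤ L → M = K ∨ M = L) ∧ f i ∣ K.relIndex L) ∧
    (∃ q : ℕ, q.Prime ∧ q ∣ m ∧ f i ≡ 1 [MOD q])

theorem main : ∀ (c : ℕ) (G : Type u) [Group G] [Finite G] [Group.IsSolvable G], Nat.card G = c →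
    ∀ m n : ℕ, Nat.card G = m * n → m.Coprime n →
      IsHallNumber G m (Nat.card {H : Subgroup G // Nat.card H = m}) := by
  intro c
  induction c using Nat.strong_induction_on with
  | _ c ih =>
  intro G _ _ _ hc m n hG hmn
  obtain ⟨H, hH⟩ := Hall.exists_isPiHall (G := G) {p | p ∣ m}
  have hHc : Nat.card H = m := (Hall.isPiHall_iff_card_eq hG hmn H).1 hH
  rw [card_hall hG hmn hHc]
  rcases subsingleton_or_nontrivial G with hG1 | hG1
  · refine ⟨0, Fin.elim0, ?_, fun i => i.elim0⟩
    rw [Fin.prod_univ_zero, Subgroup.index_eq_one]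
    exact Subsingleton.elim _ _
  -- a minimal normal subgroup
  obtain ⟨p, A, hp, hAn, hA1, hAc, hAp⟩ := Hall.exists_normal_abelian_pgroup (G := G)
  obtain ⟨N, ⟨hNn, hN1, hNA⟩, hNmin⟩ := Set.Finite.exists_minimal
    (s := {N : Subgroup G | N.Normal ∧ N ≠ ⊥ ∧ N ≤ A}) (Set.toFinite _) ⟨A, hAn, hA1, le_rfl⟩
  haveI := hNn
  have hNp : IsPGroup p N := hAp.to_le hNA
  set π := QuotientGroup.mk' N with hπ
  have hπs := QuotientGroup.mk'_surjective N
  have hlt := hc ▸ Hall.card_quotient_lt hN1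
  -- the Hall subgroup in the quotient
  set H' := H.map π with hH'
  have hH'h : IsPiHall {p | p ∣ m} H' := Hall.isPiHall_map hH π hπs
  set m' := Nat.card H' with hm'
  have hm'm : m' ∣ m := hHc ▸ Subgroup.card_map_dvd H π
  have hG' : Nat.card (G ⧸ N) = m' * H'.index := H'.card_mul_index.symm
  have hcop' : m'.Coprime H'.index := Hall.isPiHall_coprime hH'h
  obtain ⟨k, f, hf, hf'⟩ := ih _ hlt (G ⧸ N) rfl m' H'.index hG' hcop'
  rw [card_hall hG' hcop' rfl] at hf
  -- the normalizer in the quotient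
  set S := normalizer (H : Set G) with hS
  have hcomap : (normalizer (H' : Set (G ⧸ N))).comap π = S ⊔ N := by
    apply le_antisymm
    · intro g hg
      rw [Subgroup.mem_comap, Subgroup.mem_normalizer_iff_map_conj_eq] at hg
      set K := H ⊔ N
      have hKmap : K.map π = H' := by
        rw [Subgroup.map_sup, hH', hπ, QuotientGroup.map_mk'_self, sup_bot_eq]
      have hconj : H.map (MulAut.conj g).toMonoidHom ≤ K := by
        rintro _ ⟨x, hx, rfl⟩
        have h1 : π ((MulAut.conj g) x) ∈ H' := by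
          rw [← hg]
          exact ⟨π x, mem_map_of_mem π hx, by simp⟩
        rw [← hKmap] at h1
        obtain ⟨y, hy, hyx⟩ := h1
        have h2 : y⁻¹ * (MulAut.conj g) x ∈ N := QuotientGroup.eq.1 hyx
        have := mul_mem hy (Subgroup.mem_sup_right h2)
        rwa [mul_inv_cancel_left] at this
      set H₂ := H.map (MulAut.conj g).toMonoidHom
      have hcard₂ : Nat.card H₂ = m := by
        rw [← hHc]; exact Subgroup.card_map_of_injective (MulAut.conj g).injective
      have hKd : Nat.card K = m * (H.relIndex K) := by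
        rw [← hHc, ← Subgroup.relIndex_bot_left, ← Subgroup.relIndex_bot_left,
          Subgroup.relIndex_mul_relIndex _ _ _ bot_le le_sup_left]
      have hKc : m.Coprime (H.relIndex K) := hmn.coprime_dvd_right (by
        have h5 : H.index = n := by
          have := H.card_mul_index
          rw [hHc, hG] at this
          exact Nat.eq_of_mul_eq_mul_left (hHc ▸ Nat.card_pos) this
        exact h5 ▸ Dvd.intro _ (Subgroup.relIndex_mul_index le_sup_left))
      have hA : Nat.card (H.subgroupOf K) = m := by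
        rw [Nat.card_congr (Subgroup.subgroupOfEquivOfLe le_sup_left).toEquiv, hHc]
      have hB : Nat.card (H₂.subgroupOf K) = m := by
        rw [Nat.card_congr (Subgroup.subgroupOfEquivOfLe hconj).toEquiv, hcard₂]
      obtain ⟨w, hw⟩ := Hall.exists_conj_eq ((Hall.isPiHall_iff_card_eq hKd hKc _).2 hA)
        ((Hall.isPiHall_iff_card_eq hKd hKc _).2 hB)
      have hw' : H.map (MulAut.conj (w : G)).toMonoidHom = H₂ := by
        refine Subgroup.eq_of_le_of_card_ge ?_ (le_of_eq ?_)
        · rintro _ ⟨x, hx, rfl⟩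
          have hxK : x ∈ K := le_sup_left (a := H) (b := N) hx
          have h3 : MulAut.conj w • (⟨x, hxK⟩ : ↥K) ∈ H₂.subgroupOf K := by
            rw [← hw, Subgroup.smul_mem_pointwise_smul_iff]
            exact hx
          exact h3
        · rw [hcard₂, ← hHc]; exact (Subgroup.card_map_of_injective (MulAut.conj (w : G)).injective).symm
      have hwg : (w : G)⁻¹ * g ∈ S := by
        rw [hS, Subgroup.mem_normalizer_iff_map_conj_eq]
        show H.map (MulAut.conj ((w : G)⁻¹ * g)).toMonoidHom = H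
        have e : H.map (MulAut.conj ((w : G)⁻¹ * g)).toMonoidHom = H₂.map (MulAut.conj (w : G)⁻¹).toMonoidHom := by
          rw [Subgroup.map_map]; congr 1; ext x; simp [mul_assoc]
        rw [e, ← hw', Subgroup.map_map]
        convert Subgroup.map_id H using 2
        ext x; simp [mul_assoc]
      have hwK : (w : G) ∈ S ⊔ N := (sup_le_sup_right Subgroup.le_normalizer N) w.2
      have := mul_mem hwK (Subgroup.mem_sup_left hwg)
      rwa [mul_inv_cancel_left] at this
    · refine sup_le ?_ ((QuotientGroup.le_comap_mk' N _))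
      intro g hg
      rw [hS, Subgroup.mem_normalizer_iff_map_conj_eq] at hg
      rw [Subgroup.mem_comap, Subgroup.mem_normalizer_iff_map_conj_eq, hH', Subgroup.map_map]
      conv_rhs => rw [← hg, Subgroup.map_map]
      congr 1
  have hidx : S.index = (normalizer (H' : Set (G ⧸ N))).index * S.relIndex N := by
    rw [← Subgroup.index_comap_of_surjective (f := π) _ hπs, hcomap, ← SylowNumbers.Basic.relIndex_sup_of_normal S N,
      mul_comm, Subgroup.relIndex_mul_index le_sup_left]
  -- lift the factors of the quotient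
  have hlift : ∀ i, (∃ q e : ℕ, q.Prime ∧ f i = q ^ e) ∧ (∃ K L : Subgroup G, K.Normal ∧ L.Normal ∧ K < L ∧
      (∀ M : Subgroup G, M.Normal → K ≤ M → M ≤ L → M = K ∨ M = L) ∧ f i ∣ K.relIndex L) ∧
      (∃ q : ℕ, q.Prime ∧ q ∣ m ∧ f i ≡ 1 [MOD q]) := by
    intro i
    obtain ⟨h1, ⟨K, L, hK, hL, hKL, hmin, hdvd⟩, q, hq, hqm, hq1⟩ := hf' i
    refine ⟨h1, ⟨K.comap π, L.comap π, hK.comap π, hL.comap π,
      (Subgroup.comap_lt_comap_of_surjective hπs).2 hKL, ?_, ?_⟩, q, hq, hqm.trans hm'm, hq1⟩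
    · intro M hM hKM hML
      have hMc : (M.map π).comap π = M := by
        rw [Subgroup.comap_map_eq_self]
        rw [hπ, QuotientGroup.ker_mk']
        exact (QuotientGroup.le_comap_mk' N K).trans hKM
      rcases hmin (M.map π) (hM.map π hπs)
        ((Subgroup.map_comap_eq_self_of_surjective hπs K).ge.trans (Subgroup.map_mono hKM))
        (Subgroup.map_le_iff_le_comap.2 hML) with h | h
      · exact Or.inl (by rw [← hMc, h])
      · exact Or.inr (by rw [← hMc, h])
    · rwa [Subgroup.relIndex_comap, Subgroup.map_comap_eq_self_of_surjective hπs]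
  haveI := Fact.mk hp
  by_cases hpm : p ∣ m
  · -- `N ≤ H`
    refine ⟨k, f, ?_, hlift⟩
    rw [hidx, hf]
    have hNH : N ≤ H := by
      obtain ⟨K, hK, hNK⟩ := Hall.exists_isPiHall_ge (G := G) (π := {q | q ∣ m}) (K := N)
        (fun q hq hd => (Hall.prime_dvd_pgroup hp hq hNp hd).symm ▸ hpm)
      obtain ⟨g, hg⟩ := Hall.exists_conj_eq hK hH
      intro x hx
      have h1 : (MulAut.conj g)⁻¹ x ∈ N := by
        rw [← map_inv, MulAut.conj_apply]
        exact hNn.conj_mem x hx _
      rw [← hg, Subgroup.mem_pointwise_smul_iff_inv_smul_mem]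
      exact hNK h1
    rw [Subgroup.relIndex_eq_one.2 (hNH.trans Subgroup.le_normalizer), mul_one]
  · obtain ⟨l, hl, hl'⟩ := index_centralizer hp N hNp (fun a ha b hb => hAc a (hNA ha) b (hNA hb)) H
      inferInstance (by rw [normalizer_eq_top]; exact le_top) (fun h => hpm (hHc ▸ h))
    have hinf : S ⊓ N = N ⊓ centralizer (H : Set G) := by
      apply le_antisymm
      · intro x hx
        obtain ⟨hxS, hxN⟩ := Subgroup.mem_inf.1 hx
        refine Subgroup.mem_inf.2 ⟨hxN, ?_⟩
        rw [mem_centralizer_iff]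
        intro y hy
        have h1 : x * y * x⁻¹ * y⁻¹ ∈ H :=
          mul_mem ((Subgroup.mem_normalizer_iff.1 hxS y).1 hy) (inv_mem hy)
        have h2 : x * y * x⁻¹ * y⁻¹ ∈ N := by
          rw [show x * y * x⁻¹ * y⁻¹ = x * (y * x⁻¹ * y⁻¹) by group]
          exact mul_mem hxN (hNn.conj_mem _ (inv_mem hxN) y)
        have h3 : x * y * x⁻¹ * y⁻¹ = 1 := by
          obtain ⟨e, he⟩ := (IsPGroup.iff_card (p := p) (G := N)).1 hNp
          refine orderOf_eq_one_iff.1 (Nat.eq_one_of_dvd_coprimes (a := m) (b := Nat.card N) ?_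
            (hHc ▸ Subgroup.orderOf_dvd_natCard _ h1) (Subgroup.orderOf_dvd_natCard _ h2))
          rw [he]
          exact Nat.Coprime.pow_right _ (hp.coprime_iff_not_dvd.2 hpm).symm
        rw [mul_inv_eq_one, mul_inv_eq_iff_eq_mul] at h3
        exact h3.symm
      · intro x hx
        obtain ⟨hxN, hxC⟩ := Subgroup.mem_inf.1 hx
        refine Subgroup.mem_inf.2 ⟨?_, hxN⟩
        exact Subgroup.centralizer_le_normalizer _ hxC
    refine ⟨k + l.length, Fin.append f (fun i => l[(i : ℕ)]), ?_, ?_⟩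
    · rw [Fin.prod_univ_add, hidx, hf]
      simp only [Fin.append_left, Fin.append_right]
      rw [Fin.prod_univ_getElem, hl, ← hinf, Subgroup.inf_relIndex_right]
    · intro i
      refine Fin.addCases (fun j => ?_) (fun j => ?_) i
      · rw [Fin.append_left]; exact hlift j
      · rw [Fin.append_right]
        obtain ⟨⟨e, he⟩, r, hr, hrd, hr1⟩ := hl' l[(j : ℕ)] (List.getElem_mem _)
        refine ⟨⟨p, e, hp, he⟩, ⟨⊥, N, inferInstance, hNn, bot_lt_iff_ne_bot.2 hN1, ?_, ?_⟩,
          r, hr, hHc ▸ hrd, hr1⟩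
        · intro M hM _ hMN
          by_cases hM1 : M = ⊥
          · exact Or.inl hM1
          · exact Or.inr (le_antisymm hMN (hNmin ⟨hM, hM1, hMN.trans hNA⟩ hMN))
        · rw [Subgroup.relIndex_bot_left]
          refine (List.dvd_prod (List.getElem_mem _)).trans ?_
          rw [hl]
          exact Subgroup.relIndex_dvd_card _ _

end Cfsg.Agent.Lib.Fgs9.HallNumbers
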