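import Cfsg.Agent.Lib.Alternating.Aut
import Mathlib.GroupTheory.Perm.Fin

/-!
# Sylow subgroups and element orders in groups between `A_n` and its automorphism group

Owner: helper73. Namespace `Cfsg.Agent.Lib.Fgs9.AlternatingSylow`.
-/

set_option autoImplicit false

namespace Cfsg.Agent.Lib.Fgs9.AlternatingSylow

open Equiv Equiv.Perm
open Cfsg.Agent.Lib

/-- A `q`-group of permutations of fewer than `q * q` points is abelian. -/
theorem comm_of_lt {n q : ℕ} [hq : Fact q.Prime] (hn : n < q * q) (Q : Subgroup (Perm (Fin n)))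
    (hQ : IsPGroup q Q) (a b : Q) : a * b = b * a := by
  refine Subtype.ext (Equiv.ext fun x => ?_)
  let O := MulAction.orbit Q x
  obtain ⟨k, hk⟩ := hQ.card_orbit x
  have hk1 : Nat.card O ≤ q := by
    have h1 : Nat.card O ≤ n := by
      simpa using Nat.card_le_card_of_injective (Subtype.val : O → Fin n) Subtype.val_injective
    have h2 : k < 2 := by
      by_contra hc
      have : q ^ 2 ≤ Nat.card O := hk ▸ Nat.pow_le_pow_right hq.out.pos (not_lt.1 hc)
      rw [sq] at this
      omega
    rw [hk]
    calc q ^ k ≤ q ^ 1 := Nat.pow_le_pow_right hq.out.pos (by omega)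
      _ = q := pow_one q
  set f := MulAction.toPermHom Q O
  haveI : Finite O := inferInstance
  obtain ⟨j, hj⟩ := IsPGroup.iff_card.1 (hQ.of_surjective f.rangeRestrict f.rangeRestrict_surjective)
  have hj1 : Nat.card f.range ∣ (Nat.card O).factorial := by
    rw [← Nat.card_perm]; exact Subgroup.card_subgroup_dvd_card _
  have hj2 : j < 2 := by
    by_contra hc
    rw [hj] at hj1
    have h1 : q ^ 2 ∣ q.factorial :=
      ((pow_dvd_pow q (not_lt.1 hc)).trans hj1).trans (Nat.factorial_dvd_factorial hk1)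
    rw [sq, ← Nat.mul_factorial_pred hq.out.ne_zero] at h1
    have h2 := (hq.out.dvd_factorial).1 (Nat.dvd_of_mul_dvd_mul_left hq.out.pos h1)
    have := hq.out.one_lt
    omega
  have hcyc : IsMulCommutative f.range := by
    interval_cases j
    · have : Subsingleton f.range := (Nat.card_eq_one_iff_unique.1 (by simpa using hj)).1
      exact ⟨⟨fun a b => Subsingleton.elim _ _⟩⟩
    · have hc : IsCyclic f.range := isCyclic_of_prime_card (p := q) (by simpa using hj)
      infer_instance
  have h := congrArg (fun s : f.range => ((s : Perm O) ⟨x, MulAction.mem_orbit_self x⟩ : Fin n))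
    (hcyc.is_comm.comm (f.rangeRestrict a) (f.rangeRestrict b))
  exact h

theorem six_counts :
    (Finset.univ.filter fun g : Perm (Fin 6) => g ^ 3 = 1 ∧ g.support.card = 3).card = 40 ∧
    (Finset.univ.filter fun g : Perm (Fin 6) => g ^ 3 = 1 ∧ g.support.card = 6).card = 40 := by
  decide +kernel

theorem isThreeCycle_of_pow_eq_one {g : Perm (Fin 6)} (hg : g ^ 3 = 1) (hs : g.support.card = 3) :
    IsThreeCycle g := card_support_eq_three_iff.1 hs

/-- An automorphism of odd order of `A_6` preserves the three-cycles. -/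
theorem six_preserve (ψ : MulAut (alternatingGroup (Fin 6))) (hψ : Odd (orderOf ψ))
    (x : alternatingGroup (Fin 6)) (hx : IsThreeCycle (x : Perm (Fin 6))) :
    IsThreeCycle (ψ x : Perm (Fin 6)) := by
  classical
  have hord : ∀ y : alternatingGroup (Fin 6), IsThreeCycle (y : Perm (Fin 6)) →
      ((ψ y : Perm (Fin 6)) ^ 3 = 1 ∧ ((ψ y : Perm (Fin 6)).support.card = 3 ∨
        (ψ y : Perm (Fin 6)).support.card = 6)) := by
    intro y hy
    have h3 : orderOf (ψ y : Perm (Fin 6)) = 3 := by
      rw [Subgroup.orderOf_coe, MulEquiv.orderOf_eq, ← Subgroup.orderOf_coe, hy.orderOf]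
    obtain ⟨k, hk⟩ := cycleType_prime_order (σ := (ψ y : Perm (Fin 6))) (h3 ▸ Nat.prime_three)
    rw [h3] at hk
    refine ⟨by conv_lhs => rw [← h3]
               exact pow_orderOf_eq_one _, ?_⟩
    have := sum_cycleType (ψ y : Perm (Fin 6))
    rw [hk, Multiset.sum_replicate, smul_eq_mul] at this
    have hle : (ψ y : Perm (Fin 6)).support.card ≤ 6 := by
      simpa using Finset.card_le_univ (ψ y : Perm (Fin 6)).support
    omega
  by_contra hxc
  -- then all three-cycles are moved to the other class
  let A := Finset.univ.filter fun y : alternatingGroup (Fin 6) => IsThreeCycle (y : Perm (Fin 6))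
  let B := Finset.univ.filter fun y : alternatingGroup (Fin 6) =>
    (y : Perm (Fin 6)) ^ 3 = 1 ∧ (y : Perm (Fin 6)).support.card = 6
  have hxB : (ψ x : Perm (Fin 6)).support.card = 6 := (hord x hx).2.resolve_left
    fun h => hxc (isThreeCycle_of_pow_eq_one (hord x hx).1 h)
  have hAB : ∀ y : alternatingGroup (Fin 6), IsThreeCycle (y : Perm (Fin 6)) → ψ y ∈ B := by
    intro y hy
    refine Finset.mem_filter.2 ⟨Finset.mem_univ _, (hord y hy).1, ?_⟩
    obtain ⟨g, hg⟩ := isConj_iff.1 (alternatingGroup.isThreeCycle_isConj (by simp) hx hy)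
    rw [← hg, map_mul, map_mul, map_inv, Subgroup.coe_mul, Subgroup.coe_mul, Subgroup.coe_inv,
      Equiv.Perm.card_support_conj]
    exact hxB
  have hcard : B.card ≤ (A.image ψ).card := by
    rw [Finset.card_image_of_injective _ ψ.injective]
    have h1 : B.card ≤ 40 := by
      rw [← six_counts.2]
      exact Finset.card_le_card_of_injOn Subtype.val (fun y hy => by
        simp only [B, Finset.coe_filter, Finset.mem_univ, true_and, Set.mem_ofPred_eq] at hy ⊢
        exact hy) Subtype.val_injective.injOn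
    refine h1.trans ?_
    rw [← six_counts.1]
    refine Finset.card_le_card_of_injOn
      (fun g => if hg : g ∈ alternatingGroup (Fin 6) then ⟨g, hg⟩ else 1) ?_ ?_
    · intro g hg
      simp only [Finset.coe_filter, Finset.mem_univ, true_and, Set.mem_ofPred_eq] at hg
      have h3 := isThreeCycle_of_pow_eq_one hg.1 hg.2
      simp only [A, Finset.coe_filter, Finset.mem_univ, true_and, Set.mem_ofPred_eq, dif_pos h3.mem_alternatingGroup]
      exact h3
    · intro g hg g' hg' h
      simp only [Finset.coe_filter, Finset.mem_univ, true_and, Set.mem_ofPred_eq] at hg hg'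
      simp only [dif_pos (isThreeCycle_of_pow_eq_one hg.1 hg.2).mem_alternatingGroup,
        dif_pos (isThreeCycle_of_pow_eq_one hg'.1 hg'.2).mem_alternatingGroup] at h
      exact congrArg Subtype.val h
  have himg : A.image ψ = B := Finset.eq_of_subset_of_card_le (fun y hy => by
    obtain ⟨a, ha, rfl⟩ := Finset.mem_image.1 hy
    exact hAB a (Finset.mem_filter.1 ha).2) hcard
  -- iterates alternate
  have halt : ∀ i : ℕ, (Even i → IsThreeCycle (((ψ ^ i) x : alternatingGroup (Fin 6)) : Perm (Fin 6))) ∧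
      (Odd i → (ψ ^ i) x ∈ B) := by
    intro i
    induction i with
    | zero => exact ⟨fun _ => by simpa using hx, fun h => absurd h (by decide)⟩
    | succ i ih =>
      have e : (ψ ^ (i + 1)) x = ψ ((ψ ^ i) x) := by rw [pow_succ', MulAut.mul_apply]
      rw [e]
      refine ⟨fun h => ?_, fun h => hAB _ (ih.1 (by simpa [Nat.odd_add_one] using h))⟩
      have hB := ih.2 (by simpa [Nat.even_add_one] using h)
      obtain ⟨a, ha, hae⟩ := Finset.mem_image.1 (himg ▸ hB)
      have ha' := (Finset.mem_filter.1 ha).2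
      rw [← hae]
      set y := ψ (ψ a) with hy
      have h3 : orderOf (y : Perm (Fin 6)) = 3 := by
        rw [Subgroup.orderOf_coe, hy, MulEquiv.orderOf_eq, MulEquiv.orderOf_eq, ← Subgroup.orderOf_coe, ha'.orderOf]
      obtain ⟨k, hk⟩ := cycleType_prime_order (σ := (y : Perm (Fin 6))) (h3 ▸ Nat.prime_three)
      rw [h3] at hk
      have hsum := sum_cycleType (y : Perm (Fin 6))
      rw [hk, Multiset.sum_replicate, smul_eq_mul] at hsum
      have hle : (y : Perm (Fin 6)).support.card ≤ 6 := by
        simpa using Finset.card_le_univ (y : Perm (Fin 6)).support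
      have hy3 : (y : Perm (Fin 6)) ^ 3 = 1 := by conv_lhs => rw [← h3]
                                                  exact pow_orderOf_eq_one _
      have hne : (y : Perm (Fin 6)).support.card ≠ 6 := by
        intro h6
        have hyB : y ∈ A.image ψ := himg.symm ▸ Finset.mem_filter.2 ⟨Finset.mem_univ _, hy3, h6⟩
        obtain ⟨a', ha1, ha2⟩ := Finset.mem_image.1 hyB
        have h2 : (ψ a : Perm (Fin 6)).support.card = 6 := (Finset.mem_filter.1 (hAB a ha')).2.2
        have e2 : a' = ψ a := ψ.injective ha2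
        have h4 : (a' : Perm (Fin 6)).support.card = 3 := (Finset.mem_filter.1 ha1).2.card_support
        rw [e2, h2] at h4
        omega
      exact isThreeCycle_of_pow_eq_one hy3 (by omega)
  have h1 := (halt (orderOf ψ)).2 hψ
  rw [pow_orderOf_eq_one, MulAut.one_apply] at h1
  have := (Finset.mem_filter.1 h1).2.2
  rw [hx.card_support] at this
  omega

/-- An automorphism of odd order of `A_n` is conjugation by a permutation. -/
theorem exists_conjNormal_of_odd {n : ℕ} (hn : 5 ≤ n) (ψ : MulAut (alternatingGroup (Fin n)))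
    (hψ : Odd (orderOf ψ)) : ∃ σ : Perm (Fin n), MulAut.conjNormal σ = ψ := by
  by_cases h6 : n = 6
  · subst h6
    exact Alternating.exists_conjNormal_eq_of_threeCycle (by simp) ψ (six_preserve ψ hψ)
  · exact Alternating.conjNormal_surjective (by simp; omega) (by simpa using h6) ψ

/-- For `n < q * q` and `q` odd the Sylow `q`-subgroups are abelian. -/
theorem sylow_comm {n q : ℕ} [hq : Fact q.Prime] (hn : 5 ≤ n) (hq2 : q ≠ 2) (hlt : n < q * q)
    (G : Subgroup (MulAut (alternatingGroup (Fin n)))) (Q : Sylow q G) :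
    IsMulCommutative (Q : Subgroup G) := by
  let f : Perm (Fin n) →* MulAut (alternatingGroup (Fin n)) := MulAut.conjNormal
  have hf : Function.Injective f := Alternating.conjNormal_injective (by simp; omega)
  set Q₁ : Subgroup (MulAut (alternatingGroup (Fin n))) := (Q : Subgroup G).map G.subtype
  have hQ₁ : IsPGroup q Q₁ := Q.2.map _
  have hP : IsPGroup q ↥(Q₁.comap f) := hQ₁.comap_of_injective f hf
  have key : ∀ z : Q, ∃ σ : Q₁.comap f, f σ = ((z : G) : MulAut (alternatingGroup (Fin n))) := by
    intro z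
    have hz : ((z : G) : MulAut (alternatingGroup (Fin n))) ∈ Q₁ := ⟨z, z.2, rfl⟩
    obtain ⟨k, hk⟩ := IsPGroup.iff_orderOf.1 hQ₁ ⟨_, hz⟩
    rw [Subgroup.orderOf_mk] at hk
    obtain ⟨σ, hσ⟩ := exists_conjNormal_of_odd hn _ (by
      rw [hk]; exact (hq.out.odd_of_ne_two hq2).pow)
    exact ⟨⟨σ, show f σ ∈ Q₁ from hσ ▸ hz⟩, hσ⟩
  refine ⟨⟨fun a b => ?_⟩⟩
  obtain ⟨σ, hσ⟩ := key a
  obtain ⟨τ, hτ⟩ := key b
  apply Subtype.ext; apply Subtype.ext
  show ((a : G) : MulAut (alternatingGroup (Fin n))) * ((b : G) : MulAut (alternatingGroup (Fin n))) =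
    ((b : G) : MulAut (alternatingGroup (Fin n))) * ((a : G) : MulAut (alternatingGroup (Fin n)))
  rw [← hσ, ← hτ, ← map_mul, ← map_mul]
  exact congrArg f (congrArg Subtype.val (comm_of_lt hlt _ hP σ τ))

theorem exists_even_pq {n q r : ℕ} (hle : q + r ≤ n) (a : Perm (Fin q)) (b : Perm (Fin r))
    (ha : sign a = 1) (hb : sign b = 1) :
    ∃ g : alternatingGroup (Fin n), orderOf g = Nat.lcm (orderOf a) (orderOf b) := by
  classical
  let e : Fin q ⊕ Fin r ↪ Fin n := finSumFinEquiv.toEmbedding.trans (Fin.castLEEmb hle)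
  let e' : Fin q ⊕ Fin r ≃ {y // y ∈ Set.range e} := Equiv.ofInjective e e.injective
  let φ : Perm (Fin q) × Perm (Fin r) →* Perm (Fin n) :=
    (extendDomainHom e').comp (sumCongrHom (Fin q) (Fin r))
  have hφ : Function.Injective φ :=
    (extendDomainHom_injective e').comp sumCongrHom_injective
  have hs : sign (φ (a, b)) = 1 := by
    show sign ((Equiv.Perm.sumCongr a b).extendDomain e') = 1
    rw [sign_extendDomain, sign_sumCongr, ha, hb, one_mul]
  refine ⟨⟨φ (a, b), mem_alternatingGroup.2 hs⟩, ?_⟩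
  rw [Subgroup.orderOf_mk, orderOf_injective φ hφ, Prod.orderOf_mk]

theorem orderOf_finRotate {q : ℕ} (hq : 2 ≤ q) : orderOf (finRotate q) = q := by
  obtain ⟨m, rfl⟩ : ∃ m, q = m + 2 := ⟨q - 2, by omega⟩
  rw [Equiv.Perm.IsCycle.orderOf isCycle_finRotate, support_finRotate, Finset.card_univ, Fintype.card_fin]

theorem sign_finRotate_odd {q : ℕ} (hq : Odd q) : sign (finRotate q) = 1 := by
  obtain ⟨m, rfl⟩ : ∃ m, q = m + 1 := ⟨q - 1, by have := hq.pos; omega⟩
  rw [sign_finRotate]
  exact Even.neg_one_pow (by simpa [Nat.odd_add_one] using hq)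

theorem main (n : ℕ) (hn : 5 ≤ n) (G : Subgroup (MulAut (alternatingGroup (Fin n))))
    (hG : (MulAut.conj : alternatingGroup (Fin n) →* MulAut (alternatingGroup (Fin n))).range ≤ G)
    (p q : ℕ) [hp : Fact p.Prime] [hq : Fact q.Prime] (hpq : p ≠ q)
    (h : ∀ g : G, orderOf g ≠ p * q) :
    (∀ P : Sylow p G, IsMulCommutative (P : Subgroup G)) ∨
      (∀ Q : Sylow q G, IsMulCommutative (Q : Subgroup G)) := by
  have hno : ∀ g : alternatingGroup (Fin n), orderOf g ≠ p * q := by
    intro g hg
    have hinj : Function.Injective (MulAut.conj : alternatingGroup (Fin n) →* MulAut (alternatingGroup (Fin n))) := by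
      intro x y hxy
      apply Subtype.ext
      apply Alternating.conjNormal_injective (α := Fin n) (by simp; omega)
      refine MulEquiv.ext fun z => Subtype.ext ?_
      rw [MulAut.conjNormal_apply, MulAut.conjNormal_apply]
      exact congrArg (fun e : MulAut (alternatingGroup (Fin n)) => (e z : Perm (Fin n))) hxy
    refine h ⟨MulAut.conj g, hG ⟨g, rfl⟩⟩ ?_
    rw [Subgroup.orderOf_mk, orderOf_injective _ hinj, hg]
  have hbig : ∀ a b : ℕ, a.Prime → b.Prime → a ≠ b → Odd b → (a ≠ 2 → a * a ≤ n) → b * b ≤ n →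
      ∃ g : alternatingGroup (Fin n), orderOf g = a * b := by
    intro a b ha hb hab hbo han hbn
    have hb3 : 3 ≤ b := by
      rcases hb.two_le.lt_or_eq with h' | h'
      · exact h'
      · exact absurd (h' ▸ hbo) (by decide)
    by_cases ha2 : a = 2
    · subst ha2
      have hb4 : b + 4 ≤ n := le_trans (by nlinarith) hbn
      obtain ⟨g, hg⟩ := exists_even_pq (n := n) (q := b) (r := 4) hb4 (finRotate b)
        (swap (0 : Fin 4) 1 * swap (2 : Fin 4) 3) (sign_finRotate_odd hbo) (by decide)
      refine ⟨g, ?_⟩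
      rw [hg, orderOf_finRotate hb.two_le, orderOf_eq_prime (p := 2) (by decide) (by decide),
        (Nat.coprime_two_right.2 hbo).lcm_eq_mul, mul_comm]
    · have han' := han ha2
      have ha3 : 3 ≤ a := lt_of_le_of_ne ha.two_le (Ne.symm ha2)
      have hab' : a + b ≤ n := by
        rcases le_total a b with h' | h'
        · exact le_trans (by nlinarith) hbn
        · exact le_trans (by nlinarith) han'
      obtain ⟨g, hg⟩ := exists_even_pq (n := n) hab' (finRotate a) (finRotate b)
        (sign_finRotate_odd (ha.odd_of_ne_two ha2)) (sign_finRotate_odd hbo)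
      refine ⟨g, ?_⟩
      rw [hg, orderOf_finRotate ha.two_le, orderOf_finRotate hb.two_le,
        ((Nat.coprime_primes ha hb).2 hab).lcm_eq_mul]
  by_cases hp2 : p = 2
  · have hq2 : q ≠ 2 := fun e => hpq (hp2.trans e.symm)
    refine Or.inr fun Q => sylow_comm hn hq2 (not_le.1 fun hle => ?_) G Q
    obtain ⟨g, hg⟩ := hbig p q hp.out hq.out hpq (hq.out.odd_of_ne_two hq2) (fun h' => absurd hp2 h') hle
    exact hno g hg
  · by_cases hpn : n < p * p
    · exact Or.inl fun P => sylow_comm hn hp2 hpn G P
    refine Or.inr fun Q => ?_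
    by_cases hq2 : q = 2
    · obtain ⟨g, hg⟩ := hbig q p hq.out hp.out hpq.symm (hp.out.odd_of_ne_two hp2)
        (fun h' => absurd hq2 h') (not_lt.1 hpn)
      exact absurd (hg.trans (mul_comm q p)) (hno g)
    · refine sylow_comm hn hq2 (not_le.1 fun hle => ?_) G Q
      obtain ⟨g, hg⟩ := hbig p q hp.out hq.out hpq (hq.out.odd_of_ne_two hq2) (fun _ => not_lt.1 hpn) hle
      exact hno g hg

end Cfsg.Agent.Lib.Fgs9.AlternatingSylow
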