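import Cfsg.Agent.Lib.Fgs9.Kegel
import Cfsg.Agent.Lib.Frobenius.PComplement

/-!
# Thompson's criterion in the form used by `Splitting`
-/

namespace Cfsg.Agent.Lib.Fgs9.Criterion

universe u

theorem thompsonCriterion : Splitting.ThompsonCriterion.{u} :=
  fun _G _ _ _q _ hq P h1 h2 =>
    Cfsg.Agent.Lib.Frobenius.PComplement.hasNormalPComplement_of_thompson hq P ⟨h1, h2⟩

end Cfsg.Agent.Lib.Fgs9.Criterion
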