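import Cfsg.Agent.Lib.H80.ClassMult
import Mathlib.GroupTheory.Sylow

/-!
# Structure constants inside a self-centralising 3-local subgroup

If `x`, `y`, `z = x * y` satisfy `x ^ 3 = y ^ 3 = z ^ 3 = 1`, the subgroup they generate is a
quotient of the Euclidean triangle group, so has an abelian normal subgroup with cyclic quotient.
When centralisers of the relevant 3-elements lie in `H` this forces `x, y` into `H`.
-/

namespace Cfsg.Agent.Lib.Fgs9.TriangleConstants

open Cfsg.Agent.Lib.Characters.Basic Cfsg.Agent.Lib.Characters.Complete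
open scoped ComplexConjugate

universe u
variable {G : Type u} [Group G] [Finite G]

/-- The triangle lemma. -/
theorem mem_of_triangle (H J : Subgroup G) {x y z : G} (hx : x ^ 3 = 1) (hy : y ^ 3 = 1)
    (hz : z ^ 3 = 1) (hxy : x * y = z) (hzJ : z ∈ J)
    (hP : ∀ P : Subgroup G, IsPGroup 3 P → z ∈ P → P ≤ H)
    (hsc : ∀ w ∈ H, IsConj y w → w ∈ J)
    (hC : ∀ j ∈ J, j ≠ 1 → Subgroup.centralizer ({j} : Set G) ≤ H)
    (hne : ¬ IsConj y z⁻¹) : x ∈ H ∧ y ∈ H := by
  haveI : Fact (Nat.Prime 3) := ⟨Nat.prime_three⟩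
  have hy' : y⁻¹ = y * y := inv_eq_of_mul_eq_one_right (by rw [← hy, pow_succ, pow_two]; group)
  have hx' : x⁻¹ = x * x := inv_eq_of_mul_eq_one_right (by rw [← hx, pow_succ, pow_two]; group)
  have h6 : x * y * x * (y * x * y) = 1 := by
    have : (x * y) ^ 3 = 1 := by rw [hxy, hz]
    rw [← this, pow_succ, pow_two]; group
  obtain ⟨u, hu⟩ : ∃ u, u = x * y⁻¹ := ⟨_, rfl⟩
  obtain ⟨v, hv⟩ : ∃ v, v = y⁻¹ * x := ⟨_, rfl⟩
  have huv1 : u * v = x * y * x := by
    rw [hu, hv]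
    calc x * y⁻¹ * (y⁻¹ * x) = x * (y⁻¹ * y⁻¹) * x := by group
      _ = x * y * x := by
        congr 2
        rw [show y⁻¹ * y⁻¹ = (y * y)⁻¹ by group, ← hy', inv_inv]
  have hvu1 : v * u = (y * x * y)⁻¹ := by
    rw [hu, hv]
    calc y⁻¹ * x * (x * y⁻¹) = y⁻¹ * (x * x) * y⁻¹ := by group
      _ = (y * x * y)⁻¹ := by rw [← hx']; group
  have huv : u * v = v * u := by rw [huv1, hvu1]; exact eq_inv_of_mul_eq_one_left h6
  let A : Subgroup G := Subgroup.closure {u, v}
  have huA : u ∈ A := Subgroup.subset_closure (Set.mem_insert _ _)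
  have hvA : v ∈ A := Subgroup.subset_closure (Set.mem_insert_of_mem _ rfl)
  have hA1 : ∀ a ∈ A, a * u = u * a ∧ a * v = v * a := by
    intro a ha
    have : A ≤ Subgroup.centralizer ({u} : Set G) ⊓ Subgroup.centralizer ({v} : Set G) := by
      rw [Subgroup.closure_le]
      rintro w (rfl | rfl) <;> refine Subgroup.mem_inf.2 ⟨?_, ?_⟩ <;>
        rw [Subgroup.mem_centralizer_singleton_iff]
      · exact huv
      · exact huv.symm
    have h := this ha
    exact ⟨Subgroup.mem_centralizer_singleton_iff.1 (Subgroup.mem_inf.1 h).1,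
      Subgroup.mem_centralizer_singleton_iff.1 (Subgroup.mem_inf.1 h).2⟩
  have hAab : ∀ a ∈ A, ∀ b ∈ A, a * b = b * a := by
    intro a ha b hb
    have : A ≤ Subgroup.centralizer ({a} : Set G) := by
      rw [Subgroup.closure_le]
      rintro w (rfl | rfl) <;> rw [SetLike.mem_coe, Subgroup.mem_centralizer_singleton_iff]
      · exact (hA1 a ha).1.symm
      · exact (hA1 a ha).2.symm
    exact (Subgroup.mem_centralizer_singleton_iff.1 (this hb)).symm
  have hyu : y * u * y⁻¹ = (u * v)⁻¹ := by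
    rw [huv1, hu]
    calc y * (x * y⁻¹) * y⁻¹ = y * x * (y⁻¹ * y⁻¹) := by group
      _ = y * x * y := by
        congr 1
        rw [show y⁻¹ * y⁻¹ = (y * y)⁻¹ by group, ← hy', inv_inv]
      _ = _ := eq_inv_of_mul_eq_one_right h6
  have hyv : y * v * y⁻¹ = u := by rw [hu, hv]; group
  have hyN : y ∈ Subgroup.normalizer (A : Set G) := by
    apply Subgroup.mem_normalizer_fintype
    intro n hn
    have hle : A ≤ A.comap (MulAut.conj y).toMonoidHom := by
      rw [Subgroup.closure_le]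
      rintro w (rfl | rfl) <;>
        simp only [SetLike.mem_coe, Subgroup.mem_comap, MulEquiv.coe_toMonoidHom,
          MulAut.conj_apply]
      · rw [hyu]; exact inv_mem (mul_mem huA hvA)
      · rw [hyv]; exact huA
    simpa using hle hn
  have hZN : Subgroup.zpowers y ≤ Subgroup.normalizer (A : Set G) :=
    Subgroup.zpowers_le.2 hyN
  let L : Subgroup G := A ⊔ Subgroup.zpowers y
  have hyL : y ∈ L := Subgroup.mem_sup_right (Subgroup.mem_zpowers y)
  have huL : u ∈ L := Subgroup.mem_sup_left huA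
  have hxL : x ∈ L := by
    have h : x = u * y := by rw [hu]; group
    rw [h]; exact mul_mem huL hyL
  have hzL : z ∈ L := hxy ▸ mul_mem hxL hyL
  have hzp : IsPGroup 3 (Subgroup.zpowers (⟨z, hzL⟩ : L)) := by
    intro w
    refine ⟨1, ?_⟩
    obtain ⟨w, k, rfl⟩ := w
    apply Subtype.ext; apply Subtype.ext
    simp only [SubmonoidClass.coe_pow, SubgroupClass.coe_zpow, OneMemClass.coe_one, pow_one]
    rw [← zpow_natCast, ← zpow_mul, mul_comm, zpow_mul, zpow_natCast, hz, one_zpow]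
  have hyp : IsPGroup 3 (Subgroup.zpowers (⟨y, hyL⟩ : L)) := by
    intro w
    refine ⟨1, ?_⟩
    obtain ⟨w, k, rfl⟩ := w
    apply Subtype.ext; apply Subtype.ext
    simp only [SubmonoidClass.coe_pow, SubgroupClass.coe_zpow, OneMemClass.coe_one, pow_one]
    rw [← zpow_natCast, ← zpow_mul, mul_comm, zpow_mul, zpow_natCast, hy, one_zpow]
  obtain ⟨P, hPz⟩ := hzp.exists_le_sylow
  obtain ⟨P', hPy⟩ := hyp.exists_le_sylow
  obtain ⟨l, hl⟩ := MulAction.exists_smul_eq L P' P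
  have hy0 : l * ⟨y, hyL⟩ * l⁻¹ ∈ (P : Subgroup L) := by
    rw [← hl, Sylow.coe_subgroup_smul]
    exact Subgroup.smul_mem_pointwise_smul _ (MulAut.conj l) _ (hPy (Subgroup.mem_zpowers _))
  have hPG : ((P : Subgroup L).map L.subtype) ≤ H :=
    hP _ (P.isPGroup'.map L.subtype)
      (Subgroup.mem_map.2 ⟨⟨z, hzL⟩, hPz (Subgroup.mem_zpowers _), rfl⟩)
  obtain ⟨y0, hy0def⟩ : ∃ y0, y0 = (l : G) * y * (l : G)⁻¹ := ⟨_, rfl⟩
  have hy0H : y0 ∈ H := hPG (Subgroup.mem_map.2 ⟨_, hy0, by rw [hy0def]; rfl⟩)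
  have hc : IsConj y y0 := isConj_iff.2 ⟨l, hy0def.symm⟩
  have hy0J : y0 ∈ J := hsc _ hy0H hc
  have hw1 : y0 * z ≠ 1 := by
    intro h
    apply hne
    rwa [← eq_inv_of_mul_eq_one_left h]
  have hwA : y0 * z ∈ A := by
    have hl2 : (l : G) ∈ (↑(A ⊔ Subgroup.zpowers y) : Set G) := l.2
    rw [Subgroup.coe_mul_of_right_le_normalizer_left _ _ hZN] at hl2
    obtain ⟨a, ha, b, hb, hab⟩ := hl2
    obtain ⟨k, rfl⟩ := Subgroup.mem_zpowers_iff.1 hb
    have h1 : y0 = a * (y * a⁻¹ * y⁻¹) * y := by rw [hy0def, ← hab]; group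
    have h2 : y * z = (u * v)⁻¹ := by
      rw [huv1, ← hxy, ← mul_assoc]; exact eq_inv_of_mul_eq_one_right h6
    rw [h1, mul_assoc _ y z, h2]
    exact mul_mem (mul_mem ha ((Subgroup.mem_normalizer_iff.1 hyN _).1 (inv_mem ha)))
      (inv_mem (mul_mem huA hvA))
  have hCw := hC _ (mul_mem hy0J hzJ) hw1
  have hAH : ∀ a ∈ A, a ∈ H := fun a ha =>
    hCw (Subgroup.mem_centralizer_singleton_iff.2 (hAab a ha _ hwA))
  have hzH : z ∈ H := hPG (Subgroup.mem_map.2 ⟨⟨z, hzL⟩, hPz (Subgroup.mem_zpowers _), rfl⟩)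
  have hyy : y * y ∈ H := by
    have h : y * y = u⁻¹ * z := by rw [hu, ← hxy]; group
    rw [h]; exact mul_mem (inv_mem (hAH u huA)) hzH
  have hyH : y ∈ H := by
    have h : y = (y * y)⁻¹ := by rw [← hy', inv_inv]
    rw [h]; exact inv_mem hyy
  refine ⟨?_, hyH⟩
  have h : x = u * y := by rw [hu]; group
  rw [h]; exact mul_mem (hAH u huA) hyH

omit [Finite G] in
/-- The weighted triple sum counts solutions of `x * y^a ~ z`. -/
theorem card_mul_sum [Fintype G] [Fintype (Cfsg.IrrCharacter G)] (x y z : G) :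
    (Nat.card G : ℂ) * ∑ χ : Cfsg.IrrCharacter G,
      (χ : G → ℂ) x * (χ : G → ℂ) y * conj ((χ : G → ℂ) z) / (χ : G → ℂ) 1 =
      (Nat.card {a : G // IsConj (x * (a * y * a⁻¹)) z} : ℂ) *
        (Nat.card (Subgroup.centralizer ({z} : Set G)) : ℂ) := by
  classical
  have h1 : ∀ χ : Cfsg.IrrCharacter G,
      (Nat.card G : ℂ) *
        ((χ : G → ℂ) x * (χ : G → ℂ) y * conj ((χ : G → ℂ) z) / (χ : G → ℂ) 1) =
      ∑ a : G, (χ : G → ℂ) (x * (a * y * a⁻¹)) * conj ((χ : G → ℂ) z) := by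
    intro χ
    rw [← Finset.sum_mul, Cfsg.Agent.Lib.H80.ClassMult.sum_apply_mul_conj]
    ring
  rw [Finset.mul_sum, Finset.sum_congr rfl fun χ _ => h1 χ, Finset.sum_comm]
  simp only [sum_irr_mul_conj]
  have h2 : ∀ a : G, IsConj (x * (a * y * a⁻¹)) z →
      (Nat.card (Subgroup.centralizer ({x * (a * y * a⁻¹)} : Set G)) : ℂ) =
        (Nat.card (Subgroup.centralizer ({z} : Set G)) : ℂ) := by
    intro a h
    have e1 := card_conjugates_mul_centralizer (x * (a * y * a⁻¹))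
    have e2 := card_conjugates_mul_centralizer z
    have e3 : Nat.card {w : G // IsConj (x * (a * y * a⁻¹)) w} =
        Nat.card {w : G // IsConj z w} :=
      Nat.card_congr (_root_.Equiv.subtypeEquivRight fun w => ⟨h.symm.trans, h.trans⟩)
    rw [e3] at e1
    haveI : Nonempty {w : G // IsConj z w} := ⟨⟨z, IsConj.refl z⟩⟩
    rw [Nat.eq_of_mul_eq_mul_left Nat.card_pos (e1.trans e2.symm)]
  refine Eq.trans (Finset.sum_congr (s₂ := Finset.univ) rfl
    (g := fun a : G => (if IsConj (x * (a * y * a⁻¹)) z then (1 : ℂ) else 0) *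
      (Nat.card (Subgroup.centralizer ({z} : Set G)) : ℂ)) fun a _ => ?_) ?_
  · by_cases h : IsConj (x * (a * y * a⁻¹)) z
    · rw [if_pos h, if_pos h, one_mul, h2 a h]
    · rw [if_neg h, if_neg h, zero_mul]
  · rw [← Finset.sum_mul, Finset.sum_boole, Nat.card_eq_fintype_card
      (α := {a : G // IsConj (x * (a * y * a⁻¹)) z}), Fintype.card_subtype]

end Cfsg.Agent.Lib.Fgs9.TriangleConstants
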