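import Cfsg.Agent.Lib.PSolvable.HallHigman
import Cfsg.Agent.Lib.Induced.Burnside
import Cfsg.Agent.S4218

/-!
# Groups of exponent six

Owner: helper73. Namespace `Cfsg.Agent.Lib.Fgs9.ExponentSix`.
-/

set_option autoImplicit false

namespace Cfsg.Agent.Lib.Fgs9.ExponentSix

open Subgroup
open Cfsg.Agent.Lib
open scoped commutatorElement

theorem isPGroup_two {G : Type*} [Group G] [Finite G] (h : ∀ x : G, x ^ 6 = 1) {x : G}
    (hx : ∃ k, x ^ 2 ^ k = 1) : x ^ 2 = 1 := by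
  obtain ⟨k, hk⟩ := hx
  have h1 : orderOf x ∣ Nat.gcd (2 ^ k) 6 :=
    Nat.dvd_gcd (orderOf_dvd_of_pow_eq_one hk) (orderOf_dvd_of_pow_eq_one (h x))
  refine orderOf_dvd_iff_pow_eq_one.1 (h1.trans ?_)
  have h2 : Nat.gcd (2 ^ k) 6 ∣ 2 * Nat.gcd (2 ^ k) 3 := by
    calc Nat.gcd (2 ^ k) 6 ∣ Nat.gcd (2 ^ k) 2 * Nat.gcd (2 ^ k) 3 := Nat.gcd_mul_right_dvd_mul_gcd _ 2 3
      _ ∣ 2 * Nat.gcd (2 ^ k) 3 := mul_dvd_mul_right (Nat.gcd_dvd_right _ _) _
  rwa [show Nat.gcd (2 ^ k) 3 = 1 from Nat.Coprime.pow_left k (by decide), mul_one] at h2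

theorem pow_three_of_odd {G : Type*} [Group G] (h : ∀ x : G, x ^ 6 = 1) {x : G}
    (hx : Odd (orderOf x)) : x ^ 3 = 1 := by
  refine orderOf_dvd_iff_pow_eq_one.1 (Nat.Coprime.dvd_of_dvd_mul_left ?_
    (show orderOf x ∣ 2 * 3 from orderOf_dvd_of_pow_eq_one (h x)))
  exact Nat.coprime_two_right.2 hx

/-- A normal `2`-subgroup of a group of exponent six is centralised by every involution. -/
theorem sq_eq_one_mem_centralizer {G : Type*} [Group G] [Finite G] (h : ∀ x : G, x ^ 6 = 1)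
    {y : G} (hy : y ^ 2 = 1) {W : Subgroup G} [W.Normal] (hW : IsPGroup 2 W) :
    y ∈ centralizer (W : Set G) := by
  have hyp : IsPGroup 2 (zpowers y) := by
    rintro ⟨_, i, rfl⟩
    refine ⟨1, Subtype.ext ?_⟩
    show (y ^ i) ^ (2 ^ 1) = 1
    rw [pow_one, ← zpow_natCast, zpow_comm, zpow_natCast, hy, one_zpow]
  have hS := hyp.to_sup_of_normal_right hW
  have hsq : ∀ z ∈ zpowers y ⊔ W, z ^ 2 = 1 := by
    intro z hz
    obtain ⟨k, hk⟩ := hS ⟨z, hz⟩
    exact isPGroup_two h ⟨k, congrArg Subtype.val hk⟩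
  rw [mem_centralizer_iff]
  intro w hw
  have hyS : y ∈ zpowers y ⊔ W := mem_sup_left (mem_zpowers y)
  have hwS : w ∈ zpowers y ⊔ W := mem_sup_right hw
  have inv : ∀ z ∈ zpowers y ⊔ W, z⁻¹ = z := fun z hz =>
    inv_eq_of_mul_eq_one_right (by rw [← sq]; exact hsq z hz)
  have := inv (y * w) (mul_mem hyS hwS)
  rwa [mul_inv_rev, inv y hyS, inv w hwS] at this

/-- The quadratic action of the lifts of elements of order three forces the absence of such
elements. -/
theorem not_three_dvd {T M : Type*} [Group T] [Finite T] [CommGroup M] (φ : T →* MulAut M)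
    (hinj : Function.Injective φ) (hM : ∀ m : M, m ^ 3 = 1) (hT : ∀ t : T, t ^ 6 = 1)
    (hcore : Cfsg.pCore 3 T = ⊥) (hsolv : Cfsg.IsPSolvable 2 T)
    (hquad : ∀ t : T, t ^ 3 = 1 → ∀ m, m * φ t m * φ (t * t) m = 1) : ¬ 3 ∣ Nat.card T := by
  haveI : Fact (Nat.Prime 2) := ⟨Nat.prime_two⟩
  haveI : Fact (Nat.Prime 3) := ⟨Nat.prime_three⟩
  intro h3
  obtain ⟨x, hx⟩ := exists_prime_orderOf_dvd_card' 3 h3
  have hx3 : x ^ 3 = 1 := by rw [← hx]; exact pow_orderOf_eq_one x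
  have hcore2 : Cfsg.pPrimeCore 2 T = ⊥ := by
    haveI : (Cfsg.pPrimeCore 2 T).Normal := Subgroup.sSup_normal _ fun K hK => hK.1
    rw [← le_bot_iff, ← hcore]
    refine PSolvable.le_pCore inferInstance fun y => ⟨1, Subtype.ext ?_⟩
    show (y : T) ^ (3 ^ 1) = 1
    refine pow_three_of_odd hT (Nat.coprime_two_right.1 ?_)
    exact Nat.Coprime.coprime_dvd_left (Subgroup.orderOf_dvd_natCard _ y.2)
      PSolvable.card_pPrimeCore_coprime
  have hC := PSolvable.centralizer_pCore_le hsolv hcore2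
  set W := Cfsg.pCore 2 T
  haveI : W.Normal := Subgroup.sSup_normal _ fun K hK => hK.1
  have hWp : IsPGroup 2 W := PSolvable.isPGroup_pCore
  have hsq : ∀ w ∈ W, w ^ 2 = 1 := fun w hw => by
    obtain ⟨k, hk⟩ := hWp ⟨w, hw⟩
    exact isPGroup_two hT ⟨k, congrArg Subtype.val hk⟩
  have hmul : ∀ w ∈ W, w * w = 1 := fun w hw => by rw [← sq]; exact hsq w hw
  have hcomm : ∀ a ∈ W, ∀ b ∈ W, a * b = b * a := fun a ha b hb =>
    (mem_centralizer_iff.1 (sq_eq_one_mem_centralizer hT (hsq b hb) hWp) a ha)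
  have hxW : x ∉ W := by
    intro hxm
    have h2 : orderOf x ∣ 2 := orderOf_dvd_of_pow_eq_one (hsq x hxm)
    rw [hx] at h2
    norm_num at h2
  obtain ⟨w, hw, hwx⟩ : ∃ w ∈ W, x * w * x⁻¹ ≠ w := by
    by_contra hc
    push Not at hc
    refine hxW (hC ?_)
    rw [mem_centralizer_iff]
    intro w hw
    conv_lhs => rw [← hc w hw]
    group
  have hconj : ∀ a ∈ W, x * a * x⁻¹ ∈ W := fun a ha => ‹W.Normal›.conj_mem a ha x
  obtain ⟨σ, hσd⟩ : ∃ σ : T → T, ∀ a, σ a = x * a * x⁻¹ := ⟨_, fun _ => rfl⟩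
  have hσ : ∀ a b, σ (a * b) = σ a * σ b := fun a b => by simp only [hσd]; group
  have hσ3 : ∀ a, σ (σ (σ a)) = a := fun a => by
    calc σ (σ (σ a)) = x ^ 3 * a * (x ^ 3)⁻¹ := by simp only [hσd, pow_succ, pow_zero, one_mul]; group
      _ = a := by rw [hx3]; group
  have hσW : ∀ a ∈ W, σ a ∈ W := fun a ha => hσd a ▸ hconj a ha
  obtain ⟨v, hv⟩ : ∃ v, v = w * σ w := ⟨_, rfl⟩
  obtain ⟨b, hb⟩ : ∃ b, b = σ v := ⟨_, rfl⟩
  obtain ⟨c, hc'⟩ : ∃ c, c = σ b := ⟨_, rfl⟩
  have hvW : v ∈ W := hv ▸ mul_mem hw (hσW w hw)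
  have hbW : b ∈ W := hb ▸ hσW v hvW
  have hcW : c ∈ W := hc' ▸ hσW b hbW
  have hv1 : v ≠ 1 := by
    intro h1
    refine hwx ?_
    calc x * w * x⁻¹ = w⁻¹ * v := by rw [hv, hσd]; group
      _ = w := by rw [h1, mul_one]; exact inv_eq_of_mul_eq_one_right (hmul w hw)
  have hvb : v * b = c := by
    have h2 : σ (σ w) ∈ W := hσW _ (hσW _ hw)
    have e : c = σ (σ w) * w := by rw [hc', hb, hv, hσ, hσ, hσ3]
    rw [e, hb, hv, hσ, ← mul_assoc, mul_assoc w, hmul _ (hσW w hw), mul_one, hcomm _ hw _ h2]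
  have hσc : σ c = v := by rw [hc', hb, hσ3]
  have hbv : b * v = c := by rw [hcomm _ hbW _ hvW, hvb]
  have hvc : v * c = b := by rw [← hvb, ← mul_assoc, hmul v hvW, one_mul]
  have hbc : b * c = v := by rw [← hbv, ← mul_assoc, hmul b hbW, one_mul]
  have hcv : c * v = b := by rw [hcomm _ hcW _ hvW, hvc]
  -- the lifts `u * x`
  have key : ∀ u, u * σ u * σ (σ u) = 1 → ∀ m,
      m * φ u (φ x m) * φ (u * σ u) (φ (x * x) m) = 1 := by
    intro u hu m
    have h1 : (u * x) ^ 3 = 1 := by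
      calc (u * x) ^ 3 = u * σ u * σ (σ u) * x ^ 3 := by simp only [hσd, pow_succ, pow_zero]; group
        _ = 1 := by rw [hu, hx3, one_mul]
    have h2 := hquad (u * x) h1 m
    have e : u * x * (u * x) = u * σ u * (x * x) := by simp only [hσd]; group
    rwa [e, map_mul φ (u * σ u), map_mul φ u, MulAut.mul_apply, MulAut.mul_apply] at h2
  have e1 := key 1 (by simp [hσd])
  have e2 := key v (by rw [← hb, ← hc', hvb, hmul c hcW])
  have e3 := key b (by rw [← hc', hσc, hbc, hmul v hvW])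
  have e4 := key c (by rw [hσc, ← hb, hcv, hmul b hbW])
  rw [show σ 1 = 1 from by simp [hσd], one_mul] at e1
  rw [← hb, hvb] at e2
  rw [← hc', hbc] at e3
  rw [hσc, hcv] at e4
  -- the sum over the four lifts
  let Em : M → M := fun m => m * φ v m * φ b m * φ c m
  have hE : ∀ m, φ v (Em m) = Em m := by
    intro m
    simp only [Em, map_mul, ← MulAut.mul_apply]
    rw [← map_mul φ, ← map_mul φ, ← map_mul φ, hmul v hvW, hvb, hvc, map_one, MulAut.one_apply]
    simp only [mul_comm, mul_left_comm, mul_assoc]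
  have hsum : ∀ m, m ^ 4 * (Em (φ x m) * Em (φ (x * x) m)) = 1 := by
    intro m
    have := congrArg₂ (· * ·) (congrArg₂ (· * ·) (e1 m) (e2 m)) (congrArg₂ (· * ·) (e3 m) (e4 m))
    simp only [mul_one, map_one, MulAut.one_apply] at this
    refine Eq.trans ?_ this
    simp only [Em, pow_succ, pow_zero, one_mul]
    ac_rfl
  refine hv1 (hinj ?_)
  rw [map_one]
  ext m
  rw [MulAut.one_apply]
  have h4 := congrArg (φ v) (hsum m)
  rw [map_mul, map_mul, hE, hE, map_one, map_pow, ← hsum m, mul_left_inj] at h4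
  rwa [pow_succ (φ v m) 3, pow_succ m 3, hM, hM, one_mul, one_mul] at h4

theorem pLengthLE_one {G : Type*} [Group G] [Finite G] {p : ℕ}
    (h : (Cfsg.pCore p (G ⧸ (Cfsg.upperPSeries p G 1).1)).index.Coprime p) :
    Cfsg.PLengthLE p 1 G := by
  have e2 := PSolvable.upperPSeries_even (p := p) (G := G) 0
  have hc : (Nat.card (G ⧸ (Cfsg.upperPSeries p G (2 * 1)).1)).Coprime p := by
    rw [← Subgroup.index_eq_card, show 2 * 1 = 2 * 0 + 2 from rfl, e2,
      Subgroup.index_comap_of_surjective _ (QuotientGroup.mk'_surjective _)]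
    exact h
  have ht : Cfsg.pPrimeCore p (G ⧸ (Cfsg.upperPSeries p G (2 * 1)).1) = ⊤ := by
    rw [eq_top_iff]
    exact PSolvable.le_pPrimeCore inferInstance (by rwa [Subgroup.card_top])
  show (Cfsg.upperPSeries p G (2 * 1 + 1)).1 = ⊤
  rw [PSolvable.upperPSeries_odd, ht, Subgroup.comap_top]

universe u in
theorem isSolvable {G : Type u} [Group G] [Finite G] (h : ∀ x : G, x ^ 6 = 1) :
    Group.IsSolvable G := by
  have hd : ∀ r, r.Prime → r ∣ Nat.card G → r = 2 ∨ r = 3 := by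
    intro r hr hrd
    haveI := Fact.mk hr
    obtain ⟨x, hx⟩ := exists_prime_orderOf_dvd_card' r hrd
    have h6 : r ∣ 2 * 3 := hx ▸ orderOf_dvd_of_pow_eq_one (h x)
    rcases hr.dvd_mul.1 h6 with h' | h'
    · exact Or.inl ((Nat.prime_dvd_prime_iff_eq hr Nat.prime_two).1 h')
    · exact Or.inr ((Nat.prime_dvd_prime_iff_eq hr Nat.prime_three).1 h')
  refine Induced.Burnside.isSolvable_of_card_eq 2 3 ((Nat.card G).factorization 2)
    ((Nat.card G).factorization 3) Nat.prime_two Nat.prime_three ?_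
  have hn : Nat.card G ≠ 0 := Nat.card_pos.ne'
  refine Nat.eq_of_factorization_eq hn (by positivity) fun r => ?_
  rw [Nat.factorization_mul (by positivity) (by positivity),
    Nat.prime_two.factorization_pow, Nat.prime_three.factorization_pow]
  simp only [Finsupp.add_apply, Finsupp.single_apply]
  by_cases hr : r.Prime
  · by_cases hrd : r ∣ Nat.card G
    · rcases hd r hr hrd with rfl | rfl <;> simp
    · rw [Nat.factorization_eq_zero_of_not_dvd hrd]
      by_cases h2 : 2 = r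
      · subst h2; simp [Nat.factorization_eq_zero_of_not_dvd hrd]
      · by_cases h3 : 3 = r
        · subst h3; simp [Nat.factorization_eq_zero_of_not_dvd hrd]
        · simp [h2, h3]
  · have h2 : 2 ≠ r := fun e => hr (e ▸ Nat.prime_two)
    have h3 : 3 ≠ r := fun e => hr (e ▸ Nat.prime_three)
    simp [Nat.factorization_eq_zero_of_not_prime _ hr, h2, h3]

theorem pLengthLE_two {G : Type*} [Group G] [Finite G] (h : ∀ x : G, x ^ 6 = 1) :
    Cfsg.PLengthLE 2 1 G := by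
  haveI : Fact (Nat.Prime 2) := ⟨Nat.prime_two⟩
  haveI := isSolvable h
  refine pLengthLE_one ?_
  set U := (Cfsg.upperPSeries 2 G 1).1
  have hQ : ∀ x : G ⧸ U, x ^ 6 = 1 := fun x => by
    obtain ⟨g, rfl⟩ := QuotientGroup.mk'_surjective U x
    rw [← map_pow, h, map_one]
  have hC := PSolvable.centralizer_pCore_le
    (PSolvable.isPSolvable_quotient PSolvable.isPSolvable_of_isSolvable U)
    (PSolvable.pPrimeCore_quotient_upperPSeries (p := 2) (G := G) 0)
  haveI : (Cfsg.pCore 2 (G ⧸ U)).Normal := Subgroup.sSup_normal _ fun K hK => hK.1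
  rw [Subgroup.index_eq_card, Nat.coprime_comm, Nat.prime_two.coprime_iff_not_dvd]
  intro hd
  obtain ⟨y, hy⟩ := exists_prime_orderOf_dvd_card' 2 hd
  obtain ⟨g, rfl⟩ := QuotientGroup.mk'_surjective (Cfsg.pCore 2 (G ⧸ U)) y
  have h3 : (g ^ 3) ^ 2 = 1 := by rw [← pow_mul]; exact hQ g
  have hmem : g ^ 3 ∈ Cfsg.pCore 2 (G ⧸ U) :=
    hC (sq_eq_one_mem_centralizer hQ h3 PSolvable.isPGroup_pCore)
  have h1 := orderOf_dvd_of_pow_eq_one
    (x := QuotientGroup.mk' (Cfsg.pCore 2 (G ⧸ U)) g) (n := 3)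
    (by rw [← map_pow]; exact (QuotientGroup.eq_one_iff _).2 hmem)
  rw [hy] at h1
  norm_num at h1

theorem pLengthLE_three {G : Type*} [Group G] [Finite G] (h : ∀ x : G, x ^ 6 = 1) :
    Cfsg.PLengthLE 3 1 G := by
  haveI : Fact (Nat.Prime 3) := ⟨Nat.prime_three⟩
  haveI : Fact (Nat.Prime 2) := ⟨Nat.prime_two⟩
  haveI := isSolvable h
  refine pLengthLE_one ?_
  set U := (Cfsg.upperPSeries 3 G 1).1
  have hQ : ∀ x : G ⧸ U, x ^ 6 = 1 := fun x => by
    obtain ⟨g, rfl⟩ := QuotientGroup.mk'_surjective U x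
    rw [← map_pow, h, map_one]
  have hC := PSolvable.centralizer_pCore_le
    (PSolvable.isPSolvable_quotient PSolvable.isPSolvable_of_isSolvable U)
    (PSolvable.pPrimeCore_quotient_upperPSeries (p := 3) (G := G) 0)
  set V := Cfsg.pCore 3 (G ⧸ U) with hVdef
  haveI hVn : V.Normal := Subgroup.sSup_normal _ fun K hK => hK.1
  have hVp : IsPGroup 3 V := PSolvable.isPGroup_pCore
  have hVtwo : ∀ z ∈ V, z ^ 2 = 1 → z = 1 := by
    intro z hz hz2
    obtain ⟨k, hk⟩ := hVp ⟨z, hz⟩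
    have := Nat.dvd_gcd (orderOf_dvd_of_pow_eq_one hz2)
      (orderOf_dvd_of_pow_eq_one (show z ^ 3 ^ k = 1 from congrArg Subtype.val hk))
    rw [Nat.Coprime.pow_right k (by decide : Nat.Coprime 2 3), Nat.dvd_one] at this
    exact orderOf_eq_one_iff.1 this
  set F := (frattini V).map V.subtype with hF
  haveI : F.Normal := inferInstance
  set π := QuotientGroup.mk' F with hπ
  set M := V.map π with hMdef
  haveI : M.Normal := hVn.map π (QuotientGroup.mk'_surjective F)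
  have hMc : ∀ a b : M, a * b = b * a := by
    rintro ⟨_, a, ha, rfl⟩ ⟨_, b, hb, rfl⟩
    apply Subtype.ext
    show π a * π b = π b * π a
    rw [← map_mul, ← map_mul, hπ, QuotientGroup.mk'_apply, QuotientGroup.mk'_apply, QuotientGroup.eq]
    refine ⟨⁅(⟨b, hb⟩ : V)⁻¹, (⟨a, ha⟩ : V)⁻¹⁆,
      PGroups.commutatorElement_mem_frattini hVp _ _, ?_⟩
    simp [commutatorElement_def]
    group
  letI : CommGroup M := { (inferInstance : Group M) with mul_comm := hMc }
  have hM3 : ∀ m : M, m ^ 3 = 1 := by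
    rintro ⟨_, a, ha, rfl⟩
    refine Subtype.ext ?_
    show π a ^ 3 = 1
    rw [← map_pow, hπ, QuotientGroup.mk'_apply, QuotientGroup.eq_one_iff]
    exact ⟨(⟨a, ha⟩ : V) ^ 3, PGroups.pow_mem_frattini hVp _, rfl⟩
  set ψ : (G ⧸ U) →* MulAut M := (MulAut.conjNormal (H := M)).comp π with hψ
  have hψa : ∀ q (m : M), ((ψ q m : M) : (G ⧸ U) ⧸ F) = π q * m * (π q)⁻¹ := fun q m =>
    MulAut.conjNormal_apply _ _
  have hker : ψ.ker = V := by
    ext q
    rw [MonoidHom.mem_ker, ← Cfsg.Agent.S4218.mem_iff_trivial hC q]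
    constructor
    · intro hq v hv
      have h1 := congrArg (fun e : MulAut M => ((e ⟨π v, mem_map_of_mem π hv⟩ : M) : (G ⧸ U) ⧸ F)) hq
      simp only [hψa, MulAut.one_apply] at h1
      refine (QuotientGroup.eq_one_iff (N := F) _).1 ?_
      show π (q * v * q⁻¹ * v⁻¹) = 1
      simp only [map_mul, map_inv, h1, mul_inv_cancel]
    · intro hq
      ext ⟨_, v, hv, rfl⟩
      rw [hψa, MulAut.one_apply]
      have h1 : π (q * v * q⁻¹ * v⁻¹) = 1 := (QuotientGroup.eq_one_iff (N := F) _).2 (hq v hv)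
      simp only [map_mul, map_inv, mul_inv_eq_one] at h1
      exact h1
  set φ := QuotientGroup.lift V ψ (le_of_eq hker.symm) with hφ
  rw [Subgroup.index_eq_card, Nat.coprime_comm, Nat.prime_three.coprime_iff_not_dvd]
  refine not_three_dvd φ ?_ hM3 ?_ (PSolvable.pCore_quotient_eq_bot V hVdef)
    (PSolvable.isPSolvable_quotient (PSolvable.isPSolvable_quotient PSolvable.isPSolvable_of_isSolvable U) V) ?_
  · rw [hφ, ← MonoidHom.ker_eq_bot_iff, QuotientGroup.ker_lift, hker, QuotientGroup.map_mk'_self]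
  · intro t
    obtain ⟨q, rfl⟩ := QuotientGroup.mk'_surjective V t
    rw [← map_pow, hQ, map_one]
  · intro t ht m
    obtain ⟨q, rfl⟩ := QuotientGroup.mk'_surjective V t
    obtain ⟨_, v, hv, rfl⟩ := m
    have hcube : ∀ y, QuotientGroup.mk' V y = QuotientGroup.mk' V q → y ^ 3 = 1 := by
      intro y hy
      refine hVtwo _ ?_ (by rw [← pow_mul]; exact hQ y)
      rw [← QuotientGroup.eq_one_iff, ← QuotientGroup.mk'_apply, map_pow, hy, ht]
    have h1 := hcube (v * q) (by rw [map_mul]; simp [(QuotientGroup.eq_one_iff v).2 hv])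
    have h2 := hcube q rfl
    apply Subtype.ext
    rw [← map_mul]
    show π v * ((ψ q ⟨π v, _⟩ : M) : (G ⧸ U) ⧸ F) * ((ψ (q * q) ⟨π v, _⟩ : M) : (G ⧸ U) ⧸ F) = 1
    rw [hψa, hψa]
    show π v * (π q * π v * (π q)⁻¹) * (π (q * q) * π v * (π (q * q))⁻¹) = 1
    calc π v * (π q * π v * (π q)⁻¹) * (π (q * q) * π v * (π (q * q))⁻¹)
        = π ((v * q) ^ 3 * (q ^ 3)⁻¹) := by
          simp only [map_mul, map_inv, map_one, pow_succ, pow_zero]; group
      _ = 1 := by rw [h1, h2]; simp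

end Cfsg.Agent.Lib.Fgs9.ExponentSix
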