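import Cfsg.Agent.Lib.Transfer.PResidual
import Cfsg.Agent.Lib.PGroups.Omega
import Cfsg.Agent.Lib.PGroups.Frattini
import Cfsg.Prelude.Def_BaumannBlocks
import Mathlib.GroupTheory.GroupAction.Quotient

/-!
# The Hall–Wielandt theorem

Owner: helper73. Namespace `Cfsg.Agent.Lib.Fgs9.HallWielandt`.
The transfer from a normal subgroup `G₀` to `G₀ ∩ N` is handled as a product over cosets, split along
the orbits of a `p`-group.
-/

set_option autoImplicit false

namespace Cfsg.Agent.Lib.Fgs9.HallWielandt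

open Subgroup
open Cfsg.Agent.Lib

section Cocycle

variable {G : Type*} [Group G] (N G₀ : Subgroup G) [hG₀ : G₀.Normal]
  {A : Type*} [CommGroup A] (φ : ↥(G₀ ⊓ N) →* A)
  (s : G ⧸ N → G) (hs : ∀ q, (s q : G ⧸ N) = q) (hs₀ : ∀ q, s q ∈ G₀)

include hs hs₀ in
theorem cocycle_mem (g : ↥G₀) (q : G ⧸ N) : (s ((g : G) • q))⁻¹ * g * s q ∈ G₀ ⊓ N := by
  refine Subgroup.mem_inf.2 ⟨mul_mem (mul_mem (inv_mem (hs₀ _)) g.2) (hs₀ q), ?_⟩
  have e : (((g : G) * s q : G) : G ⧸ N) = (g : G) • q := by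
    conv_rhs => rw [← hs q]
    rfl
  rw [mul_assoc, ← QuotientGroup.eq, hs, e]

/-- The value at the coset `q` of the transfer cocycle. -/
def c (g : ↥G₀) (q : G ⧸ N) : A := φ ⟨_, cocycle_mem N G₀ s hs hs₀ g q⟩

theorem c_mul (g h : ↥G₀) (q : G ⧸ N) :
    c N G₀ φ s hs hs₀ (g * h) q = c N G₀ φ s hs hs₀ g ((h : G) • q) * c N G₀ φ s hs hs₀ h q := by
  rw [c, c, c, ← map_mul]
  congr 1
  apply Subtype.ext
  show (s (((g * h : ↥G₀) : G) • q))⁻¹ * (g * h : ↥G₀) * s q = _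
  rw [coe_mul, mul_smul]
  simp only [coe_mul]
  group

theorem c_one (q : G ⧸ N) : c N G₀ φ s hs hs₀ 1 q = 1 := by
  rw [c, ← map_one φ]
  congr 1
  apply Subtype.ext
  show (s ((1 : G) • q))⁻¹ * 1 * s q = 1
  rw [one_smul]
  group

/-- Telescoping along an element. -/
theorem c_pow (g : ↥G₀) (q : G ⧸ N) (n : ℕ) :
    c N G₀ φ s hs hs₀ (g ^ n) q = ∏ i ∈ Finset.range n, c N G₀ φ s hs hs₀ g ((g : G) ^ i • q) := by
  induction n with
  | zero => simp [c_one]
  | succ n ih =>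
    rw [pow_succ', c_mul, ih, Finset.prod_range_succ, mul_comm, coe_pow]

/-- The value at a fixed coset. -/
theorem c_of_fixed (g : ↥G₀) (q : G ⧸ N) (hq : (g : G) • q = q) :
    ∃ h : (s q)⁻¹ * g * s q ∈ G₀ ⊓ N, c N G₀ φ s hs hs₀ g q = φ ⟨_, h⟩ := by
  have h := cocycle_mem N G₀ s hs hs₀ g q
  rw [hq] at h
  exact ⟨h, congrArg φ (Subtype.ext (by simp only [hq]))⟩

include hs hs₀ in
theorem shift_mem (z : G) (q : G ⧸ N) : (s (z • q))⁻¹ * z * s q ∈ N := by
  have e : ((z * s q : G) : G ⧸ N) = z • q := by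
    conv_rhs => rw [← hs q]
    rfl
  rw [mul_assoc, ← QuotientGroup.eq, hs, e]

/-- Moving the cocycle along any element of `G`. -/
theorem c_smul (hinv : ∀ n ∈ N, ∀ x y : ↥(G₀ ⊓ N), (y : G) = n * x * n⁻¹ → φ y = φ x)
    (z : G) (q₀ : G ⧸ N) :
    ∃ d : G ⧸ N → A, ∀ (m : ↥G₀) (q : G ⧸ N) (hm : z⁻¹ * m * z ∈ G₀),
      c N G₀ φ s hs hs₀ m (z • q) =
        d ((z⁻¹ * m * z) • q) * c N G₀ φ s hs hs₀ ⟨_, hm⟩ q * (d q)⁻¹ := by
  set n₀ := (s (z • q₀))⁻¹ * z * s q₀ with hn₀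
  have hn : ∀ q, (s (z • q))⁻¹ * z * s q * n₀⁻¹ ∈ G₀ ⊓ N := by
    intro q
    refine Subgroup.mem_inf.2 ⟨?_, mul_mem (shift_mem N G₀ s hs hs₀ z q) (inv_mem (shift_mem N G₀ s hs hs₀ z q₀))⟩
    have h1 : (s (z • q))⁻¹ * z * s q * n₀⁻¹ =
        (s (z • q))⁻¹ * (z * (s q * (s q₀)⁻¹) * z⁻¹) * s (z • q₀) := by rw [hn₀]; group
    rw [h1]
    exact mul_mem (mul_mem (inv_mem (hs₀ _)) (hG₀.conj_mem _ (mul_mem (hs₀ q) (inv_mem (hs₀ q₀))) z))
      (hs₀ _)
  refine ⟨fun q => φ ⟨_, hn q⟩, fun m q hm => ?_⟩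
  have hx := cocycle_mem N G₀ s hs hs₀ ⟨_, hm⟩ q
  have hy : n₀ * ((s ((z⁻¹ * m * z) • q))⁻¹ * (z⁻¹ * m * z) * s q) * n₀⁻¹ ∈ G₀ ⊓ N :=
    Subgroup.mem_inf.2 ⟨hG₀.conj_mem _ hx.1 n₀, mul_mem (mul_mem (shift_mem N G₀ s hs hs₀ z q₀) hx.2)
      (inv_mem (shift_mem N G₀ s hs hs₀ z q₀))⟩
  have he : c N G₀ φ s hs hs₀ m (z • q) = φ (⟨_, hn ((z⁻¹ * m * z) • q)⟩ * ⟨_, hy⟩ * ⟨_, hn q⟩⁻¹) := by
    refine congrArg φ (Subtype.ext ?_)
    have e1 : z • (z⁻¹ * (m : G) * z) • q = (m : G) • z • q := by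
      rw [smul_smul, smul_smul]; congr 1; group
    simp only [coe_mul, coe_inv, e1]
    group
  rw [he, map_mul, map_mul, map_inv]
  congr 2
  exact hinv n₀ (shift_mem N G₀ s hs hs₀ z q₀) _ _ rfl

variable [Finite G]

open scoped Classical in
/-- If the cocycle kills every coset, at every period, then so does a product over an invariant set. -/
theorem prod_eq_one (g : ↥G₀) (S : Finset (G ⧸ N)) (hS : ∀ q ∈ S, (g : G) • q ∈ S)
    (h : ∀ (n : ℕ) (q : G ⧸ N), 0 < n → (g : G) ^ n • q = q → c N G₀ φ s hs hs₀ (g ^ n) q = 1) :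
    ∏ q ∈ S, c N G₀ φ s hs hs₀ g q = 1 := by
  induction S using Finset.strongInduction with
  | _ S ih =>
  rcases S.eq_empty_or_nonempty with rfl | ⟨q, hq⟩
  · simp
  have : Fintype (G ⧸ N) := Fintype.ofFinite _
  set f : G ⧸ N → G ⧸ N := fun x => (g : G) • x with hf
  have hpow : ∀ i : ℕ, f^[i] q = (g : G) ^ i • q := fun i => by rw [hf, smul_iterate_apply]
  have hper : q ∈ Function.periodicPts f :=
    Function.mk_mem_periodicPts (orderOf_pos (g : G))
      (show f^[orderOf (g : G)] q = q by rw [hpow, pow_orderOf_eq_one, one_smul])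
  set l := Function.minimalPeriod f q with hl
  have hl0 : 0 < l := Function.minimalPeriod_pos_of_mem_periodicPts hper
  set O := (Finset.range l).image (fun i => (g : G) ^ i • q) with hO
  have hmem : ∀ i : ℕ, (g : G) ^ i • q ∈ S := by
    intro i
    induction i with
    | zero => simpa using hq
    | succ i ih => rw [pow_succ', mul_smul]; exact hS _ ih
  have hOS : O ⊆ S := by
    intro x hx
    obtain ⟨i, -, rfl⟩ := Finset.mem_image.1 hx
    exact hmem i
  have hfix : (g : G) ^ l • q = q := by rw [← hpow]; exact Function.iterate_minimalPeriod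
  have hallO : ∀ i : ℕ, (g : G) ^ i • q ∈ O := fun i => Finset.mem_image.2
    ⟨i % l, Finset.mem_range.2 (Nat.mod_lt _ hl0), by rw [← hpow, ← hpow, hl, Function.iterate_mod_minimalPeriod_eq]⟩
  have hinj : Set.InjOn (fun i => (g : G) ^ i • q) (Finset.range l : Set ℕ) := by
    intro i hi j hj hij
    simp only [Finset.coe_range, Set.mem_Iio] at hi hj
    exact (Function.iterate_eq_iterate_iff_of_lt_minimalPeriod hi hj).1 (by rw [hpow, hpow]; exact hij)
  rw [← Finset.prod_sdiff hOS, ih (S \ O) ?_ ?_, one_mul, Finset.prod_image hinj, ← c_pow]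
  · exact h l q hl0 hfix
  · refine Finset.sdiff_ssubset hOS ⟨q, ?_⟩
    simpa using hallO 0
  · intro x hx
    rw [Finset.mem_sdiff] at hx ⊢
    refine ⟨hS x hx.1, fun hgx => hx.2 ?_⟩
    obtain ⟨i, -, hi⟩ := Finset.mem_image.1 hgx
    have hx' : x = (g : G) ^ (i + (l - 1)) • q := by
      have h1 : (g : G) • x = (g : G) ^ i • q := hi.symm
      have h2 : (g : G) • ((g : G) ^ (i + (l - 1)) • q) = (g : G) • x := by
        rw [h1, ← mul_smul, ← pow_succ', show i + (l - 1) + 1 = i + l by omega, pow_add, mul_smul, hfix]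
      exact (smul_left_cancel _ h2).symm
    rw [hx']
    exact hallO _

open scoped Classical in
/-- The product of the cocycle over an invariant set is multiplicative. -/
theorem prod_mul (S : Finset (G ⧸ N)) (g h : ↥G₀) (hh : ∀ q, q ∈ S ↔ (h : G) • q ∈ S) :
    ∏ q ∈ S, c N G₀ φ s hs hs₀ (g * h) q =
      (∏ q ∈ S, c N G₀ φ s hs hs₀ g q) * ∏ q ∈ S, c N G₀ φ s hs hs₀ h q := by
  simp only [c_mul, Finset.prod_mul_distrib]
  congr 1
  exact Finset.prod_equiv (MulAction.toPerm (h : G)) hh (fun i _ => rfl)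

end Cocycle

/-- `∏ W(τ^i m)` in terms of the iterated commutators, for `τ y = y * D y`. -/
theorem prod_iterate {G : Type*} [Group G] {A : Type*} [CommMonoid A] (S : Subgroup G)
    (D : G → G) (hD : ∀ m ∈ S, D m ∈ S)
    (hτ : ∀ a ∈ S, ∀ b ∈ S, a * b * D (a * b) = (a * D a) * (b * D b)) :
    ∀ (n : ℕ) (W : G → A), (∀ a ∈ S, ∀ b ∈ S, W (a * b) = W a * W b) → ∀ m ∈ S,
      ∏ i ∈ Finset.range n, W ((fun y => y * D y)^[i] m) =
        ∏ j ∈ Finset.range n, W (D^[j] m) ^ n.choose (j + 1) := by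
  intro n
  induction n with
  | zero => simp
  | succ n ih =>
    intro W hW m hm
    have hDi : ∀ j, D^[j] m ∈ S := by
      intro j
      induction j with
      | zero => simpa using hm
      | succ j ihj => rw [Function.iterate_succ_apply']; exact hD _ ihj
    rw [Finset.prod_range_succ', Function.iterate_zero_apply]
    simp only [Function.iterate_succ_apply']
    rw [ih (fun y => W (y * D y)) (fun a ha b hb => by
      show W (a * b * D (a * b)) = _
      rw [hτ a ha b hb, hW _ (mul_mem ha (hD a ha)) _ (mul_mem hb (hD b hb))]) m hm]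
    rw [Finset.prod_congr rfl (fun j _ => show W (D^[j] m * D (D^[j] m)) ^ n.choose (j + 1) =
        W (D^[j] m) ^ n.choose (j + 1) * W (D^[j + 1] m) ^ n.choose (j + 1) by
      rw [hW _ (hDi j) _ (hD _ (hDi j)), mul_pow, Function.iterate_succ_apply']),
      Finset.prod_mul_distrib]
    have h1 : ∏ j ∈ Finset.range (n + 1), W (D^[j] m) ^ (n + 1).choose (j + 1) =
        (∏ j ∈ Finset.range (n + 1), W (D^[j] m) ^ n.choose (j + 1)) *
          ∏ j ∈ Finset.range (n + 1), W (D^[j] m) ^ n.choose j := by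
      rw [← Finset.prod_mul_distrib]
      refine Finset.prod_congr rfl fun j _ => ?_
      rw [← pow_add, Nat.choose_succ_succ', add_comm]
    rw [h1, Finset.prod_range_succ, Nat.choose_succ_self, pow_zero, mul_one,
      Finset.prod_range_succ', Nat.choose_zero_right, pow_one, Function.iterate_zero_apply, mul_assoc]

section Main

open scoped Classical

variable {G : Type*} [Group G] [Finite G] {p : ℕ} [hp : Fact p.Prime] (N G₀ : Subgroup G)
  [hG₀ : G₀.Normal] {A : Type*} [CommGroup A] (φ : ↥(G₀ ⊓ N) →* A)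
  (hexp : ∀ x, φ x ^ p = 1)
  (hinv : ∀ n ∈ N, ∀ x y : ↥(G₀ ⊓ N), (y : G) = n * x * n⁻¹ → φ y = φ x)
  (s : G ⧸ N → G) (hs : ∀ q, (s q : G ⧸ N) = q) (hs₀ : ∀ q, s q ∈ G₀)

include hexp hinv in
/-- An orbit of a `p`-group `U = ⟨u⟩Q` other than a point contributes nothing. -/
theorem orbit_eq_one {U Q : Subgroup G} (hU : IsPGroup p ↥U) (u : ↥G₀) (huU : (u : G) ∈ U)
    (hQU : Q ≤ U) (hgen : U ≤ Subgroup.zpowers (u : G) ⊔ Q)
    (hengel : ∀ z ∈ Q, (fun y : G => y⁻¹ * z⁻¹ * y * z)^[p - 1] (u : G) = 1)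
    (hsmall : ∀ (n : ℕ) (x : G ⧸ N), 0 < n → p ∣ n → (u : G) ^ n • x = x →
      c N G₀ φ s hs hs₀ (u ^ n) x = 1)
    (q : G ⧸ N) (hq : ∃ v ∈ U, v • q ≠ q) (O : Finset (G ⧸ N))
    (hO : ∀ x, x ∈ O ↔ ∃ v ∈ U, v • q = x) :
    ∏ x ∈ O, c N G₀ φ s hs hs₀ u x = 1 := by
  have : Fintype (G ⧸ N) := Fintype.ofFinite _
  -- a maximal subgroup of `U` containing the stabilizer
  set R : Subgroup ↥U := (MulAction.stabilizer G q).subgroupOf U
  have hR : R ≠ ⊤ := by
    obtain ⟨v, hv, hvq⟩ := hq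
    intro h
    exact hvq (show (⟨v, hv⟩ : ↥U) ∈ R from h ▸ mem_top _)
  obtain ⟨M', hM', hRM'⟩ := (eq_top_or_exists_le_coatom R).resolve_left hR
  haveI hMn : M'.Normal := PGroups.coatom_normal hU hM'
  have hidx : M'.index = p := PGroups.coatom_index hU hM'
  set M := M'.map U.subtype
  have hMU : M ≤ U := map_subtype_le M'
  have hmemM : ∀ v (hv : v ∈ U), v ∈ M ↔ (⟨v, hv⟩ : ↥U) ∈ M' := fun v hv =>
    ⟨fun ⟨w, hw, hwv⟩ => (Subtype.ext hwv : w = ⟨v, hv⟩) ▸ hw, fun h => ⟨_, h, rfl⟩⟩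
  have hMnorm : ∀ v ∈ U, ∀ m ∈ M, v * m * v⁻¹ ∈ M := by
    rintro v hv _ ⟨m, hm, rfl⟩
    exact ⟨_, hMn.conj_mem m hm ⟨v, hv⟩, rfl⟩
  have hstab : ∀ v ∈ U, v • q = q → v ∈ M := fun v hv h => (hmemM v hv).2 (hRM' h)
  set O₀ : Finset (G ⧸ N) := Finset.univ.filter (fun x => ∃ m ∈ M, m • q = x) with hO₀
  have hO₀m : ∀ m ∈ M, ∀ x, x ∈ O₀ ↔ m • x ∈ O₀ := by
    intro m hm x
    simp only [hO₀, Finset.mem_filter, Finset.mem_univ, true_and]
    constructor
    · rintro ⟨a, ha, rfl⟩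
      exact ⟨m * a, mul_mem hm ha, mul_smul _ _ _⟩
    · rintro ⟨a, ha, hax⟩
      exact ⟨m⁻¹ * a, mul_mem (inv_mem hm) ha, by rw [mul_smul, hax, inv_smul_smul]⟩
  have hO₀U : ∀ v ∈ U, ∀ x ∈ O₀, v • x ∈ O := by
    intro v hv x hx
    obtain ⟨a, ha, rfl⟩ := (Finset.mem_filter.1 hx).2
    exact (hO _).2 ⟨v * a, mul_mem hv (hMU ha), mul_smul _ _ _⟩
  -- cosets of `M` in `U`
  have hdec : ∀ y ∈ U, y ∉ M → ∀ F : G ⧸ N → A,
      ∏ x ∈ O, F x = ∏ i ∈ Finset.range p, ∏ x ∈ O₀, F (y ^ i • x) := by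
    intro y hy hyM F
    have hy1 : QuotientGroup.mk' M' ⟨y, hy⟩ ≠ 1 := fun h =>
      hyM ((hmemM y hy).2 ((QuotientGroup.eq_one_iff _).1 h))
    have hcardq : Nat.card (↥U ⧸ M') = p := hidx
    have hord : orderOf (QuotientGroup.mk' M' ⟨y, hy⟩) = p :=
      ((Nat.dvd_prime hp.out).1 (hcardq ▸ orderOf_dvd_natCard _)).resolve_left
        (fun h => hy1 (orderOf_eq_one_iff.1 h))
    have hpowM : ∀ i, y ^ i ∈ M → p ∣ i := by
      intro i hi
      rw [← hord]
      refine orderOf_dvd_of_pow_eq_one ?_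
      rw [← map_pow]
      exact (QuotientGroup.eq_one_iff _).2 ((hmemM (y ^ i) (pow_mem hy i)).1 hi)
    have hcov : ∀ v ∈ U, ∃ i < p, (y ^ i)⁻¹ * v ∈ M := by
      intro v hv
      obtain ⟨i, hi⟩ := mem_powers_of_prime_card (p := p) hcardq hy1 (g' := QuotientGroup.mk' M' ⟨v, hv⟩)
      refine ⟨i % p, Nat.mod_lt _ hp.out.pos, (hmemM _ (mul_mem (inv_mem (pow_mem hy _)) hv)).2 ?_⟩
      have h2 : QuotientGroup.mk' M' ⟨y, hy⟩ ^ (i % p) = QuotientGroup.mk' M' ⟨v, hv⟩ := by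
        conv_lhs => rw [← hord, pow_mod_orderOf]
        exact hi
      rw [← map_pow] at h2
      exact QuotientGroup.eq.1 h2
    rw [← Finset.prod_product']
    symm
    refine Finset.prod_bij (fun a _ => y ^ a.1 • a.2) ?_ ?_ ?_ (fun a _ => rfl)
    · intro a ha
      exact hO₀U _ (pow_mem hy _) _ (Finset.mem_product.1 ha).2
    · rintro ⟨i, x⟩ hix ⟨j, x'⟩ hjx h
      simp only [Finset.mem_product, Finset.mem_range] at hix hjx
      obtain ⟨a, ha, rfl⟩ := (Finset.mem_filter.1 hix.2).2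
      obtain ⟨b, hb, rfl⟩ := (Finset.mem_filter.1 hjx.2).2
      have hmem : ∀ (i j : ℕ) (a b : G), j ≤ i → a ∈ M → b ∈ M → y ^ i • a • q = y ^ j • b • q →
          p ∣ i - j := by
        intro i j a b hji ha hb h
        refine hpowM _ ?_
        have h1 : b⁻¹ * y ^ (i - j) * a ∈ M := by
          refine hstab _ (mul_mem (mul_mem (inv_mem (hMU hb)) (pow_mem hy _)) (hMU ha)) ?_
          rw [mul_smul, mul_smul, inv_smul_eq_iff]
          refine smul_left_cancel (y ^ j) ?_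
          rw [← h, smul_smul (y ^ j), ← pow_add, Nat.add_sub_cancel' hji]
        have h2 := mul_mem (mul_mem hb h1) (inv_mem ha)
        simpa [mul_assoc] using h2
      have hij : i = j := by
        rcases le_total j i with hle | hle
        · have := Nat.eq_zero_of_dvd_of_lt (hmem i j a b hle ha hb h) (by omega); omega
        · have := Nat.eq_zero_of_dvd_of_lt (hmem j i b a hle hb ha h.symm) (by omega); omega
      subst hij
      exact congrArg (Prod.mk i) (smul_left_cancel (y ^ i) h)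
    · intro x hx
      obtain ⟨v, hv, rfl⟩ := (hO x).1 hx
      obtain ⟨i, hi, him⟩ := hcov v hv
      exact ⟨(i, ((y ^ i)⁻¹ * v) • q), Finset.mem_product.2 ⟨Finset.mem_range.2 hi,
        Finset.mem_filter.2 ⟨Finset.mem_univ _, _, him, rfl⟩⟩,
        by rw [smul_smul, mul_inv_cancel_left]⟩
  have hcp : ∀ g x, c N G₀ φ s hs hs₀ g x ^ p = 1 := fun g x => hexp _
  by_cases huM : (u : G) ∈ M
  · -- shift by an element of `Q`
    obtain ⟨z, hz, hzM⟩ : ∃ z ∈ Q, z ∉ M := by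
      by_contra hc
      push Not at hc
      have h1 : U ≤ M := hgen.trans (sup_le (Subgroup.zpowers_le.2 huM) hc)
      refine hM'.1 (eq_top_iff.2 fun v _ => (hmemM v v.2).1 (h1 v.2))
    set D : G → G := fun y => y⁻¹ * z⁻¹ * y * z with hD
    set S := M ⊓ G₀ with hS
    have hDS : ∀ m ∈ S, D m ∈ S := by
      intro m hm
      have h1 : z⁻¹ * m * z ∈ S := Subgroup.mem_inf.2
        ⟨by simpa using hMnorm z⁻¹ (inv_mem (hQU hz)) m hm.1,
          by simpa using hG₀.conj_mem m hm.2 z⁻¹⟩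
      show m⁻¹ * z⁻¹ * m * z ∈ S
      rw [show m⁻¹ * z⁻¹ * m * z = m⁻¹ * (z⁻¹ * m * z) by group]
      exact mul_mem (inv_mem hm) h1
    have hτ : ∀ y : G, y * D y = z⁻¹ * y * z := fun y => by rw [hD]; group
    have hτi : ∀ (i : ℕ) (y : G), (fun y => y * D y)^[i] y = (z ^ i)⁻¹ * y * z ^ i := by
      intro i
      induction i with
      | zero => intro y; simp
      | succ i ihi => intro y; rw [Function.iterate_succ_apply', ihi, hτ, pow_succ]; group
    set W : G → A := fun m => if h : m ∈ G₀ then ∏ x ∈ O₀, c N G₀ φ s hs hs₀ ⟨m, h⟩ x else 1 with hW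
    have hWm : ∀ a ∈ S, ∀ b ∈ S, W (a * b) = W a * W b := by
      intro a ha b hb
      simp only [hW]
      have h1 : a ∈ G₀ := (Subgroup.mem_inf.1 ha).2
      have h2 : b ∈ G₀ := (Subgroup.mem_inf.1 hb).2
      have h3 : a * b ∈ G₀ := mul_mem h1 h2
      rw [dif_pos h3, dif_pos h1, dif_pos h2]
      exact prod_mul N G₀ φ s hs hs₀ O₀ ⟨a, ha.2⟩ ⟨b, hb.2⟩ (hO₀m b hb.1)
    have huS : (u : G) ∈ S := Subgroup.mem_inf.2 ⟨huM, u.2⟩
    have hshift : ∀ i : ℕ, ∏ x ∈ O₀, c N G₀ φ s hs hs₀ u (z ^ i • x) = W ((z ^ i)⁻¹ * u * z ^ i) := by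
      intro i
      have hm : (z ^ i)⁻¹ * (u : G) * z ^ i ∈ G₀ := by
        simpa using hG₀.conj_mem (u : G) u.2 (z ^ i)⁻¹
      have hmM : (z ^ i)⁻¹ * (u : G) * z ^ i ∈ M := by
        simpa using hMnorm (z ^ i)⁻¹ (inv_mem (pow_mem (hQU hz) i)) (u : G) huM
      obtain ⟨d, hd⟩ := c_smul N G₀ φ s hs hs₀ hinv (z ^ i) q
      rw [Finset.prod_congr rfl (fun x _ => hd u x hm)]
      simp only [Finset.prod_mul_distrib, hW, dif_pos hm]
      have h1 : ∏ x ∈ O₀, d (((z ^ i)⁻¹ * (u : G) * z ^ i) • x) = ∏ x ∈ O₀, d x :=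
        Finset.prod_equiv (MulAction.toPerm ((z ^ i)⁻¹ * (u : G) * z ^ i)) (hO₀m _ hmM) (fun _ _ => rfl)
      rw [h1, Finset.prod_inv_distrib, mul_comm, inv_mul_cancel_left]
    rw [hdec z (hQU hz) hzM, Finset.prod_congr rfl (fun i _ => (hshift i).trans (congrArg W (hτi i u).symm)),
      prod_iterate S D hDS (fun a _ b _ => by rw [hτ, hτ, hτ]; group) p W hWm u huS]
    refine Finset.prod_eq_one fun j hj => ?_
    rw [Finset.mem_range] at hj
    rcases Nat.lt_or_ge j (p - 1) with h | h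
    · obtain ⟨k, hk⟩ := hp.out.dvd_choose_self (k := j + 1) (by omega) (by omega)
      rw [hk, pow_mul]
      simp only [hW]
      split_ifs
      · rw [← Finset.prod_pow, Finset.prod_eq_one (fun x _ => hcp _ x), one_pow]
      · simp
    · rw [show j = p - 1 by omega, show D^[p - 1] (u : G) = 1 from hengel z hz]
      simp only [hW]
      rw [dif_pos (one_mem _), Finset.prod_eq_one (fun x _ => ?_), one_pow]
      exact c_one N G₀ φ s hs hs₀ x
  · -- telescope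
    rw [hdec (u : G) huU huM, Finset.prod_comm]
    simp only [← c_pow]
    refine prod_eq_one N G₀ φ s hs hs₀ (u ^ p) O₀ (fun x hx => ?_) (fun n x hn hx => ?_)
    · refine (hO₀m _ ?_ x).1 hx
      rw [Subgroup.coe_pow, hmemM _ (pow_mem huU p)]
      have := Subgroup.pow_index_mem M' (⟨(u : G), huU⟩ : ↥U)
      rwa [hidx] at this
    · rw [← pow_mul]
      refine hsmall _ x (Nat.mul_pos hp.out.pos hn) (dvd_mul_right _ _) ?_
      rwa [pow_mul]

include hexp hinv s hs hs₀ in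
/-- **Hall–Wielandt**, transfer form: `φ` kills the `p`-elements. -/
theorem map_eq_one (P : Sylow p G) (Q : Subgroup G) (hQ : Cfsg.IsWeaklyClosed Q (P : Subgroup G))
    (hN : N = Subgroup.normalizer (Q : Set G))
    (hengel : ∀ u ∈ (P : Subgroup G), ∀ z ∈ Q, (fun y : G => y⁻¹ * z⁻¹ * y * z)^[p - 1] u = 1)
    (hperf : Cfsg.pResidual p ↥G₀ = ⊤) :
    ∀ x : ↥(G₀ ⊓ N), (∃ k, orderOf (x : G) = p ^ k) → φ x = 1 := by
  have : Fintype (G ⧸ N) := Fintype.ofFinite _
  obtain ⟨hQP, hwc⟩ := hQ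
  have hPN : (P : Subgroup G) ≤ N := by
    intro g hg
    rw [hN, Subgroup.mem_normalizer_iff_map_conj_eq]
    refine hwc g ?_
    rintro _ ⟨x, hx, rfl⟩
    exact mul_mem (mul_mem hg (hQP hx)) (inv_mem hg)
  intro x hx
  induction hm : orderOf (x : G) using Nat.strong_induction_on generalizing x with
  | _ m ih =>
  obtain ⟨k, hk⟩ := hx
  -- conjugate `x` into `P`
  obtain ⟨n, hn, hnx⟩ : ∃ n ∈ N, n * (x : G) * n⁻¹ ∈ P := by
    have hxp : IsPGroup p ↥(Subgroup.zpowers (x : G)) :=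
      IsPGroup.of_card (n := k) (by rw [Nat.card_zpowers, hk])
    obtain ⟨T, hT⟩ := (hxp.comap_subtype (K := N)).exists_le_sylow
    obtain ⟨t, ht⟩ := MulAction.exists_smul_eq ↥N T (P.subtype hPN)
    refine ⟨t, t.2, ?_⟩
    have h1 : MulAut.conj t • (⟨(x : G), (Subgroup.mem_inf.1 x.2).2⟩ : ↥N) ∈ (P.subtype hPN : Subgroup ↥N) := by
      rw [← ht, Sylow.coe_subgroup_smul, Subgroup.smul_mem_pointwise_smul_iff]
      exact hT (Subgroup.mem_zpowers _)
    exact h1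
  set u : ↥G₀ := ⟨n * (x : G) * n⁻¹, hG₀.conj_mem _ (Subgroup.mem_inf.1 x.2).1 n⟩ with hu
  have hordu : orderOf (u : G) = p ^ k := by
    rw [← hk, hu]
    exact MulEquiv.orderOf_eq (MulAut.conj n) (x : G)
  have huK : (u : G) ∈ G₀ ⊓ N := Subgroup.mem_inf.2 ⟨u.2, hPN hnx⟩
  rw [← hinv n hn x ⟨_, huK⟩ rfl]
  rcases eq_or_ne k 0 with rfl | hk0
  · have h1 : (u : G) = 1 := orderOf_eq_one_iff.1 (by rw [hordu, pow_zero])
    rw [show (⟨_, huK⟩ : ↥(G₀ ⊓ N)) = 1 from Subtype.ext h1, map_one]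
  -- the transfer
  let V : ↥G₀ →* A := MonoidHom.mk' (fun g => ∏ q, c N G₀ φ s hs hs₀ g q)
    (fun g h => prod_mul N G₀ φ s hs hs₀ _ g h (by simp))
  have hV : ∀ g, V g = 1 := by
    intro g
    have hle : Cfsg.pResidual p ↥G₀ ≤ V.ker := by
      rw [Transfer.PResidual.pResidual_le_iff]
      intro y hy
      have h1 : V y ^ p = 1 := by
        show (∏ q, c N G₀ φ s hs hs₀ y q) ^ p = 1
        rw [← Finset.prod_pow]
        exact Finset.prod_eq_one fun q _ => hexp _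
      have h2 : V y ^ orderOf y = 1 := by rw [← map_pow, pow_orderOf_eq_one, map_one]
      exact orderOf_eq_one_iff.1 (Nat.eq_one_of_dvd_coprimes hy (orderOf_dvd_of_pow_eq_one h2)
        (orderOf_dvd_of_pow_eq_one h1))
    exact hle (hperf ▸ mem_top g)
  set U := Subgroup.zpowers (u : G) ⊔ Q with hUdef
  have hUP : U ≤ (P : Subgroup G) := sup_le (Subgroup.zpowers_le.2 hnx) hQP
  set q₁ : G ⧸ N := ((1 : G) : G ⧸ N) with hq₁
  have hfixed : ∀ q : G ⧸ N, (∀ v ∈ U, v • q = q) → q = q₁ := by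
    intro q hq
    induction q using QuotientGroup.induction_on with
    | H g =>
      have hQg : ∀ y ∈ Q, g⁻¹ * y * g ∈ N := by
        intro y hy
        have h1 := hq y (Subgroup.mem_sup_right hy)
        rw [MulAction.Quotient.smul_mk, QuotientGroup.eq] at h1
        have h2 := inv_mem h1
        simpa [mul_assoc] using h2
      -- `g⁻¹ Q g` is a conjugate of `Q` inside `N`, hence equal to `Q`
      have hle : Q.map (MulAut.conj g⁻¹).toMonoidHom ≤ N := by
        rintro _ ⟨y, hy, rfl⟩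
        simpa using hQg y hy
      have hQ'p : IsPGroup p ↥(Q.map (MulAut.conj g⁻¹).toMonoidHom) := (P.2.to_le hQP).map _
      obtain ⟨T, hT⟩ := (hQ'p.comap_subtype (K := N)).exists_le_sylow
      obtain ⟨t, ht⟩ := MulAction.exists_smul_eq ↥N T (P.subtype hPN)
      have h3 : Q.map (MulAut.conj ((t : G) * g⁻¹)).toMonoidHom ≤ (P : Subgroup G) := by
        rintro _ ⟨y, hy, rfl⟩
        have h4 : MulAut.conj t • (⟨g⁻¹ * y * g, hQg y hy⟩ : ↥N) ∈ (P.subtype hPN : Subgroup ↥N) := by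
          rw [← ht, Sylow.coe_subgroup_smul, Subgroup.smul_mem_pointwise_smul_iff]
          exact hT ⟨y, hy, by simp⟩
        have h5 : (t : G) * (g⁻¹ * y * g) * (t : G)⁻¹ ∈ (P : Subgroup G) := h4
        simpa [mul_assoc] using h5
      have h6 : (t : G) * g⁻¹ ∈ N := by
        simp only [hN, Subgroup.mem_normalizer_iff_map_conj_eq]
        exact hwc _ h3
      have h7 : g ∈ N := by
        have := mul_mem (inv_mem t.2) h6
        simpa using this
      rw [hq₁, QuotientGroup.eq]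
      simpa using h7
  have hu1 : (u : G) • q₁ = q₁ := by
    rw [hq₁, MulAction.Quotient.smul_mk, QuotientGroup.eq, smul_eq_mul, mul_one, mul_one]
    exact inv_mem (hPN hnx)
  have hsmall : ∀ (j : ℕ) (q : G ⧸ N), 0 < j → p ∣ j → (u : G) ^ j • q = q →
      c N G₀ φ s hs hs₀ (u ^ j) q = 1 := by
    intro j q _ hj hq
    obtain ⟨h, he⟩ := c_of_fixed N G₀ φ s hs hs₀ (u ^ j) q (by rwa [Subgroup.coe_pow])
    rw [he]
    have ho : orderOf ((s q)⁻¹ * ((u ^ j : ↥G₀) : G) * s q) = orderOf ((u : G) ^ j) := by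
      rw [Subgroup.coe_pow]
      have := MulEquiv.orderOf_eq (MulAut.conj (s q)⁻¹) ((u : G) ^ j)
      simpa using this
    have hd : orderOf ((u : G) ^ j) ∣ p ^ (k - 1) := by
      refine orderOf_dvd_of_pow_eq_one ?_
      obtain ⟨e, rfl⟩ := hj
      rw [← pow_mul, mul_comm p e, mul_assoc, ← pow_succ', Nat.sub_add_cancel (Nat.pos_of_ne_zero hk0),
        mul_comm, pow_mul, ← hordu, pow_orderOf_eq_one, one_pow]
    obtain ⟨i, hi, hi'⟩ := (Nat.dvd_prime_pow hp.out).1 hd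
    refine ih _ ?_ ⟨_, h⟩ ⟨i, ho.trans hi'⟩ rfl
    rw [← hm, hk]
    show orderOf ((s q)⁻¹ * ((u ^ j : ↥G₀) : G) * s q) < p ^ k
    rw [ho, hi']
    exact Nat.pow_lt_pow_right hp.out.one_lt (by omega)
  have hrest : ∀ S : Finset (G ⧸ N), q₁ ∉ S → (∀ q ∈ S, ∀ v ∈ U, v • q ∈ S) →
      ∏ q ∈ S, c N G₀ φ s hs hs₀ u q = 1 := by
    intro S
    induction S using Finset.strongInduction with
    | _ S ihS =>
    intro hS1 hSU
    rcases S.eq_empty_or_nonempty with rfl | ⟨q, hq⟩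
    · simp
    set O := Finset.univ.filter (fun x => ∃ v ∈ U, v • q = x) with hO
    have hOS : O ⊆ S := by
      intro x hx
      obtain ⟨v, hv, rfl⟩ := (Finset.mem_filter.1 hx).2
      exact hSU q hq v hv
    rw [← Finset.prod_sdiff hOS, ihS (S \ O) ?_ (fun h => hS1 (Finset.mem_sdiff.1 h).1) ?_, one_mul]
    · refine orbit_eq_one N G₀ φ hexp hinv s hs hs₀ (P.2.to_le hUP) u
        (Subgroup.mem_sup_left (Subgroup.mem_zpowers _)) le_sup_right le_rfl
        (fun z hz => hengel _ hnx z hz) hsmall q ?_ O (fun y => by simp [hO])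
      by_contra hc
      push Not at hc
      exact hS1 (hfixed q hc ▸ hq)
    · refine Finset.sdiff_ssubset hOS ⟨q, Finset.mem_filter.2 ⟨Finset.mem_univ _, 1, one_mem _, one_smul _ _⟩⟩
    · intro y hy v hv
      rw [Finset.mem_sdiff] at hy ⊢
      refine ⟨hSU y hy.1 v hv, fun h => hy.2 ?_⟩
      obtain ⟨w, hw, hwy⟩ := (Finset.mem_filter.1 h).2
      exact Finset.mem_filter.2 ⟨Finset.mem_univ _, v⁻¹ * w, mul_mem (inv_mem hv) hw,
        by rw [mul_smul, hwy, inv_smul_smul]⟩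
  have h1 := hV u
  rw [show V u = ∏ q, c N G₀ φ s hs hs₀ u q from rfl, ← Finset.mul_prod_erase _ _ (Finset.mem_univ q₁)] at h1
  rw [hrest _ (Finset.notMem_erase _ _) ?_, mul_one] at h1
  · obtain ⟨h, he⟩ := c_of_fixed N G₀ φ s hs hs₀ u q₁ hu1
    rw [he] at h1
    have hs1 : (s q₁)⁻¹ ∈ N := by
      have := hs q₁
      rw [hq₁, QuotientGroup.eq] at this
      simpa using this
    rw [← hinv _ hs1 ⟨_, huK⟩ ⟨_, h⟩ (by simp)]
    exact h1
  · intro q hq v hv
    rw [Finset.mem_erase] at hq ⊢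
    refine ⟨fun h => hq.1 ?_, Finset.mem_univ _⟩
    have h2 : q = v⁻¹ • q₁ := by rw [← h, inv_smul_smul]
    rw [h2, hq₁, MulAction.Quotient.smul_mk, QuotientGroup.eq]
    simpa using hPN (hUP hv)

end Main

/-- **Hall–Wielandt.** If `Q` is weakly closed in the Sylow subgroup `P` and `[u, z, …, z] = 1` (`p - 1`
copies of `z`) for `u ∈ P`, `z ∈ Q`, then `N(Q)` controls the largest `p`-factor group. -/
theorem pResidualOf_normalizer_eq {G : Type*} [Group G] [Finite G] {p : ℕ} [hp : Fact p.Prime]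
    (P : Sylow p G) (Q : Subgroup G) (hQ : Cfsg.IsWeaklyClosed Q (P : Subgroup G))
    (hengel : ∀ u ∈ (P : Subgroup G), ∀ z ∈ Q, (fun y : G => y⁻¹ * z⁻¹ * y * z)^[p - 1] u = 1) :
    Cfsg.pResidualOf p (Subgroup.normalizer (Q : Set G)) =
      Cfsg.pResidual p G ⊓ Subgroup.normalizer (Q : Set G) := by
  set N := Subgroup.normalizer (Q : Set G) with hN
  refine le_antisymm (Transfer.PResidual.map_subtype_le N) ?_
  set G₀ := Cfsg.pResidual p G with hG₀
  haveI : G₀.Normal := Transfer.PResidual.pResidual_normal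
  set K' := G₀.subgroupOf N with hK'
  have hle : Cfsg.pResidual p ↥N ≤ K' := Subgroup.map_le_iff_le_comap.1 ((Transfer.PResidual.map_subtype_le N).trans inf_le_left)
  by_contra hcon
  have hne : ¬ K' ≤ Cfsg.pResidual p ↥N := fun h =>
    hcon fun y hy => ⟨⟨y, hy.2⟩, h hy.1, rfl⟩
  haveI : (Cfsg.pResidual p ↥N).Normal := Transfer.PResidual.pResidual_normal
  obtain ⟨Y, ⟨hYn, hY1, hY2⟩, hmax⟩ := Set.Finite.exists_maximal
    (s := {Y : Subgroup ↥N | Y.Normal ∧ Cfsg.pResidual p ↥N ≤ Y ∧ Y < K'}) (Set.toFinite _)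
    ⟨_, inferInstance, le_rfl, lt_of_le_of_ne hle (fun h => hne h.ge)⟩
  haveI := hYn
  set π := QuotientGroup.mk' Y with hπ
  have hX : IsPGroup p (↥N ⧸ Y) := by
    refine (Transfer.PResidual.isPGroup_quotient (p := p) (G := ↥N)).of_surjective
      (QuotientGroup.map _ Y (MonoidHom.id _) hY1) ?_
    intro q
    obtain ⟨q, rfl⟩ := QuotientGroup.mk'_surjective _ q
    exact ⟨QuotientGroup.mk' _ q, rfl⟩
  haveI : (K'.map π).Normal := (inferInstance : K'.Normal).map π (QuotientGroup.mk'_surjective _)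
  have hKne : K'.map π ≠ ⊥ := by
    rw [Ne, Subgroup.map_eq_bot_iff, hπ, QuotientGroup.ker_mk']
    exact fun h => not_le_of_gt hY2 h
  have hne2 := PGroups.normal_inf_center_ne_bot hX _ hKne
  obtain ⟨j, hj⟩ := IsPGroup.iff_card.1 (hX.to_subgroup (K'.map π ⊓ Subgroup.center _))
  obtain ⟨v, hv⟩ := exists_prime_orderOf_dvd_card' (G := ↥(K'.map π ⊓ Subgroup.center (↥N ⧸ Y))) p (by
    rw [hj]
    rcases j with - | j
    · exact absurd (Subgroup.card_eq_one.1 (by rw [hj, pow_zero])) hne2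
    · exact dvd_pow_self p j.succ_ne_zero)
  set Z := Subgroup.zpowers (v : ↥N ⧸ Y) with hZ
  have hvK : (v : ↥N ⧸ Y) ∈ K'.map π := v.2.1
  have hvZ : (v : ↥N ⧸ Y) ∈ Subgroup.center _ := v.2.2
  have hZc : Z ≤ Subgroup.center _ := Subgroup.zpowers_le.2 hvZ
  haveI : Z.Normal := ⟨fun a ha g => by
    rwa [Subgroup.mem_center_iff.1 (hZc ha) g, mul_inv_cancel_right]⟩
  have hKZ : K'.map π ≤ Z := by
    have h1 : Y ≤ Z.comap π := by
      intro y hy
      rw [Subgroup.mem_comap, hπ, QuotientGroup.mk'_apply, (QuotientGroup.eq_one_iff y).2 hy]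
      exact one_mem _
    have h2 : Z.comap π ≤ K' := by
      refine (Subgroup.comap_mono (Subgroup.zpowers_le.2 hvK)).trans ?_
      rw [Subgroup.comap_map_eq, hπ, QuotientGroup.ker_mk']
      exact sup_le le_rfl hY2.le
    rcases eq_or_lt_of_le h2 with h | h
    · rw [← h]; exact Subgroup.map_comap_le _ _
    · exfalso
      have h3 : Z.comap π ≤ Y := hmax ⟨inferInstance, hY1.trans h1, h⟩ h1
      obtain ⟨w, hw⟩ := QuotientGroup.mk'_surjective Y (v : ↥N ⧸ Y)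
      have h4 : w ∈ Y := h3 (show π w ∈ Z by rw [hπ, hw]; exact Subgroup.mem_zpowers _)
      have h5 : (v : ↥N ⧸ Y) = 1 := by rw [← hw]; exact (QuotientGroup.eq_one_iff w).2 h4
      have h6 : v = 1 := Subtype.ext h5
      rw [h6, orderOf_one] at hv
      exact hp.out.ne_one hv.symm
  let ι : ↥(G₀ ⊓ N) →* ↥N ⧸ Y := π.comp (Subgroup.inclusion inf_le_right)
  have hιK : ∀ x, ι x ∈ K'.map π := fun x => Subgroup.mem_map_of_mem π x.2.1
  letI : CommGroup ↥(Subgroup.center (↥N ⧸ Y)) :=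
    { (inferInstance : Group ↥(Subgroup.center (↥N ⧸ Y))) with
      mul_comm := fun a b => Subtype.ext (Subgroup.mem_center_iff.1 b.2 a) }
  let φ : ↥(G₀ ⊓ N) →* ↥(Subgroup.center (↥N ⧸ Y)) := ι.codRestrict _ fun x => hZc (hKZ (hιK x))
  have hexp : ∀ x, φ x ^ p = 1 := by
    intro x
    refine Subtype.ext ?_
    show ι x ^ p = 1
    obtain ⟨i, hi⟩ := Subgroup.mem_zpowers_iff.1 (hKZ (hιK x))
    rw [← hi, ← zpow_natCast, ← zpow_mul, mul_comm, zpow_mul, zpow_natCast]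
    have h7 : (v : ↥N ⧸ Y) ^ p = 1 := by
      rw [← hv, ← Subgroup.orderOf_coe]
      exact pow_orderOf_eq_one _
    rw [h7, one_zpow]
  have hinv : ∀ n ∈ N, ∀ x y : ↥(G₀ ⊓ N), (y : G) = n * x * n⁻¹ → φ y = φ x := by
    intro n hn x y hy
    refine Subtype.ext ?_
    show ι y = ι x
    have e : Subgroup.inclusion inf_le_right y =
        (⟨n, hn⟩ : ↥N) * Subgroup.inclusion inf_le_right x * (⟨n, hn⟩ : ↥N)⁻¹ := Subtype.ext hy
    show π _ = π _
    rw [e, map_mul, map_mul, map_inv]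
    rw [show π (Subgroup.inclusion inf_le_right x) = ι x from rfl,
      Subgroup.mem_center_iff.1 (hZc (hKZ (hιK x))) (π ⟨n, hn⟩), mul_inv_cancel_right]
  have hPN : (P : Subgroup G) ≤ N := by
    intro g hg
    rw [hN, Subgroup.mem_normalizer_iff_map_conj_eq]
    refine hQ.2 g ?_
    rintro _ ⟨x, hx, rfl⟩
    exact mul_mem (mul_mem hg (hQ.1 hx)) (inv_mem hg)
  -- coset representatives in `G₀`
  have hsec : ∀ q : G ⧸ N, ∃ g ∈ G₀, (g : G ⧸ N) = q := by
    intro q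
    induction q using QuotientGroup.induction_on with
    | H g =>
      have h1 : g ∈ G₀ ⊔ (P : Subgroup G) := by
        rw [hG₀, Transfer.PResidual.sup_sylow_eq_top]; trivial
      obtain ⟨a, ha, b, hb, rfl⟩ := Subgroup.mem_sup_of_normal_left.1 h1
      exact ⟨a, ha, QuotientGroup.eq.2 (by simpa using hPN hb)⟩
  choose s hs₀ hs using hsec
  have key := map_eq_one N G₀ φ hexp hinv s hs hs₀ P Q hQ hN hengel
    (Transfer.PResidual.pResidual_pResidual (p := p))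
  -- every element of `K'` is a product of a `p`-element and a `p'`-element
  refine not_le_of_gt hY2 fun y hy => ?_
  obtain ⟨a, b, ha, hb, hab, -, ⟨i, hi⟩, hbp⟩ :=
    Transfer.PResidual.exists_pPart_mul_pPrimePart (p := p) y (isOfFinOrder_of_finite y)
  have hbY : b ∈ Y := hY1 (Transfer.PResidual.mem_pResidual hbp)
  have haK : a ∈ K' := Subgroup.zpowers_le.2 hy ha
  obtain ⟨i', -, hi'⟩ := (Nat.dvd_prime_pow hp.out).1 (orderOf_dvd_of_pow_eq_one hi)
  have h8 := key ⟨(a : G), Subgroup.mem_inf.2 ⟨haK, a.2⟩⟩ ⟨i', by rw [← hi']; exact Subgroup.orderOf_coe a⟩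
  have haY : a ∈ Y := (QuotientGroup.eq_one_iff a).1 (congrArg Subtype.val h8)
  rw [← hab]
  exact mul_mem haY hbY

end Cfsg.Agent.Lib.Fgs9.HallWielandt
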