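import Cfsg.Agent.Lib.PGroups.Recognition
import Cfsg.Agent.Lib.PGroups.ElemAb
import Mathlib.GroupTheory.Sylow
import Mathlib.Data.Nat.Choose.Dvd

/-!
# Finite Hamiltonian groups (Dedekind–Baer)

Owner: helper73. Namespace `Cfsg.Agent.Lib.Fgs9.Hamiltonian`.
-/

set_option autoImplicit false

namespace Cfsg.Agent.Lib.Fgs9.Hamiltonian

open Cfsg.Agent.Lib

variable {G : Type*} [Group G]

/-- The power of a product whose factors have central commutator. -/
theorem mul_pow_of_central {b x z : G} (hz : x * b = z * b * x) (hzb : Commute z b)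
    (hzx : Commute z x) : ∀ n, (b * x) ^ n = z ^ n.choose 2 * b ^ n * x ^ n := by
  have hxpow : ∀ n, x ^ n * b = z ^ n * b * x ^ n := by
    intro n
    induction n with
    | zero => simp
    | succ n ih =>
      rw [pow_succ' x, mul_assoc x, ih, pow_succ z]
      calc x * (z ^ n * b * x ^ n) = z ^ n * (x * b) * x ^ n := by
            rw [← mul_assoc, ← mul_assoc, ← (hzx.pow_left n).eq, mul_assoc (z ^ n) x b]
        _ = z ^ n * z * b * (x * x ^ n) := by rw [hz]; group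
  intro n
  induction n with
  | zero => simp
  | succ n ih =>
    rw [pow_succ, ih, Nat.choose_succ_succ', Nat.choose_one_right, add_comm n, pow_add z,
      pow_succ b, pow_succ x]
    calc z ^ n.choose 2 * b ^ n * x ^ n * (b * x) = z ^ n.choose 2 * b ^ n * (x ^ n * b) * x := by group
      _ = z ^ n.choose 2 * (b ^ n * z ^ n) * b * x ^ n * x := by rw [hxpow]; group
      _ = z ^ n.choose 2 * (z ^ n * b ^ n) * b * x ^ n * x := by
          rw [((hzb.pow_left n).pow_right n).eq]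
      _ = z ^ n.choose 2 * z ^ n * (b ^ n * b) * (x ^ n * x) := by group

variable [Finite G]

theorem exists_pair (hn : ∀ H : Subgroup G, H.Normal) (hna : ∃ a b : G, ¬ Commute a b) :
    ∃ a b : G, orderOf a = 4 ∧ b ^ 2 = a ^ 2 ∧ b * a * b⁻¹ = a⁻¹ ∧ b ∉ Subgroup.zpowers a := by
  classical
  have hex : ∃ n, ∃ a b : G, ¬ Commute a b ∧ orderOf a + orderOf b = n :=
    let ⟨a, b, h⟩ := hna; ⟨_, a, b, h, rfl⟩
  obtain ⟨a₀, b₀, hab₀, hs₀⟩ := Nat.find_spec hex
  have hmin : ∀ x y : G, orderOf x + orderOf y < orderOf a₀ + orderOf b₀ → Commute x y := by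
    intro x y hxy
    by_contra h
    exact Nat.find_min hex (hs₀ ▸ hxy) ⟨x, y, h, rfl⟩
  -- the commutator of a minimal pair
  have basic : ∀ a b : G, ¬ Commute a b → orderOf a + orderOf b = orderOf a₀ + orderOf b₀ →
      let d := b * a * b⁻¹ * a⁻¹
      d ≠ 1 ∧ d ∈ Subgroup.zpowers a ∧ d ∈ Subgroup.zpowers b ∧
        ∀ q : ℕ, q.Prime → q ∣ orderOf a → d ^ q = 1 := by
    intro a b hab hs d
    have hda : d ∈ Subgroup.zpowers a :=
      mul_mem ((hn _).conj_mem a (Subgroup.mem_zpowers a) b) (inv_mem (Subgroup.mem_zpowers a))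
    have hdb : d ∈ Subgroup.zpowers b := by
      have h1 : a * b⁻¹ * a⁻¹ ∈ Subgroup.zpowers b :=
        (hn _).conj_mem _ (inv_mem (Subgroup.mem_zpowers b)) a
      have h2 := mul_mem (Subgroup.mem_zpowers b) h1
      have e : d = b * (a * b⁻¹ * a⁻¹) := by simp only [d]; group
      rw [e]; exact h2
    refine ⟨fun h => hab ?_, hda, hdb, fun q hq hqa => ?_⟩
    · have e : b * a = a * b := by
        calc b * a = d * a * b := by simp only [d]; group
          _ = a * b := by rw [h, one_mul]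
      exact e.symm
    · have hlt : orderOf (a ^ q) < orderOf a := by
        rw [orderOf_pow, Nat.gcd_eq_right hqa]
        exact Nat.div_lt_self (orderOf_pos a) hq.one_lt
      have hc : Commute (a ^ q) b := hmin _ _ (by omega)
      have hcd : Commute d a := by
        obtain ⟨i, hi⟩ := Subgroup.mem_zpowers_iff.1 hda
        rw [← hi]; exact (Commute.refl a).zpow_left i
      have h1 : (b * a * b⁻¹) ^ q = a ^ q := by
        rw [conj_pow, ← hc.eq, mul_inv_cancel_right]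
      rw [show b * a * b⁻¹ = d * a by simp only [d]; group, hcd.mul_pow, mul_eq_right] at h1
      exact h1
  -- a minimal pair of prime power orders
  obtain ⟨hd1, hda, hdb, hdq⟩ := basic a₀ b₀ hab₀ rfl
  set d := b₀ * a₀ * b₀⁻¹ * a₀⁻¹ with hd
  obtain ⟨hd'1, hd'a, hd'b, hd'q⟩ := basic b₀ a₀ (fun h => hab₀ h.symm) (add_comm _ _)
  have hd' : a₀ * b₀ * a₀⁻¹ * b₀⁻¹ = d⁻¹ := by rw [hd]; group
  rw [hd'] at hd'q
  set p := orderOf d with hpd
  have hp : p.Prime := by
    obtain ⟨q, hq, hqa⟩ := Nat.exists_prime_and_dvd (show orderOf a₀ ≠ 1 from fun h => hab₀ (by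
      rw [orderOf_eq_one_iff.1 h]; exact Commute.one_left _))
    have := orderOf_dvd_of_pow_eq_one (hdq q hq hqa)
    rcases (Nat.dvd_prime hq).1 this with h | h
    · exact absurd (orderOf_eq_one_iff.1 h) hd1
    · rw [← hpd] at h; rwa [h]
  haveI := Fact.mk hp
  have hpow : ∀ n : ℕ, n ≠ 0 → (∀ q : ℕ, q.Prime → q ∣ n → d ^ q = 1) → ∃ k, n = p ^ k := by
    intro n hn0 h
    refine ⟨_, Nat.eq_prime_pow_of_unique_prime_dvd hn0 fun {q} hq hqn => ?_⟩
    have := orderOf_dvd_of_pow_eq_one (h q hq hqn)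
    exact ((Nat.prime_dvd_prime_iff_eq hp hq).1 this).symm
  obtain ⟨α₀, hα₀⟩ := hpow _ (orderOf_pos a₀).ne' hdq
  obtain ⟨β₀, hβ₀⟩ := hpow _ (orderOf_pos b₀).ne' fun q hq hqn => by
    have := hd'q q hq hqn
    rwa [inv_pow, inv_eq_one] at this
  -- order the pair
  obtain ⟨a, b, α, β, hab, hs, hα, hβ, hle⟩ : ∃ a b : G, ∃ α β : ℕ, ¬ Commute a b ∧
      orderOf a + orderOf b = orderOf a₀ + orderOf b₀ ∧ orderOf a = p ^ α ∧ orderOf b = p ^ β ∧ β ≤ α := by
    rcases le_total β₀ α₀ with h | h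
    · exact ⟨a₀, b₀, α₀, β₀, hab₀, rfl, hα₀, hβ₀, h⟩
    · exact ⟨b₀, a₀, β₀, α₀, fun h' => hab₀ h'.symm, add_comm _ _, hβ₀, hα₀, h⟩
  obtain ⟨hz1, hza, hzb, hzq⟩ := basic a b hab hs
  set z := b * a * b⁻¹ * a⁻¹ with hz
  have hβ0 : β ≠ 0 := fun h => hab (by
    rw [h, pow_zero, orderOf_eq_one_iff] at hβ; rw [hβ]; exact Commute.one_right _)
  have hα0 : α ≠ 0 := by omega
  have hzp : z ^ p = 1 := hzq p hp (hα ▸ dvd_pow_self p hα0)
  set n := p ^ (β - 1) with hn'
  have hnb : orderOf (b ^ n) = p := by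
    rw [orderOf_pow, hβ, Nat.gcd_eq_right (pow_dvd_pow p (Nat.sub_le β 1)),
      Nat.pow_div (Nat.sub_le β 1) hp.pos, show β - (β - 1) = 1 by omega, pow_one]
  -- `b ^ n` lies in `⟨a⟩`
  have hbna : b ^ n ∈ Subgroup.zpowers a := by
    have hsame : Subgroup.zpowers z = Subgroup.zpowers (b ^ n) := by
      have hcard : ∀ y : G, y ^ p = 1 → y ≠ 1 → orderOf y = p := fun y h1 h2 =>
        ((Nat.dvd_prime hp).1 (orderOf_dvd_of_pow_eq_one h1)).resolve_left
          (fun h => h2 (orderOf_eq_one_iff.1 h))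
      refine Subgroup.eq_of_le_of_card_ge (Subgroup.zpowers_le.2 ?_) ?_
      · obtain ⟨i, hi⟩ := Subgroup.mem_zpowers_iff.1 hzb
        have hb : b ^ (i * (p : ℤ)) = 1 := by rw [zpow_mul, hi, zpow_natCast, hzp]
        rw [← orderOf_dvd_iff_zpow_eq_one, hβ] at hb
        rw [show p ^ β = p ^ (β - 1) * p by rw [← pow_succ, Nat.sub_add_cancel (by omega)],
          Nat.cast_mul, Int.mul_dvd_mul_iff_right (by exact_mod_cast hp.ne_zero)] at hb
        obtain ⟨t, ht⟩ := hb
        refine Subgroup.mem_zpowers_iff.2 ⟨t, ?_⟩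
        rw [← zpow_natCast, ← zpow_mul, ← ht, hi]
      · rw [Nat.card_zpowers, Nat.card_zpowers, hnb, hcard z hzp hz1]
    exact Subgroup.zpowers_le.2 hza (hsame ▸ Subgroup.mem_zpowers _)
  obtain ⟨k, hk, hkd⟩ : ∃ k : ℤ, b ^ n = (a ^ k) ^ n ∧ (p : ℤ) ^ (α - β) ∣ k := by
    obtain ⟨i, hi⟩ := Subgroup.mem_zpowers_iff.1 hbna
    have h1 : a ^ (i * (p : ℤ)) = 1 := by
      rw [zpow_mul, hi, zpow_natCast, ← hnb, pow_orderOf_eq_one]
    rw [← orderOf_dvd_iff_zpow_eq_one, hα] at h1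
    rw [show p ^ α = p ^ (α - β) * n * p by
        rw [hn', ← pow_add, ← pow_succ]; congr 1; omega,
      Nat.cast_mul, Int.mul_dvd_mul_iff_right (by exact_mod_cast hp.ne_zero)] at h1
    obtain ⟨t, ht⟩ := h1
    refine ⟨(p : ℤ) ^ (α - β) * t, ?_, dvd_mul_right _ _⟩
    rw [← hi, ← zpow_natCast (a ^ _) n, ← zpow_mul, ht]
    congr 1
    push_cast
    ring
  set x := (a ^ k)⁻¹ with hx
  set w := x * b * x⁻¹ * b⁻¹ with hw
  have hxb : x * b = w * b * x := by rw [hw]; group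
  have hcz : ∀ y ∈ Subgroup.zpowers z, Commute y a ∧ Commute y b := by
    intro y hy
    obtain ⟨i, hi⟩ := Subgroup.mem_zpowers_iff.1 (Subgroup.zpowers_le.2 hza hy)
    obtain ⟨j, hj⟩ := Subgroup.mem_zpowers_iff.1 (Subgroup.zpowers_le.2 hzb hy)
    exact ⟨hi ▸ (Commute.refl a).zpow_left i, hj ▸ (Commute.refl b).zpow_left j⟩
  have hwz : w ∈ Subgroup.zpowers z := by
    refine Subgroup.mem_zpowers_iff.2 ⟨k, ?_⟩
    have h1 : b * a * b⁻¹ = z * a := by rw [hz]; group
    have h2 : b * a ^ k * b⁻¹ = z ^ k * a ^ k := by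
      rw [← conj_zpow, h1, ((hcz z (Subgroup.mem_zpowers z)).1).mul_zpow]
    calc z ^ k = (a ^ k)⁻¹ * (z ^ k * a ^ k) := by
          rw [((hcz _ (Subgroup.zpow_mem _ (Subgroup.mem_zpowers z) k)).1.zpow_right k).eq,
            inv_mul_cancel_left]
      _ = (a ^ k)⁻¹ * (b * a ^ k * b⁻¹) := by rw [h2]
      _ = w := by rw [hw, hx]; group
  have hbx : (b * x) ^ n = w ^ n.choose 2 := by
    rw [mul_pow_of_central hxb (hcz w hwz).2
      (((hcz w hwz).1.zpow_right k).inv_right) n, hx, inv_pow, mul_assoc, hk, mul_inv_cancel, mul_one]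
  have hnc : w ^ n.choose 2 ≠ 1 := by
    intro h1
    have hlt : orderOf (b * x) < orderOf b := by
      refine lt_of_le_of_lt (Nat.le_of_dvd (Nat.pos_of_ne_zero (pow_ne_zero _ hp.ne_zero))
        (orderOf_dvd_of_pow_eq_one (hbx.trans h1))) ?_
      rw [hβ]
      exact Nat.pow_lt_pow_right hp.one_lt (by omega)
    refine hab ?_
    have hc : Commute a (b * x) := hmin _ _ (by omega)
    have h2 : Commute a x := ((Commute.refl a).zpow_right k).inv_right
    have h3 := hc.mul_right h2.inv_right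
    rwa [mul_inv_cancel_right] at h3
  obtain ⟨hp2, hn2⟩ : p = 2 ∧ β = 2 := by
    have hwp : w ^ p = 1 := orderOf_dvd_iff_pow_eq_one.1
      ((orderOf_dvd_of_mem_zpowers hwz).trans (orderOf_dvd_of_pow_eq_one hzp))
    have hnd : ¬ p ∣ n.choose 2 := fun ⟨r, hr⟩ => hnc (by rw [hr, pow_mul, hwp, one_pow])
    by_contra hne
    refine hnd ?_
    rcases Nat.lt_or_ge β 2 with h | h
    · rw [hn', show β - 1 = 0 by omega]
      simp
    · have h2n : n.choose 2 * 2 = n * (n - 1) := by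
        rw [Nat.choose_two_right, Nat.div_mul_cancel (Nat.even_mul_pred_self n).two_dvd]
      by_cases hp2 : p = 2
      · have : 3 ≤ β := by
          by_contra hβ3
          exact hne ⟨hp2, by omega⟩
        have h4 : 2 * 2 ∣ n.choose 2 * 2 := by
          rw [h2n, hn', hp2]
          exact Dvd.dvd.mul_right (dvd_trans (by norm_num) (pow_dvd_pow 2 (show 2 ≤ β - 1 by omega))) _
        rw [hp2]
        exact Nat.dvd_of_mul_dvd_mul_right two_pos h4
      · refine (Nat.Coprime.dvd_of_dvd_mul_right ?_ (h2n.symm ▸ ((dvd_pow_self p (by omega)).mul_right _)))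
        exact (Nat.coprime_primes hp Nat.prime_two).2 hp2
  have hkodd : ¬ (2 : ℤ) ∣ k := by
    rintro ⟨r, hr⟩
    refine hnc ?_
    have : w = 1 := by
      have hlt : orderOf x < orderOf a := by
        refine lt_of_le_of_lt (Nat.le_of_dvd (pow_pos hp.pos (α - 1)) (orderOf_dvd_of_pow_eq_one ?_))
          (hα ▸ Nat.pow_lt_pow_right hp.one_lt (by omega))
        rw [hx, inv_pow, inv_eq_one, ← zpow_natCast, ← zpow_mul, ← orderOf_dvd_iff_zpow_eq_one, hα,
          hr, hp2]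
        refine ⟨r, ?_⟩
        push_cast
        rw [show (2 : ℤ) ^ α = 2 ^ (α - 1) * 2 by rw [← pow_succ]; congr 1; omega]
        ring
      have hc : Commute x b := hmin _ _ (by omega)
      rw [hw, hc.eq]; group
    rw [this, one_pow]
  have hα2 : α = 2 := by
    by_contra hne
    refine hkodd (dvd_trans ?_ hkd)
    rw [hp2]
    exact dvd_pow_self _ (by omega)
  rw [hp2, hα2] at hα
  rw [hp2, hn2] at hβ
  norm_num at hα hβ
  have hinv2 : ∀ y ∈ Subgroup.zpowers a, y ^ 2 = 1 → y ≠ 1 → y = a ^ 2 := by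
    intro y hy h2 h1
    obtain ⟨i, hi, rfl⟩ : ∃ i, i < 4 ∧ a ^ i = y := by
      obtain ⟨i, hi⟩ := (mem_zpowers_iff_mem_range_orderOf (x := a)).1 hy |> Finset.mem_image.1
      exact ⟨i, by rw [← hα]; exact Finset.mem_range.1 hi.1, hi.2⟩
    rw [← pow_mul, ← orderOf_dvd_iff_pow_eq_one, hα] at h2
    have : i = 2 := by
      interval_cases i
      · simp at h1
      · norm_num at h2
      · rfl
      · norm_num at h2
    rw [this]
  have hb2 : b ^ 2 = a ^ 2 := by
    have h1 : n = 2 := by rw [hn', hp2, hn2]; rfl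
    rw [h1] at hbna hnb
    refine hinv2 _ hbna ?_ ?_
    · rw [← pow_mul]; norm_num; exact hβ ▸ pow_orderOf_eq_one b
    · intro h; rw [h, orderOf_one, hp2] at hnb; exact absurd hnb (by norm_num)
  refine ⟨a, b, hα, hb2, ?_, fun h => hab ?_⟩
  · have h1 : z = a ^ 2 := hinv2 z hza (hp2 ▸ hzp) hz1
    have h2 : b * a * b⁻¹ = z * a := by rw [hz]; group
    rw [h2, h1, ← pow_succ]
    exact eq_inv_of_mul_eq_one_left (by rw [← pow_succ]; exact (show a ^ 4 = 1 from hα ▸ pow_orderOf_eq_one a))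
  · obtain ⟨i, hi⟩ := Subgroup.mem_zpowers_iff.1 h
    exact hi ▸ (Commute.refl a).zpow_right i

theorem main (hna : ¬ IsMulCommutative G) (hn : ∀ H : Subgroup G, H.Normal) :
    ∃ Q E A : Subgroup G, Nonempty (Q ≃* QuaternionGroup 2) ∧ Cfsg.IsElementaryAbelian 2 E ∧
      IsMulCommutative A ∧ Odd (Nat.card A) ∧ E ⊓ A = ⊥ ∧ Q ⊓ (E ⊔ A) = ⊥ ∧ Q ⊔ (E ⊔ A) = ⊤ := by
  classical
  obtain ⟨a, b, ha, hb2, hba, hbna⟩ := exists_pair hn (by
    by_contra hc
    push Not at hc
    exact hna ⟨⟨fun x y => (hc x y).eq⟩⟩)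
  set c := a ^ 2 with hc
  have hc1 : c ≠ 1 := fun h => by
    have := orderOf_dvd_of_pow_eq_one h
    rw [ha] at this; norm_num at this
  have ha4 : a ^ 4 = 1 := ha ▸ pow_orderOf_eq_one a
  have hc2 : c ^ 2 = 1 := by rw [hc, ← pow_mul]; exact ha4
  have hb4 : b ^ 4 = 1 := by rw [show (4 : ℕ) = 2 * 2 from rfl, pow_mul, hb2, hc2]
  -- the quaternion subgroup
  set Q := Subgroup.zpowers a ⊔ Subgroup.zpowers b with hQ
  haveI := hn (Subgroup.zpowers a)
  have haQ : a ∈ Q := Subgroup.mem_sup_left (Subgroup.mem_zpowers a)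
  have hbQ : b ∈ Q := Subgroup.mem_sup_right (Subgroup.mem_zpowers b)
  have hcard : Nat.card Q = 8 := by
    have h1 := Subgroup.relIndex_mul_relIndex ⊥ (Subgroup.zpowers a) Q bot_le le_sup_left
    rw [Subgroup.relIndex_bot_left, Subgroup.relIndex_bot_left, Nat.card_zpowers, ha, hQ,
      Subgroup.relIndex_sup_left] at h1
    set A := Subgroup.zpowers a
    set B := Subgroup.zpowers b
    have hbo : orderOf b = 4 := by
      have := orderOf_dvd_of_pow_eq_one hb4
      obtain ⟨i, hi, hi'⟩ := (Nat.dvd_prime_pow Nat.prime_two).1 (show orderOf b ∣ 2 ^ 2 from this)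
      interval_cases i
      · rw [pow_zero, orderOf_eq_one_iff] at hi'
        exact absurd (hi' ▸ one_mem _) hbna
      · rw [pow_one] at hi'
        exact absurd (show b ^ 2 = 1 from hi' ▸ pow_orderOf_eq_one b) (hb2 ▸ hc1)
      · exact hi'
    have h2 := Subgroup.relIndex_mul_relIndex ⊥ (A ⊓ B) B bot_le inf_le_right
    rw [Subgroup.relIndex_bot_left, Subgroup.relIndex_bot_left, Subgroup.inf_relIndex_right,
      Nat.card_zpowers, hbo] at h2
    have h3 : 2 ≤ Nat.card ↥(A ⊓ B) := by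
      have hne : A ⊓ B ≠ ⊥ := fun h => hc1 (by
        rw [← Subgroup.mem_bot, ← h]
        exact Subgroup.mem_inf.2 ⟨Subgroup.pow_mem _ (Subgroup.mem_zpowers a) 2,
          hb2 ▸ Subgroup.pow_mem _ (Subgroup.mem_zpowers b) 2⟩)
      have := Nat.card_pos (α := ↥(A ⊓ B))
      have : Nat.card ↥(A ⊓ B) ≠ 1 := fun h => hne (Subgroup.card_eq_one.1 h)
      omega
    have h4 : A.relIndex B ≠ 1 := fun h => hbna (Subgroup.relIndex_eq_one.1 h (Subgroup.mem_zpowers b))
    have h5 : A.relIndex B = 2 := by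
      have h6 : A.relIndex B ∣ 4 := Dvd.intro_left _ h2
      have h7 : A.relIndex B ≤ 2 := by nlinarith
      have h8 : A.relIndex B ≠ 0 := fun h => by rw [h] at h2; norm_num at h2
      omega
    rw [h5, ← hQ] at h1
    omega
  have hQe : Nonempty (Q ≃* QuaternionGroup 2) :=
    PGroups.nonempty_quaternion_equiv (a := (⟨a, haQ⟩ : Q)) (x := ⟨b, hbQ⟩)
      (by rw [Subgroup.orderOf_mk]; exact ha) (Subtype.ext hb2) (Subtype.ext hba)
      (fun h => hbna (by
        obtain ⟨i, hi⟩ := Subgroup.mem_zpowers_iff.1 h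
        exact Subgroup.mem_zpowers_iff.2 ⟨i, congrArg Subtype.val hi⟩))
      (by rw [hcard])
  -- its centraliser
  set C := Subgroup.centralizer ({a, b} : Set G) with hC
  have hmemC : ∀ x, x ∈ C ↔ Commute a x ∧ Commute b x := by
    intro x
    rw [hC, Subgroup.mem_centralizer_iff]
    simp [Commute, SemiconjBy]
  have hnab : ¬ Commute a b := fun h => hc1 (by
    have h1 : b * a * b⁻¹ = a := by rw [← h.eq]; group
    rw [hba] at h1
    rw [hc, sq]
    conv_lhs => arg 1; rw [← h1]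
    exact inv_mul_cancel a)
  have hCsq : ∀ x ∈ C, x ^ 4 = 1 → x ^ 2 = 1 := by
    intro x hx hx4
    obtain ⟨hax, hbx⟩ := (hmemC x).1 hx
    have hbx4 : (b * x) ^ 4 = 1 := by rw [hbx.mul_pow, hb4, hx4, one_mul]
    have hconj : a * (b * x) * a⁻¹ = b⁻¹ * x := by
      have h1 : a * b * a⁻¹ = b⁻¹ := by
        have h3 : b * a * b = a := by
          calc b * a * b = (b * a * b⁻¹) * b ^ 2 := by group
            _ = a := by rw [hba, hb2, hc, sq, inv_mul_cancel_left]
        calc a * b * a⁻¹ = b⁻¹ * (b * a * b) * a⁻¹ := by group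
          _ = b⁻¹ := by rw [h3]; group
      calc a * (b * x) * a⁻¹ = a * b * a⁻¹ * (a * x * a⁻¹) := by group
        _ = b⁻¹ * x := by rw [h1, hax.eq, mul_inv_cancel_right]
    obtain ⟨i, hi⟩ : ∃ i : ℕ, (b * x) ^ i = b⁻¹ * x := by
      have := (hn (Subgroup.zpowers (b * x))).conj_mem _ (Subgroup.mem_zpowers _) a
      rw [hconj] at this
      exact (Submonoid.mem_powers_iff _ _).1 (mem_powers_iff_mem_zpowers.2 this)
    rw [← pow_mod_orderOf] at hi
    have hlt : i % orderOf (b * x) < 4 := lt_of_lt_of_le (Nat.mod_lt _ (orderOf_pos _))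
      (Nat.le_of_dvd (by norm_num) (orderOf_dvd_of_pow_eq_one hbx4))
    generalize i % orderOf (b * x) = j at hi hlt
    rw [hbx.mul_pow] at hi
    have hkey : ∀ y, x = y → (Commute a y → False) → False := fun y hy h => h (hy ▸ hax)
    interval_cases j
    · exfalso
      refine hkey b ?_ hnab
      calc x = b * (b⁻¹ * x) := by group
        _ = b := by rw [← hi]; simp
    · exfalso
      refine hc1 ?_
      rw [pow_one, pow_one, mul_left_inj] at hi
      rw [← hb2, sq]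
      conv_lhs => arg 1; rw [hi]
      exact inv_mul_cancel b
    · exfalso
      refine hkey b ?_ hnab
      have h3 : b ^ 3 * x = 1 := by
        have h4 : b ^ 2 * x * x = b⁻¹ * x := by rw [mul_assoc, ← sq]; exact hi
        rw [mul_left_inj] at h4
        rw [pow_succ', mul_assoc, h4, mul_inv_cancel]
      calc x = b * (b ^ 3 * x) := by rw [← mul_assoc, ← pow_succ', hb4, one_mul]
        _ = b := by rw [h3, mul_one]
    · have h4 : b ^ 3 = b⁻¹ := eq_inv_of_mul_eq_one_left (by rw [← pow_succ]; exact hb4)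
      rw [h4, mul_right_inj, pow_succ, mul_eq_right] at hi
      exact hi
  have hCcomm : ∀ x ∈ C, ∀ y ∈ C, x * y = y * x := by
    intro x hx y hy
    by_contra hxy
    have hnC : ∀ H : Subgroup C, H.Normal := fun H => by
      refine ⟨fun z hz g => ?_⟩
      have h1 := (hn (H.map C.subtype)).conj_mem _ ⟨z, hz, rfl⟩ (g : G)
      obtain ⟨w, hw, hwz⟩ := h1
      exact (Subtype.ext hwz : w = g * z * g⁻¹) ▸ hw
    obtain ⟨a', b', ha', -, -, -⟩ := exists_pair hnC
      ⟨⟨x, hx⟩, ⟨y, hy⟩, fun h => hxy (congrArg Subtype.val h.eq)⟩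
    have h4 : a' ^ 4 = 1 := ha' ▸ pow_orderOf_eq_one a'
    have h2 : a' ^ 2 = 1 := Subtype.ext (hCsq a' a'.2 (congrArg Subtype.val h4))
    have := orderOf_dvd_of_pow_eq_one h2
    rw [ha'] at this
    norm_num at this
  have hcC : c ∈ C := (hmemC c).2 ⟨(Commute.refl a).pow_right 2, by rw [← hb2]; exact (Commute.refl b).pow_right 2⟩
  -- `G = Q * C`
  have hQC : Q ⊔ C = ⊤ := by
    rw [eq_top_iff]
    intro g _
    have hcase : ∀ y : G, y ^ 4 = 1 → y ^ 2 ≠ 1 → g * y * g⁻¹ = y ∨ g * y * g⁻¹ = y⁻¹ := by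
      intro y h4 h2
      obtain ⟨i, hi⟩ := (Submonoid.mem_powers_iff _ _).1 (mem_powers_iff_mem_zpowers.2
        ((hn (Subgroup.zpowers y)).conj_mem y (Subgroup.mem_zpowers y) g))
      rw [← pow_mod_orderOf] at hi
      have hlt : i % orderOf y < 4 := lt_of_lt_of_le (Nat.mod_lt _ (orderOf_pos _))
        (Nat.le_of_dvd (by norm_num) (orderOf_dvd_of_pow_eq_one h4))
      generalize i % orderOf y = j at hi hlt
      interval_cases j
      · rw [pow_zero] at hi
        exact absurd (by rw [conj_eq_one_iff.1 hi.symm, one_pow]) h2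
      · exact Or.inl (by rw [← hi, pow_one])
      · exfalso
        refine h2 ?_
        have h5 : (g * y * g⁻¹) ^ 2 = 1 := by rw [← hi, ← pow_mul]; exact h4
        rwa [conj_pow, conj_eq_one_iff] at h5
      · exact Or.inr (by rw [← hi]; exact eq_inv_of_mul_eq_one_left (by rw [← pow_succ]; exact h4))
    have hkey : ∀ q ∈ Q, q * g ∈ C → g ∈ Q ⊔ C := by
      intro q hq hqg
      rw [show g = q⁻¹ * (q * g) by group]
      exact Subgroup.mul_mem_sup (inv_mem hq) hqg
    have hbainv : b * a⁻¹ * b⁻¹ = a := by rw [← conj_inv, hba, inv_inv]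
    have habinv : a * b⁻¹ * a⁻¹ = b := by
      have h3 : b * a * b = a := by
        calc b * a * b = (b * a * b⁻¹) * b ^ 2 := by group
          _ = a := by rw [hba, hb2, hc, sq, inv_mul_cancel_left]
      calc a * b⁻¹ * a⁻¹ = b * a * b * b⁻¹ * a⁻¹ := by rw [h3]
        _ = b := by group
    have mk : ∀ q : G, q * (g * a * g⁻¹) * q⁻¹ = a → q * (g * b * g⁻¹) * q⁻¹ = b → q * g ∈ C := by
      intro q h1 h2
      refine (hmemC _).2 ⟨?_, ?_⟩
      · show a * (q * g) = q * g * a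
        conv_lhs => arg 1; rw [← h1]
        group
      · show b * (q * g) = q * g * b
        conv_lhs => arg 1; rw [← h2]
        group
    rcases hcase a ha4 hc1 with hga | hga <;> rcases hcase b hb4 (hb2 ▸ hc1) with hgb | hgb
    · exact hkey 1 (one_mem _) (mk 1 (by rw [hga]; group) (by rw [hgb]; group))
    · exact hkey a haQ (mk a (by rw [hga]; group) (by rw [hgb, habinv]))
    · exact hkey b hbQ (mk b (by rw [hga, hbainv]) (by rw [hgb]; group))
    · exact hkey (a * b) (mul_mem haQ hbQ) (mk (a * b)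
        (by rw [hga, show a * b * a⁻¹ * (a * b)⁻¹ = a * (b * a⁻¹ * b⁻¹) * a⁻¹ by group, hbainv]; group)
        (by rw [hgb, show a * b * b⁻¹ * (a * b)⁻¹ = a * b⁻¹ * a⁻¹ by group, habinv]))
  -- decomposition of the centraliser
  let E₀ : Subgroup G :=
    { carrier := {x | x ∈ C ∧ x ^ 2 = 1}
      one_mem' := ⟨one_mem _, one_pow _⟩
      mul_mem' := fun {x y} hx hy => ⟨mul_mem hx.1 hy.1, by
        rw [Commute.mul_pow (hCcomm x hx.1 y hy.1), hx.2, hy.2, one_mul]⟩
      inv_mem' := fun {x} hx => ⟨inv_mem hx.1, by rw [inv_pow, hx.2, inv_one]⟩ }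
  let A : Subgroup G :=
    { carrier := {x | x ∈ C ∧ Odd (orderOf x)}
      one_mem' := ⟨one_mem _, by rw [orderOf_one]; exact odd_one⟩
      mul_mem' := fun {x y} hx hy => ⟨mul_mem hx.1 hy.1,
        (hx.2.mul hy.2).of_dvd_nat (Commute.orderOf_mul_dvd_mul_orderOf (hCcomm x hx.1 y hy.1))⟩
      inv_mem' := fun {x} hx => ⟨inv_mem hx.1, by rw [orderOf_inv]; exact hx.2⟩ }
  obtain ⟨E, ⟨hEE, hcE⟩, hmax⟩ := Set.Finite.exists_maximal
    (s := {E : Subgroup G | E ≤ E₀ ∧ c ∉ E}) (Set.toFinite _)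
    ⟨⊥, bot_le, fun h => hc1 (Subgroup.mem_bot.1 h)⟩
  have hEc : ∀ x ∈ E₀, x ∈ E ∨ x * c ∈ E := by
    intro x hx
    by_cases hxE : x ∈ E
    · exact Or.inl hxE
    refine Or.inr ?_
    haveI := hn E
    have hlt : ¬ (E ⊔ Subgroup.zpowers x ≤ E₀ ∧ c ∉ E ⊔ Subgroup.zpowers x) := fun h =>
      hxE (hmax h le_sup_left (Subgroup.mem_sup_right (Subgroup.mem_zpowers x)))
    push Not at hlt
    obtain ⟨e, he, y, hy, hey⟩ := Subgroup.mem_sup_of_normal_left.1
      (hlt (sup_le hEE (Subgroup.zpowers_le.2 hx)))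
    obtain ⟨i, rfl⟩ := Subgroup.mem_zpowers_iff.1 hy
    have hx2 : x ^ (2 : ℤ) = 1 := by exact_mod_cast hx.2
    rcases Int.even_or_odd i with ⟨r, rfl⟩ | ⟨r, rfl⟩
    · exfalso
      rw [← two_mul, zpow_mul, hx2, one_zpow, mul_one] at hey
      exact hcE (hey ▸ he)
    · rw [zpow_add, zpow_mul, hx2, one_zpow, one_mul, zpow_one] at hey
      rw [← hey, hCcomm e (hEE he).1 x hx.1, ← mul_assoc, ← sq, hx.2, one_mul]
      exact he
  have hEA : ∀ y ∈ E ⊔ A, y ∈ C := fun y hy =>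
    (sup_le (fun x (hx : x ∈ E) => (hEE hx).1) (fun x (hx : x ∈ A) => hx.1) : E ⊔ A ≤ C) hy
  have hCle : C ≤ Q ⊔ (E ⊔ A) := by
    intro x hx
    obtain ⟨k, m, hm, hkm⟩ := Nat.exists_eq_pow_mul_and_not_dvd (orderOf_pos x).ne' 2 (by norm_num)
    have hcop : Nat.Coprime (2 ^ k) m := Nat.Coprime.pow_left _ (Nat.prime_two.coprime_iff_not_dvd.2 hm)
    obtain ⟨e, he1, he0⟩ := Nat.chineseRemainder hcop 1 0
    obtain ⟨f, hf1, hf0⟩ := Nat.chineseRemainder hcop.symm 1 0
    have hsplit : x ^ e * x ^ f = x := by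
      rw [← pow_add]
      conv_rhs => rw [← pow_one x]
      rw [pow_eq_pow_iff_modEq, hkm, ← Nat.modEq_and_modEq_iff_modEq_mul hcop]
      constructor
      · simpa using he1.add hf0
      · simpa using he0.add hf1
    have hxe : x ^ e ∈ E₀ := by
      refine ⟨pow_mem hx e, ?_⟩
      have h2 : ∀ k, ∀ y ∈ C, y ^ 2 ^ k = 1 → y ^ 2 = 1 := by
        intro k
        induction k with
        | zero => intro y _ h; rw [pow_zero, pow_one] at h; rw [h, one_pow]
        | succ k ih =>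
          intro y hy h
          refine hCsq y hy ?_
          have h3 := ih (y ^ 2) (pow_mem hy 2) (by rw [← pow_mul, ← pow_succ']; exact h)
          rw [← pow_mul] at h3
          exact h3
      refine h2 k _ (pow_mem hx e) ?_
      rw [← pow_mul, ← orderOf_dvd_iff_pow_eq_one, hkm, mul_comm e]
      exact mul_dvd_mul_left _ (Nat.modEq_zero_iff_dvd.1 he0)
    have hxf : x ^ f ∈ A := by
      refine ⟨pow_mem hx f, Odd.of_dvd_nat (Nat.odd_iff.2 (Nat.two_dvd_ne_zero.1 hm)) (orderOf_dvd_of_pow_eq_one ?_)⟩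
      rw [← pow_mul, ← orderOf_dvd_iff_pow_eq_one, hkm]
      exact mul_dvd_mul_right (Nat.modEq_zero_iff_dvd.1 hf0) _
    rw [← hsplit]
    refine mul_mem ?_ (Subgroup.mem_sup_right (Subgroup.mem_sup_right hxf))
    rcases hEc _ hxe with h | h
    · exact Subgroup.mem_sup_right (Subgroup.mem_sup_left h)
    · rw [show x ^ e = x ^ e * c * c⁻¹ by group]
      exact mul_mem (Subgroup.mem_sup_right (Subgroup.mem_sup_left h))
        (inv_mem (Subgroup.mem_sup_left (Subgroup.pow_mem _ haQ 2)))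
  have hAE : E ⊓ A = ⊥ := by
    rw [eq_bot_iff]
    intro x hx
    obtain ⟨h1, h2⟩ := Subgroup.mem_inf.1 hx
    rw [Subgroup.mem_bot, ← orderOf_eq_one_iff]
    rcases (Nat.dvd_prime Nat.prime_two).1 (orderOf_dvd_of_pow_eq_one (hEE h1).2) with h | h
    · exact h
    · exact absurd (h ▸ h2.2) (by decide)
  obtain ⟨eQ⟩ := hQe
  refine ⟨Q, E, A, ⟨eQ⟩, PGroups.elemAb_mk (fun x hx y hy => hCcomm x (hEE hx).1 y (hEE hy).1)
    (fun x hx => (hEE hx).2), ⟨⟨fun x y => Subtype.ext (hCcomm x x.2.1 y y.2.1)⟩⟩, ?_, hAE, ?_, ?_⟩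
  · rw [Nat.odd_iff, ← Nat.two_dvd_ne_zero]
    intro h2
    obtain ⟨x, hx⟩ := exists_prime_orderOf_dvd_card' 2 h2
    have := x.2.2
    rw [Subgroup.orderOf_coe, hx] at this
    exact absurd this (by decide)
  · rw [eq_bot_iff]
    intro x hx
    obtain ⟨hxQ, hxEA⟩ := Subgroup.mem_inf.1 hx
    obtain ⟨hax, hbx⟩ := (hmemC x).1 (hEA x hxEA)
    have hz : ∀ q r s : QuaternionGroup 2, r ^ 2 ≠ 1 → s * r ≠ r * s → r * q = q * r →
        s * q = q * s → q = 1 ∨ q = r ^ 2 := by decide +kernel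
    have hA2 : eQ ⟨a, haQ⟩ ^ 2 ≠ 1 := by
      rw [← map_pow, Ne, EmbeddingLike.map_eq_one_iff]
      exact fun h => hc1 (congrArg Subtype.val h)
    have := hz (eQ ⟨x, hxQ⟩) (eQ ⟨a, haQ⟩) (eQ ⟨b, hbQ⟩) hA2
      (fun h => hnab (by
        rw [← map_mul, ← map_mul] at h
        exact (congrArg Subtype.val (eQ.injective h)).symm))
      (by rw [← map_mul, ← map_mul]; exact congrArg eQ (Subtype.ext hax.eq))
      (by rw [← map_mul, ← map_mul]; exact congrArg eQ (Subtype.ext hbx.eq))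
    rw [← map_pow, EmbeddingLike.map_eq_one_iff, eQ.injective.eq_iff] at this
    rcases this with h | h
    · exact Subgroup.mem_bot.2 (congrArg Subtype.val h)
    · exfalso
      have hxc : x = c := congrArg Subtype.val h
      rw [hxc] at hxEA
      haveI := hn E
      obtain ⟨e, he, y, hy, hey⟩ := Subgroup.mem_sup_of_normal_left.1 hxEA
      have hy2 : y ^ 2 = 1 := by
        have h' : y = e⁻¹ * c := by rw [← hey, inv_mul_cancel_left]
        rw [h', Commute.mul_pow (hCcomm _ (inv_mem (hEE he).1) c hcC), inv_pow, (hEE he).2, hc2]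
        simp
      have : y ∈ E ⊓ A → y = 1 := fun h => Subgroup.mem_bot.1 (hAE ▸ h)
      have hy1 : y = 1 := orderOf_eq_one_iff.1 (by
        rcases (Nat.dvd_prime Nat.prime_two).1 (orderOf_dvd_of_pow_eq_one hy2) with h | h
        · exact h
        · exact absurd (h ▸ hy.2) (by decide))
      rw [hy1, mul_one] at hey
      exact hcE (hey ▸ he)
  · rw [eq_top_iff, ← hQC]
    exact sup_le le_sup_left hCle

end Cfsg.Agent.Lib.Fgs9.Hamiltonian
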