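import Cfsg.Agent.Lib.Fgs9.Splitting
import Mathlib.GroupTheory.SemidirectProduct

/-!
# Splitting automorphisms of prime order and proper Hughes subgroups

Both reduce to `Splitting.isNilpotent`; Thompson's criterion is still a hypothesis here.
-/

namespace Cfsg.Agent.Lib.Fgs9.Kegel

open Subgroup Cfsg.Agent.Lib.Fgs9.Splitting

universe u

/-- Kegel: a splitting automorphism of prime order forces nilpotency. -/
theorem isNilpotent_of_splitting (hT : ThompsonCriterion.{u}) {G : Type u} [Group G] [Finite G] (α : MulAut G)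
    (hp : (orderOf α).Prime)
    (hsplit : ∀ x : G, (((List.range (orderOf α)).map (fun i : ℕ => (α ^ i) x)).prod = 1)) :
    Group.IsNilpotent G := by
  classical
  set p := orderOf α with hpdef
  let A : Subgroup (MulAut G) := zpowers α
  let Γ := SemidirectProduct G A A.subtype
  haveI : Finite (MulAut G) := Finite.of_injective (fun f : MulAut G => (f : G → G)) (fun f g h => MulEquiv.ext (congrFun h))
  haveI : Finite Γ := Finite.of_equiv (G × A) SemidirectProduct.equivProd.symm
  let a : A := ⟨α, mem_zpowers α⟩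
  let H : Subgroup Γ := (SemidirectProduct.inl : G →* Γ).range
  haveI : H.Normal := by
    show (SemidirectProduct.inl : G →* Γ).range.Normal
    rw [SemidirectProduct.range_inl_eq_ker_rightHom]; infer_instance
  have hmem : ∀ z : Γ, z ∈ H ↔ z.right = 1 := fun z => by
    show z ∈ (SemidirectProduct.inl : G →* Γ).range ↔ _
    rw [SemidirectProduct.range_inl_eq_ker_rightHom, MonoidHom.mem_ker]; rfl
  have hap : orderOf a = p := by rw [hpdef, ← Subgroup.orderOf_coe]
  have ha1 : a ≠ 1 := fun h => hp.ne_one (by rw [← hap, h, orderOf_one])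
  have hH : H ≠ ⊤ := by
    intro h
    exact ha1 ((hmem (SemidirectProduct.inr a)).1 (h ▸ mem_top _))
  let y : G → Γ := fun g => SemidirectProduct.inl g * SemidirectProduct.inr a
  have hmulL : ∀ u v : Γ, (u * v).left = u.left * (u.right : MulAut G) v.left := fun u v => rfl
  have hmulR : ∀ u v : Γ, (u * v).right = u.right * v.right := fun u v => rfl
  have hpow : ∀ g, ∀ n : ℕ, (y g) ^ n =
      SemidirectProduct.inl (((List.range n).map (fun i : ℕ => (α ^ i) g)).prod) * SemidirectProduct.inr (a ^ n) := by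
    intro g n
    induction n with
    | zero => simp
    | succ n ih =>
      rw [pow_succ, ih, List.range_succ, List.map_append, List.prod_append, List.map_singleton, List.prod_singleton]
      ext
      · simp [y, a, hmulL, hmulR]
      · simp [y, pow_succ, hmulR]
  have hyp : ∀ g, (y g) ^ p = 1 := fun g => by
    rw [hpow, hsplit, map_one, one_mul]
    have : a ^ p = 1 := hap ▸ pow_orderOf_eq_one a
    rw [this, map_one]
  have houts : ∀ z : Γ, z ∉ H → z ^ p = 1 := by
    intro z hz
    rw [hmem] at hz
    obtain ⟨k, hk⟩ : ∃ k : ℕ, a ^ k = z.right := by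
      obtain ⟨k, hk⟩ := mem_powers_iff_mem_zpowers.2 z.right.2
      exact ⟨k, Subtype.ext (by simpa [a] using hk)⟩
    have hkp : ¬ p ∣ k := fun h => hz (hk ▸ orderOf_dvd_iff_pow_eq_one.1 (hap.symm ▸ h))
    let f : G → G := fun g => ((y g) ^ k).left
    have hf : Function.Injective f := by
      intro g g' h
      have h1 : (y g) ^ k = (y g') ^ k := by
        ext1
        · exact h
        · simp [hpow, hmulR]
      have h2 := eq_of_pow_eq hp (hyp g) (hyp g') hkp h1
      have h3 := congrArg SemidirectProduct.left h2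
      simpa [y, hmulL] using h3
    obtain ⟨g, hg⟩ := (Finite.injective_iff_surjective.1 hf) z.left
    have : z = (y g) ^ k := by
      ext1
      · exact hg.symm
      · rw [hpow]; simp [hk, hmulR]
    rw [this, ← pow_mul, mul_comm, pow_mul, hyp, one_pow]
  haveI := Splitting.isNilpotent hT _ Γ H p hp rfl hH houts
  exact Group.nilpotent_of_mulEquiv
    (MonoidHom.ofInjective (f := (SemidirectProduct.inl : G →* Γ)) SemidirectProduct.inl_injective).symm

/-- Hughes–Thompson and Kegel: a proper Hughes subgroup of a group that is not a `p`-group. -/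
theorem hughes (hT : ThompsonCriterion.{u}) {G : Type u} [Group G] [Finite G] (p : ℕ) (hp : p.Prime)
    (hG : ¬ IsPGroup p G) (hH : closure {g : G | g ^ p ≠ 1} ≠ ⊤) :
    Group.IsNilpotent (closure {g : G | g ^ p ≠ 1}) ∧ (closure {g : G | g ^ p ≠ 1}).index = p := by
  set H := closure {g : G | g ^ p ≠ 1}
  have hpow : ∀ y : G, y ∉ H → y ^ p = 1 := fun y hy => by
    by_contra h
    exact hy (subset_closure h)
  haveI : H.Normal := by
    constructor
    intro n hn g
    have hle : H ≤ H.comap (MulAut.conj g).toMonoidHom := by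
      show Subgroup.closure _ ≤ _
      rw [closure_le]
      intro x (hx : x ^ p ≠ 1)
      show g * x * g⁻¹ ∈ H
      refine subset_closure ?_
      show (g * x * g⁻¹) ^ p ≠ 1
      rw [conj_pow]
      intro h
      apply hx
      calc x ^ p = g⁻¹ * (g * x ^ p * g⁻¹) * g := by group
        _ = 1 := by rw [h]; group
    exact hle hn
  obtain ⟨g, hg⟩ : ∃ g : G, ∀ k : ℕ, g ^ p ^ k ≠ 1 := by simpa [IsPGroup] using hG
  haveI := Fact.mk hp
  obtain ⟨e, m, hm, hem⟩ := Nat.exists_eq_pow_mul_and_not_dvd (orderOf_pos g).ne' p hp.ne_one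
  have hm1 : m ≠ 1 := fun h => hg e (by rw [h, mul_one] at hem; exact hem ▸ pow_orderOf_eq_one g)
  obtain ⟨q, hq, hqm⟩ := Nat.exists_prime_and_dvd hm1
  have hqp : q ≠ p := fun h => hm (h ▸ hqm)
  haveI := Fact.mk hq
  obtain ⟨x, hx⟩ := exists_prime_orderOf_dvd_card' (G := G) q
    ((hqm.trans ⟨p ^ e, by rw [hem]; ring⟩).trans (orderOf_dvd_natCard g))
  have hxH : x ∈ H := subset_closure fun h : x ^ p = 1 =>
    hqp ((Nat.prime_dvd_prime_iff_eq hq hp).1 (hx ▸ orderOf_dvd_of_pow_eq_one h))
  have hqH : q ∣ Nat.card H := hx ▸ H.orderOf_dvd_natCard hxH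
  exact ⟨Splitting.isNilpotent hT _ G H p hp rfl hH hpow, index_eq hH hp hpow hq hqp hqH⟩

end Cfsg.Agent.Lib.Fgs9.Kegel
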