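import Mathlib

/-!
# The Krull–Remak–Schmidt theorem for finite groups

Owner: helper73. Namespace `Cfsg.Agent.Lib.Fgs9.KrullSchmidt`.
-/

set_option autoImplicit false

namespace Cfsg.Agent.Lib.Fgs9.KrullSchmidt

universe u v

/-- The group has no proper decomposition as a product of two normal subgroups. -/
def Indec (X : Type*) [Group X] : Prop :=
  Nontrivial X ∧ ∀ H K : Subgroup X, H.Normal → K.Normal → H ⊓ K = ⊥ → H ⊔ K = ⊤ → H = ⊥ ∨ K = ⊥

/-- An endomorphism commuting with all inner automorphisms. -/
def IsNormalEnd {X : Type*} [Group X] (f : X →* X) : Prop :=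
  ∀ g x, f (g * x * g⁻¹) = g * f x * g⁻¹

theorem split {X : Type*} [Group X] (r : X →* X) (hr : ∀ x, r (r x) = r x) :
    r.range ⊓ r.ker = ⊥ ∧ r.range ⊔ r.ker = ⊤ := by
  constructor
  · rw [eq_bot_iff]
    rintro _ ⟨⟨x, rfl⟩, hx⟩
    exact Subgroup.mem_bot.2 (by rw [← hr x]; exact hx)
  · rw [eq_top_iff]
    intro x _
    have h1 : (r x)⁻¹ * x ∈ r.ker := by simp [MonoidHom.mem_ker, hr]
    simpa using Subgroup.mul_mem_sup (show r x ∈ r.range from ⟨x, rfl⟩) h1

/-- Fitting's lemma. -/
theorem fitting {X : Type*} [Group X] [Finite X] (hX : Indec X) (f : X →* X) (hf : IsNormalEnd f) :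
    Function.Injective f ∨ ∃ N, ∀ x, f^[N] x = 1 := by
  obtain ⟨a, b, hab, heq⟩ := Finite.exists_ne_map_eq_of_infinite (fun k : ℕ => (f : X → X)^[k])
  wlog hlt : a < b generalizing a b
  · exact this b a hab.symm heq.symm (by omega)
  -- an idempotent power
  set d := b - a with hd
  have hper : ∀ k ≥ a, ∀ t : ℕ, (f : X → X)^[k + t * d] = (f : X → X)^[k] := by
    intro k hk t
    induction t with
    | zero => simp
    | succ t ih =>
      rw [show k + (t + 1) * d = (k - a + t * d) + b by rw [Nat.succ_mul]; omega,
        Function.iterate_add, ← heq, ← Function.iterate_add,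
        show k - a + t * d + a = k + t * d by omega, ih]
  set N := (a + 1) * d with hN
  have hNa : a < N := Nat.lt_of_lt_of_le (Nat.lt_succ_self a) (Nat.le_mul_of_pos_right _ (by omega))
  let g : ℕ → X →* X := fun k => Nat.recOn k (MonoidHom.id X) (fun _ h => f.comp h)
  have hg : ∀ k x, g k x = (f : X → X)^[k] x := by
    intro k
    induction k with
    | zero => intro x; rfl
    | succ k ih => intro x; rw [Function.iterate_succ_apply', ← ih]; rfl
  have hidem : ∀ x, g N (g N x) = g N x := fun x => by
    rw [hg, hg, ← Function.iterate_add_apply]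
    exact congrFun (hper N hNa.le (a + 1)) x
  have hnorm : (g N).range.Normal := ⟨by
    rintro _ ⟨x, rfl⟩ y
    refine ⟨y * x * y⁻¹, ?_⟩
    rw [hg, hg]
    generalize N = k
    induction k with
    | zero => rfl
    | succ k ih => rw [Function.iterate_succ_apply', ih, hf, Function.iterate_succ_apply']⟩
  obtain ⟨h1, h2⟩ := split (g N) hidem
  rcases hX.2 _ _ hnorm (MonoidHom.normal_ker _) h1 h2 with h | h
  · refine Or.inr ⟨N, fun x => ?_⟩
    rw [← hg, ← Subgroup.mem_bot, ← h]
    exact ⟨x, rfl⟩
  · refine Or.inl ?_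
    rw [← MonoidHom.ker_eq_bot_iff, eq_bot_iff, ← h]
    intro x hx
    rw [MonoidHom.mem_ker] at hx ⊢
    rw [hg, show N = N - 1 + 1 by omega, Function.iterate_succ_apply, hx]
    exact iterate_map_one f _

theorem aux : ∀ {m n : ℕ} {A : Fin m → Type u} {B : Fin n → Type v} [∀ i, Group (A i)]
    [∀ j, Group (B j)] [∀ i, Finite (A i)] [∀ j, Finite (B j)], (∀ i, Indec (A i)) →
    (∀ j, Indec (B j)) → (((i : Fin m) → A i) ≃* ((j : Fin n) → B j)) →
    ∃ σ : Fin m ≃ Fin n, ∀ i, Nonempty (A i ≃* B (σ i)) := by
  intro m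
  induction m with
  | zero =>
    intro n A B _ _ _ _ _ hB e
    cases n with
    | zero => exact ⟨Equiv.refl _, fun i => i.elim0⟩
    | succ n =>
      exfalso
      haveI := (hB 0).1
      obtain ⟨y, hy⟩ := exists_ne (1 : B 0)
      have h1 : e.symm (Pi.mulSingle 0 y) = 1 := funext fun i => i.elim0
      rw [EmbeddingLike.map_eq_one_iff, Pi.mulSingle_eq_one_iff] at h1
      exact hy h1
  | succ m ih =>
    intro n A B _ _ _ _ hA hB e
    classical
    haveI := (hA 0).1
    -- partial sums of the projections
    let R : Finset (Fin n) → ((k : Fin n) → B k) →* ((k : Fin n) → B k) := fun s =>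
      { toFun := fun w k => if k ∈ s then w k else 1
        map_one' := by funext k; simp
        map_mul' := fun w w' => by funext k; by_cases hk : k ∈ s <;> simp [hk] }
    have hRmem : ∀ s w k, k ∈ s → R s w k = w k := fun s w k hk => if_pos hk
    have hRnot : ∀ s w k, k ∉ s → R s w k = 1 := fun s w k hk => if_neg hk
    let ι : A 0 →* (i : Fin (m + 1)) → A i := MonoidHom.mulSingle A 0
    let π : ((i : Fin (m + 1)) → A i) →* A 0 := Pi.evalMonoidHom A 0
    let F : Finset (Fin n) → A 0 →* A 0 := fun s =>
      (π.comp (e.symm.toMonoidHom.comp ((R s).comp (e.toMonoidHom.comp ι))))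
    have hFa : ∀ s a, F s a = e.symm (R s (e (ι a))) 0 := fun s a => rfl
    have hconjA : ∀ (g a : A 0), ι (g * a * g⁻¹) = ι g * ι a * (ι g)⁻¹ := fun g a => by
      rw [map_mul, map_mul, map_inv]
    have hnorm : ∀ s, IsNormalEnd (F s) := by
      intro s g a
      have h1 : R s (e (ι g) * e (ι a) * (e (ι g))⁻¹) = e (ι g) * R s (e (ι a)) * (e (ι g))⁻¹ := by
        funext k
        by_cases hk : k ∈ s
        · simp [hRmem _ _ _ hk]
        · simp [hRnot _ _ _ hk]
      rw [hFa, hFa, hconjA, map_mul e, map_mul e, map_inv e, h1]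
      simp [ι]
    have huniv : ∀ a, F Finset.univ a = a := by
      intro a
      have h1 : R Finset.univ (e (ι a)) = e (ι a) := funext fun k => hRmem _ _ _ (Finset.mem_univ k)
      rw [hFa, h1, e.symm_apply_apply]
      exact Pi.mulSingle_eq_same (M := A) 0 a
    have hins : ∀ j s, j ∉ s → ∀ a, F (insert j s) a = F {j} a * F s a := by
      intro j s hj a
      rw [hFa, hFa, hFa, ← Pi.mul_apply, ← map_mul]
      refine congrFun (congrArg e.symm (funext fun k => ?_)) 0
      rw [Pi.mul_apply]
      by_cases hk : k = j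
      · subst hk
        rw [hRmem _ _ _ (Finset.mem_insert_self _ _), hRmem _ _ _ (Finset.mem_singleton_self _),
          hRnot _ _ _ hj, mul_one]
      · rw [hRnot {j} _ _ (by simpa using hk), one_mul]
        by_cases hks : k ∈ s
        · rw [hRmem _ _ _ (Finset.mem_insert_of_mem hks), hRmem _ _ _ hks]
        · rw [hRnot _ _ _ (by simp [hk, hks]), hRnot _ _ _ hks]
    have hex : ∀ s, Function.Injective (F s) → ∃ j, Function.Injective (F {j}) := by
      intro s
      induction s using Finset.induction_on with
      | empty =>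
        intro hinj
        obtain ⟨x, hx⟩ := exists_ne (1 : A 0)
        refine absurd (hinj ?_) hx
        have h1 : R ∅ (e (ι x)) = 1 := funext fun k => hRnot _ _ _ (Finset.notMem_empty k)
        rw [map_one, hFa, h1, map_one, Pi.one_apply]
      | @insert j s hj ihs =>
        intro hinj
        by_cases hjinj : Function.Injective (F {j})
        · exact ⟨j, hjinj⟩
        refine ihs ?_
        let u : A 0 ≃* A 0 := MulEquiv.ofBijective (F (insert j s)) (Finite.injective_iff_bijective.1 hinj)
        have hu : ∀ x, u x = F (insert j s) x := fun x => rfl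
        let h : A 0 →* A 0 := u.symm.toMonoidHom.comp (F {j})
        have hh : IsNormalEnd h := by
          intro g x
          show u.symm (F {j} (g * x * g⁻¹)) = g * u.symm (F {j} x) * g⁻¹
          rw [u.symm_apply_eq, hu, hnorm, hnorm, ← hu, u.apply_symm_apply]
        obtain ⟨N, hN⟩ := (fitting (hA 0) h hh).resolve_left fun hi => hjinj fun x y hxy => hi (congrArg u.symm hxy)
        rw [← MonoidHom.ker_eq_bot_iff, eq_bot_iff]
        intro x hx
        rw [MonoidHom.mem_ker] at hx
        have hfix : h x = x := by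
          show u.symm (F {j} x) = x
          rw [u.symm_apply_eq, hu, hins j s hj, hx, mul_one]
        rw [Subgroup.mem_bot, ← hN x]
        exact (Function.iterate_fixed hfix N).symm
    obtain ⟨j, hj⟩ := hex Finset.univ (by rw [Function.Injective]; intro a b; rw [huniv, huniv]; exact id)
    -- the two maps between `A 0` and `B j`
    let α : A 0 →* B j := (Pi.evalMonoidHom B j).comp (e.toMonoidHom.comp ι)
    let β : B j →* A 0 := π.comp (e.symm.toMonoidHom.comp (MonoidHom.mulSingle B j))
    have hαa : ∀ a, α a = e (ι a) j := fun a => rfl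
    have hβy : ∀ y, β y = e.symm (Pi.mulSingle j y) 0 := fun y => rfl
    have hβα : ∀ a, β (α a) = F {j} a := by
      intro a
      rw [hβy, hFa, hαa]
      refine congrFun (congrArg e.symm (funext fun k => ?_)) 0
      by_cases hk : k = j
      · subst hk; rw [Pi.mulSingle_eq_same, hRmem _ _ _ (Finset.mem_singleton_self _)]
      · rw [Pi.mulSingle_eq_of_ne hk, hRnot _ _ _ (by simpa using hk)]
    have hβsurj : Function.Surjective β := fun a => by
      obtain ⟨a', ha'⟩ := (Finite.injective_iff_surjective.1 hj) a
      exact ⟨α a', by rw [hβα, ha']⟩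
    have hαn : α.range.Normal := ⟨by
      rintro _ ⟨a, rfl⟩ y
      refine ⟨e.symm (Pi.mulSingle j y) 0 * a * (e.symm (Pi.mulSingle j y) 0)⁻¹, ?_⟩
      have h1 : ι (e.symm (Pi.mulSingle j y) 0 * a * (e.symm (Pi.mulSingle j y) 0)⁻¹) =
          e.symm (Pi.mulSingle j y) * ι a * (e.symm (Pi.mulSingle j y))⁻¹ := by
        funext i
        by_cases hi : i = 0
        · subst hi; simp [ι]
        · simp [ι, Pi.mulSingle_eq_of_ne hi]
      rw [hαa, h1, map_mul, map_mul, map_inv, e.apply_symm_apply]
      simp [hαa]⟩
    have hker : β.ker = ⊥ := by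
      refine ((hB j).2 _ _ hαn inferInstance ?_ ?_).resolve_left ?_
      · rw [eq_bot_iff]
        rintro _ ⟨⟨a, rfl⟩, ha⟩
        have : a = 1 := hj (by rw [← hβα, map_one]; exact ha)
        simp [this]
      · rw [eq_top_iff]
        intro y _
        obtain ⟨a, ha⟩ := (Finite.injective_iff_surjective.1 hj) (β y)
        have h1 : (α a)⁻¹ * y ∈ β.ker := by
          simp [MonoidHom.mem_ker, hβα, ha]
        simpa using Subgroup.mul_mem_sup (show α a ∈ α.range from ⟨a, rfl⟩) h1
      · intro hbot
        obtain ⟨x, hx⟩ := exists_ne (1 : A 0)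
        refine hx (hj ?_)
        have : α x = 1 := Subgroup.mem_bot.1 (hbot ▸ ⟨x, rfl⟩)
        rw [map_one, ← hβα, this, map_one]
    have hβinj : Function.Injective β := (MonoidHom.ker_eq_bot_iff β).1 hker
    have e₀ : A 0 ≃* B j := (MulEquiv.ofBijective β ⟨hβinj, hβsurj⟩).symm
    -- the remaining factors
    obtain ⟨n, rfl⟩ : ∃ k, n = k + 1 := ⟨n - 1, by have := j.2; omega⟩
    let ψ : ((i : Fin m) → A i.succ) →* ((k : Fin n) → B (j.succAbove k)) :=
      { toFun := fun a k => e (Fin.cons 1 a) (j.succAbove k)
        map_one' := by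
          funext k
          have : (Fin.cons 1 1 : (i : Fin (m + 1)) → A i) = 1 := by
            funext i; refine Fin.cases ?_ ?_ i <;> simp
          simp [this]
        map_mul' := fun a b => by
          funext k
          have : (Fin.cons 1 (a * b) : (i : Fin (m + 1)) → A i) = Fin.cons 1 a * Fin.cons 1 b := by
            funext i; refine Fin.cases ?_ ?_ i <;> simp
          simp [this] }
    have hψ : Function.Bijective ψ := by
      constructor
      · rw [← MonoidHom.ker_eq_bot_iff, eq_bot_iff]
        intro a ha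
        rw [MonoidHom.mem_ker] at ha
        set x : (i : Fin (m + 1)) → A i := Fin.cons 1 a with hx
        have hex : e x = Pi.mulSingle j (e x j) := by
          funext k
          rcases Fin.eq_self_or_eq_succAbove j k with rfl | ⟨k', rfl⟩
          · simp
          · rw [Pi.mulSingle_eq_of_ne (Fin.succAbove_ne _ _)]
            exact congrFun ha k'
        have h1 : β (e x j) = 1 := by
          rw [hβy, ← hex, e.symm_apply_apply, hx]
          simp
        rw [hβinj (h1.trans (map_one β).symm), Pi.mulSingle_one, EmbeddingLike.map_eq_one_iff] at hex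
        refine Subgroup.mem_bot.2 (funext fun i => ?_)
        simpa [hx] using congrFun hex i.succ
      · intro z
        obtain ⟨y, hy⟩ := hβsurj (e.symm (Fin.insertNth j 1 z) 0)⁻¹
        refine ⟨fun i => e.symm (Fin.insertNth j y z) i.succ, funext fun k => ?_⟩
        show e (Fin.cons 1 _) (j.succAbove k) = z k
        have h2 : Fin.insertNth j y z = Pi.mulSingle j y * Fin.insertNth j 1 z := by
          funext i
          rcases Fin.eq_self_or_eq_succAbove j i with rfl | ⟨k', rfl⟩
          · simp
          · simp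
        have h3 : (Fin.cons 1 (fun i : Fin m => e.symm (Fin.insertNth j y z) i.succ) : (i : Fin (m + 1)) → A i) =
            e.symm (Fin.insertNth j y z) := by
          funext i
          refine Fin.cases ?_ ?_ i
          · rw [Fin.cons_zero, h2, map_mul, Pi.mul_apply, ← hβy, hy, inv_mul_cancel]
          · intro i; rw [Fin.cons_succ]
        rw [h3, e.apply_symm_apply, Fin.insertNth_apply_succAbove]
    obtain ⟨σ, hσ⟩ := ih (fun i => hA i.succ) (fun k => hB (j.succAbove k)) (MulEquiv.ofBijective ψ hψ)
    refine ⟨(finSuccEquiv m).trans ((Equiv.optionCongr σ).trans (finSuccEquiv' j).symm), fun i => ?_⟩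
    refine Fin.cases ?_ ?_ i
    · rw [Equiv.trans_apply, Equiv.trans_apply, finSuccEquiv_zero, Equiv.optionCongr_apply,
        Option.map_none, finSuccEquiv'_symm_none]
      exact ⟨e₀⟩
    · intro i
      rw [Equiv.trans_apply, Equiv.trans_apply, finSuccEquiv_succ, Equiv.optionCongr_apply,
        Option.map_some, finSuccEquiv'_symm_some]
      exact hσ i

end Cfsg.Agent.Lib.Fgs9.KrullSchmidt
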