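import Cfsg.Agent.Lib.Fg6.FrobeniusTheorem

/-!
# Frobenius' theorem on the fibres of the power maps

Owner: helper73. Namespace `Cfsg.Agent.Lib.Fgs9.PowerFiber`.
-/

set_option autoImplicit false

namespace Cfsg.Agent.Lib.Fgs9.PowerFiber

open scoped Classical
open Cfsg.Agent.Lib.Fg6

variable {G : Type*} [Group G] [Finite G]

/-- A prime of the order of `c` contributes its full power in `n`. -/
theorem pow_dvd_card_of_dvd_orderOf (c : G) (n : ℕ) {p a : ℕ} (hp : p.Prime) (hpa : p ^ a ∣ n)
    (hpc : p ∣ orderOf c) : p ^ a ∣ Nat.card {x : G // x ^ n = c} := by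
  have := Fintype.ofFinite G
  set T : G → Finset G := fun x => Finset.univ.filter fun t => t ∈ Subgroup.zpowers x ∧ t ^ p ^ a = 1
  have hT : ∀ x, x ^ n = c → (T x).card = p ^ a := by
    intro x hx
    have hN : ∀ k ≤ a, p ^ (k + 1) ∣ orderOf x := by
      have hm : orderOf c * Nat.gcd (orderOf x) n = orderOf x := by
        rw [← hx, orderOf_pow, Nat.div_mul_cancel (Nat.gcd_dvd_left _ _)]
      intro k
      induction k with
      | zero =>
        intro _
        rw [zero_add, pow_one, ← hm]
        exact dvd_mul_of_dvd_left hpc _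
      | succ k ih =>
        intro hk
        rw [← hm, pow_succ']
        exact mul_dvd_mul hpc (Nat.dvd_gcd (ih (by omega)) ((pow_dvd_pow p hk).trans hpa))
    have hd : p ^ a ∣ orderOf x := (pow_dvd_pow p a.le_succ).trans (hN a le_rfl)
    obtain ⟨z, hz, hzo⟩ : ∃ z ∈ Subgroup.zpowers x, orderOf z = p ^ a := by
      refine ⟨x ^ (orderOf x / p ^ a), Subgroup.pow_mem _ (Subgroup.mem_zpowers x) _, ?_⟩
      rw [orderOf_pow, Nat.gcd_eq_right (Nat.div_dvd_of_dvd hd),
        Nat.div_div_self hd (orderOf_pos x).ne']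
    have h1 : T x = Finset.univ.filter (fun t => t ∈ Subgroup.zpowers z) := by
      refine (Finset.eq_of_subset_of_card_le ?_ ?_).symm
      · intro t ht
        simp only [T, Finset.mem_filter, Finset.mem_univ, true_and] at ht ⊢
        exact ⟨Subgroup.zpowers_le.2 hz ht, orderOf_dvd_iff_pow_eq_one.1
          (hzo ▸ orderOf_dvd_of_mem_zpowers ht)⟩
      · have h2 : (Finset.univ.filter fun t => t ∈ Subgroup.zpowers z).card = p ^ a := by
          rw [← Fintype.card_subtype, ← Nat.card_eq_fintype_card, ← hzo]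
          exact Nat.card_zpowers z
        rw [h2]
        have h3 := IsCyclic.card_pow_eq_one_le (α := Subgroup.zpowers x) (n := p ^ a) (pow_pos hp.pos a)
        refine le_trans ?_ h3
        refine Finset.card_le_card_of_injOn
          (fun t => if ht : t ∈ Subgroup.zpowers x then (⟨t, ht⟩ : Subgroup.zpowers x) else 1) ?_ ?_
        · intro t ht
          simp only [T, Finset.coe_filter, Finset.mem_univ, true_and, Set.mem_ofPred_eq] at ht ⊢
          rw [dif_pos ht.1]
          exact Subtype.ext ht.2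
        · intro s hs t ht h
          simp only [T, Finset.coe_filter, Finset.mem_univ, true_and, Set.mem_ofPred_eq] at hs ht
          simp only [dif_pos hs.1, dif_pos ht.1] at h
          exact congrArg Subtype.val h
    rw [h1, ← Fintype.card_subtype, ← Nat.card_eq_fintype_card, ← hzo]
    exact Nat.card_zpowers z
  set S := Finset.univ.filter fun x : G => x ^ n = c with hS
  have hcoset : ∀ x, x ^ n = c → ∀ t ∈ T x, (x * t) ^ n = c ∧ T (x * t) = T x := by
    intro x hx t ht
    obtain ⟨-, htm, htp⟩ := Finset.mem_filter.1 ht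
    have htn : t ^ n = 1 := orderOf_dvd_iff_pow_eq_one.1 ((orderOf_dvd_of_pow_eq_one htp).trans hpa)
    have hcomm : Commute x t := by
      obtain ⟨i, rfl⟩ := Subgroup.mem_zpowers_iff.1 htm
      exact (Commute.refl x).zpow_right i
    have h1 : (x * t) ^ n = c := by rw [hcomm.mul_pow, hx, htn, mul_one]
    refine ⟨h1, Finset.eq_of_subset_of_card_le ?_ (by rw [hT x hx, hT _ h1])⟩
    intro s hs
    simp only [T, Finset.mem_filter, Finset.mem_univ, true_and] at hs ⊢
    exact ⟨Subgroup.zpowers_le.2 (mul_mem (Subgroup.mem_zpowers x) htm) hs.1, hs.2⟩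
  have hone : ∀ x, (1 : G) ∈ T x := fun x => by simp [T]
  rw [Nat.card_eq_fintype_card, Fintype.card_subtype,
    Finset.card_eq_sum_card_image (fun x => (T x).image (fun t => x * t)) S]
  refine Finset.dvd_sum fun Z hZ => ?_
  obtain ⟨x, hx, rfl⟩ := Finset.mem_image.1 hZ
  have hxc : x ^ n = c := (Finset.mem_filter.1 hx).2
  have h1 : (S.filter fun y => (T y).image (fun t => y * t) = (T x).image (fun t => x * t)) =
      (T x).image (fun t => x * t) := by
    ext y
    simp only [Finset.mem_filter]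
    constructor
    · rintro ⟨-, h⟩
      rw [← h]
      exact Finset.mem_image.2 ⟨1, hone y, mul_one y⟩
    · intro hy
      obtain ⟨t, ht, rfl⟩ := Finset.mem_image.1 hy
      obtain ⟨hn', hT'⟩ := hcoset x hxc t ht
      refine ⟨Finset.mem_filter.2 ⟨Finset.mem_univ _, hn'⟩, ?_⟩
      refine Finset.eq_of_subset_of_card_le ?_ ?_
      · intro z hz
        obtain ⟨s, hs, rfl⟩ := Finset.mem_image.1 hz
        rw [hT'] at hs
        refine Finset.mem_image.2 ⟨t * s, ?_, (mul_assoc _ _ _).symm⟩
        simp only [T, Finset.mem_filter, Finset.mem_univ, true_and] at ht hs ⊢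
        refine ⟨mul_mem ht.1 hs.1, ?_⟩
        have hc : Commute t s := by
          obtain ⟨i, rfl⟩ := Subgroup.mem_zpowers_iff.1 ht.1
          obtain ⟨j, rfl⟩ := Subgroup.mem_zpowers_iff.1 hs.1
          exact (Commute.refl x).zpow_zpow i j
        rw [hc.mul_pow, ht.2, hs.2, one_mul]
      · rw [Finset.card_image_of_injective _ (mul_right_injective _),
          Finset.card_image_of_injective _ (mul_right_injective _), hT']
  rw [h1, Finset.card_image_of_injective _ (mul_right_injective _), hT x hxc]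

/-- The primes prime to the order of the central element `c`. -/
theorem gcd_dvd_card_of_central (c : G) (hc : ∀ x, Commute c x) (n : ℕ) :
    Nat.gcd n (Nat.card G) ∣ Nat.card {x : G // x ^ n = c} := by
  set d := Nat.card G with hd
  have hd0 : d ≠ 0 := Nat.card_pos.ne'
  set m := orderOf c
  set N := Nat.gcd d (m ^ d) with hN
  set K' := d / N with hK'
  have hNK : N * K' = d := Nat.mul_div_cancel' (Nat.gcd_dvd_left _ _)
  have hmN : m ∣ N := Nat.dvd_gcd (orderOf_dvd_natCard c) (dvd_pow_self m hd0)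
  have hcm : Nat.Coprime m K' := by
    rw [Nat.coprime_iff_gcd_eq_one]
    by_contra hg
    obtain ⟨q, hq, hqd⟩ := Nat.exists_prime_and_dvd hg
    obtain ⟨hqm, hqK⟩ := Nat.dvd_gcd_iff.1 hqd
    have hv : q ^ (d.factorization q) ∣ N := by
      refine Nat.dvd_gcd (Nat.ordProj_dvd d q) ?_
      exact (pow_dvd_pow q (Nat.factorization_lt q hd0).le).trans (pow_dvd_pow_of_dvd hqm d)
    have h2 : q ^ (d.factorization q + 1) ∣ d := by
      rw [pow_succ]; exact (mul_dvd_mul hv hqK).trans (dvd_of_eq hNK)
    have := (hq.pow_dvd_iff_le_factorization hd0).1 h2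
    omega
  set K := Nat.gcd n K' with hK
  have hcop : Nat.Coprime N K :=
    ((hcm.pow_left d).coprime_dvd_left (Nat.gcd_dvd_right _ _)).coprime_dvd_right (Nat.gcd_dvd_right _ _)
  obtain ⟨e, he1, he0⟩ := Nat.chineseRemainder hcop 1 0
  have hce : c ^ e = c := by
    conv_rhs => rw [← pow_one c]
    exact pow_eq_pow_iff_modEq.2 (he1.of_dvd hmN)
  have hmk : K ∣ Nat.card {x : G // x ^ n = c} := by
    have h1 : Nat.card {x : G // x ^ n = c} =
        Nat.card {g : G // g ^ (N * K) = 1 ∧ ((g ^ e) ^ N = 1 ∧ (g ^ e) ^ n = c)} := by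
      refine Nat.card_congr (Equiv.subtypeEquivRight fun g => ⟨fun h => ?_, fun h => ?_⟩)
      · have ho : orderOf g ∣ m * n := orderOf_dvd_of_pow_eq_one (by
          rw [mul_comm, pow_mul, h]; exact pow_orderOf_eq_one c)
        have ho' : orderOf g ∣ N * K' := by rw [hNK]; exact orderOf_dvd_natCard g
        have hoNK : orderOf g ∣ N * K := by
          rw [hK, ← Nat.gcd_mul_left]
          exact Nat.dvd_gcd (ho.trans (mul_dvd_mul_right hmN n)) ho'
        refine ⟨orderOf_dvd_iff_pow_eq_one.1 hoNK, ?_, by rw [← pow_mul, mul_comm, pow_mul, h, hce]⟩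
        rw [← pow_mul, ← orderOf_dvd_iff_pow_eq_one]
        refine hoNK.trans ?_
        rw [mul_comm e N]
        exact mul_dvd_mul_left N (Nat.modEq_zero_iff_dvd.1 he0)
      · obtain ⟨hg, -, hge⟩ := h
        rw [← hge, ← pow_mul]
        refine pow_eq_pow_iff_modEq.2 (Nat.ModEq.of_dvd (orderOf_dvd_of_pow_eq_one hg) ?_)
        obtain ⟨r, hr⟩ : K ∣ n := Nat.gcd_dvd_left _ _
        rw [hr, show e * (K * r) = e * K * r by ring]
        refine Nat.ModEq.mul_right r ?_
        have := (he1.mul_right' K).symm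
        simpa using this
    rw [h1]
    refine FrobeniusTheorem.dvd_card_of_centralizers he1 he0
      (fun u => u ^ N = 1 ∧ u ^ n = c) ?_ (fun u hu => hu.1)
      ((Nat.gcd_dvd_right _ _).trans (Dvd.intro_left N hNK)) fun u _ => ?_
    · rintro g u ⟨h2, h3⟩
      rw [conj_pow, conj_pow, h2, h3]
      exact ⟨by simp, by rw [← (hc g).eq, mul_inv_cancel_right]⟩
    · rw [FrobeniusTheorem.card_commute_eq, ← FrobeniusTheorem.card_pow_eq_one_gcd]
      exact FrobeniusTheorem.dvd_card_pow_eq_one (Nat.gcd_dvd_right _ _)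
  rw [Nat.dvd_iff_prime_pow_dvd_dvd]
  intro p k hp hpk
  obtain ⟨hpn, hpd⟩ := Nat.dvd_gcd_iff.1 hpk
  by_cases hpm : p ∣ m
  · exact pow_dvd_card_of_dvd_orderOf c n hp hpn hpm
  · refine dvd_trans ?_ hmk
    refine Nat.dvd_gcd hpn ?_
    have h2 : Nat.Coprime (p ^ k) N := (Nat.Coprime.pow k d (hp.coprime_iff_not_dvd.2 hpm)).coprime_dvd_right
      (Nat.gcd_dvd_right _ _)
    exact h2.dvd_of_dvd_mul_left (hpd.trans (dvd_of_eq hNK.symm))

/-- The elements whose `n`-th power lies in the class of `c`. -/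
theorem gcd_dvd_card_isConj (c : G) (n : ℕ) :
    Nat.gcd (Nat.card {y : G // IsConj c y} * n) (Nat.card G) ∣ Nat.card {x : G // IsConj c (x ^ n)} := by
  have := Fintype.ofFinite G
  set C := Subgroup.centralizer ({c} : Set G) with hC
  have hfib : ∀ y : {y : G // IsConj c y}, Nat.card {x : G // x ^ n = y.1} = Nat.card {x : G // x ^ n = c} := by
    rintro ⟨y, hy⟩
    obtain ⟨g, rfl⟩ := isConj_iff.1 hy
    refine (Nat.card_congr ((MulAut.conj g).toEquiv.subtypeEquiv fun x => ?_)).symm
    show x ^ n = c ↔ (g * x * g⁻¹) ^ n = g * c * g⁻¹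
    rw [conj_pow, mul_left_inj, mul_right_inj]
  have h1 : Nat.card {x : G // IsConj c (x ^ n)} =
      Nat.card {y : G // IsConj c y} * Nat.card {x : G // x ^ n = c} := by
    rw [← Nat.card_congr (Equiv.sigmaSubtypeFiberEquivSubtype (fun x : G => x ^ n)
      (p := fun x => IsConj c (x ^ n)) (q := fun y => IsConj c y) (fun _ => Iff.rfl)), Nat.card_sigma,
      Finset.sum_congr rfl (fun y _ => hfib y), Finset.sum_const, Finset.card_univ, smul_eq_mul,
      ← Nat.card_eq_fintype_card]
  have h2 : Nat.card {y : G // IsConj c y} = C.index := by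
    have e : Nat.card {y : G // IsConj c y} = (MulAction.orbit (ConjAct G) c).ncard := by
      rw [← Nat.card_coe_set_eq]
      exact Nat.card_congr (Equiv.subtypeEquivRight fun y =>
        (isConj_comm.trans (ConjAct.mem_orbit_conjAct).symm))
    rw [e, ← MulAction.index_stabilizer, hC, Subgroup.centralizer_eq_comap_stabilizer]
    exact (Subgroup.index_comap_of_surjective _ (ConjAct.toConjAct (G := G)).surjective).symm
  have h3 : Nat.card {x : G // x ^ n = c} = Nat.card {x : C // x ^ n = ⟨c, Subgroup.mem_centralizer_singleton_iff.2 rfl⟩} := by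
    refine Nat.card_congr
      { toFun := fun x => ⟨⟨x.1, Subgroup.mem_centralizer_singleton_iff.2 (by
          obtain ⟨x, rfl⟩ := x
          rw [← pow_succ, ← pow_succ'])⟩, Subtype.ext x.2⟩
        invFun := fun x => ⟨x.1.1, congrArg Subtype.val x.2⟩
        left_inv := fun _ => rfl
        right_inv := fun _ => rfl }
  rw [h1, h2, ← Subgroup.index_mul_card C, Nat.gcd_mul_left, h3]
  exact mul_dvd_mul_left _ (gcd_dvd_card_of_central _
    (fun x => Subtype.ext (Subgroup.mem_centralizer_singleton_iff.1 x.2).symm) n)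

end Cfsg.Agent.Lib.Fgs9.PowerFiber
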