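import Cfsg.Agent.Lib.Fg6.FrobeniusTheorem
import Mathlib.GroupTheory.Solvable
import Mathlib.GroupTheory.SchurZassenhaus

/-!
# Frobenius' conjecture for solvable groups

Owner: helper73. Namespace `Cfsg.Agent.Lib.Fgs9.PowerSubgroup`.
-/

set_option autoImplicit false

namespace Cfsg.Agent.Lib.Fgs9.PowerSubgroup

open Cfsg.Agent.Lib.Fg6

universe u

theorem exists_normal_exponent_prime (G : Type u) [Group G] [Finite G] [Group.IsSolvable G]
    [Nontrivial G] : ∃ (p : ℕ) (K : Subgroup G), p.Prime ∧ K.Normal ∧ K ≠ ⊥ ∧ ∀ x ∈ K, x ^ p = 1 := by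
  classical
  obtain ⟨A, hAn, hA1, hAc⟩ : ∃ A : Subgroup G, A.Normal ∧ A ≠ ⊥ ∧ ∀ a ∈ A, ∀ b ∈ A, a * b = b * a := by
    obtain ⟨n, hn⟩ := (Group.isSolvable_def G).1 inferInstance
    induction n with
    | zero => exact absurd hn (by rw [derivedSeries_zero]; exact top_ne_bot)
    | succ n ih =>
      by_cases h : derivedSeries G n = ⊥
      · exact ih h
      · refine ⟨_, derivedSeries_normal G n, h, fun a ha b hb => ?_⟩
        have h1 := Subgroup.commutator_mem_commutator ha hb
        rw [← derivedSeries_succ, hn, Subgroup.mem_bot] at h1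
        exact commutatorElement_eq_one_iff_mul_comm.1 h1
  have hA2 : Nat.card A ≠ 1 := fun h => hA1 (Subgroup.card_eq_one.1 h)
  obtain ⟨p, hp, hpA⟩ := Nat.exists_prime_and_dvd hA2
  haveI := Fact.mk hp
  let K : Subgroup G :=
    { carrier := {x | x ∈ A ∧ x ^ p = 1}
      one_mem' := ⟨one_mem _, one_pow _⟩
      mul_mem' := fun {a b} ha hb => ⟨mul_mem ha.1 hb.1, by
        rw [Commute.mul_pow (hAc a ha.1 b hb.1), ha.2, hb.2, one_mul]⟩
      inv_mem' := fun {a} ha => ⟨inv_mem ha.1, by rw [inv_pow, ha.2, inv_one]⟩ }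
  refine ⟨p, K, hp, ⟨fun x hx g => ⟨hAn.conj_mem x hx.1 g, by rw [conj_pow, hx.2]; simp⟩⟩, ?_,
    fun x hx => hx.2⟩
  obtain ⟨a, ha⟩ := exists_prime_orderOf_dvd_card' p hpA
  intro h
  have h1 : (a : G) ∈ K := ⟨a.2, by rw [← ha, ← Subgroup.orderOf_coe]; exact pow_orderOf_eq_one _⟩
  rw [h, Subgroup.mem_bot] at h1
  rw [← Subgroup.orderOf_coe, h1, orderOf_one] at ha
  exact hp.ne_one ha.symm

theorem main : ∀ (c : ℕ) (G : Type u) [Group G] [Finite G] [Group.IsSolvable G], Nat.card G = c →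
    ∀ n, n ∣ Nat.card G → Nat.card {x : G // x ^ n = 1} = n →
      ∃ H : Subgroup G, H.Normal ∧ (H : Set G) = {x : G | x ^ n = 1} := by
  intro c
  induction c using Nat.strong_induction_on with
  | _ c ih =>
  intro G _ _ _ hc n hn hcount
  classical
  have hfin := Fintype.ofFinite G
  have hnormal : ∀ H : Subgroup G, (H : Set G) = {x : G | x ^ n = 1} → H.Normal := by
    intro H hH
    refine ⟨fun x hx g => ?_⟩
    have hx' : x ^ n = 1 := (Set.ext_iff.1 hH x).1 hx
    refine (Set.ext_iff.1 hH _).2 ?_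
    show (g * x * g⁻¹) ^ n = 1
    rw [conj_pow, hx']
    simp
  have hset : ∀ H : Subgroup G, Nat.card H = n → (∀ x ∈ H, x ^ n = 1) →
      (H : Set G) = {x : G | x ^ n = 1} := by
    intro H h1 h2
    refine Set.eq_of_subset_of_ncard_le h2 ?_ (Set.toFinite _)
    show ({x : G | x ^ n = 1}).ncard ≤ (H : Set G).ncard
    rw [← Nat.card_coe_set_eq, ← Nat.card_coe_set_eq]
    exact hcount.le.trans h1.ge
  rcases subsingleton_or_nontrivial G with hG | hG
  · refine ⟨⊤, inferInstance, ?_⟩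
    ext x
    simp [Subsingleton.elim x 1]
  obtain ⟨p, K, hp, hKn, hK1, hKp⟩ := exists_normal_exponent_prime G
  haveI := hKn
  haveI := Fact.mk hp
  obtain ⟨i, hi⟩ : ∃ i, Nat.card K = p ^ i :=
    IsPGroup.iff_card.1 (fun x => ⟨1, Subtype.ext (by rw [pow_one]; exact hKp x x.2)⟩)
  have hKlt : 1 < Nat.card K := by
    have := Nat.card_pos (α := K)
    have : Nat.card K ≠ 1 := fun h => hK1 (Subgroup.card_eq_one.1 h)
    omega
  have hidx := Subgroup.card_eq_card_quotient_mul_card_subgroup K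
  have hlt : Nat.card (G ⧸ K) < c := by
    rw [← hc, hidx]
    exact lt_mul_of_one_lt_right Nat.card_pos hKlt
  set π := QuotientGroup.mk' K with hπ
  set g := Nat.gcd n (Nat.card K) with hg
  set l := n / g with hl
  have hlg : l * g = n := Nat.div_mul_cancel (Nat.gcd_dvd_left _ _)
  have hn0 : 0 < n := Nat.pos_of_dvd_of_pos hn Nat.card_pos
  have hg0 : 0 < g := Nat.gcd_pos_of_pos_left _ hn0
  have hl0 : 0 < l := Nat.pos_of_mul_pos_right (hlg.symm ▸ hn0)
  have hlG : l ∣ Nat.card (G ⧸ K) := by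
    have h1 : n ∣ Nat.gcd (n * Nat.card (G ⧸ K)) (Nat.card K * Nat.card (G ⧸ K)) :=
      Nat.dvd_gcd (dvd_mul_right _ _) (by rw [mul_comm]; rwa [hidx] at hn)
    rw [Nat.gcd_mul_right, ← hg] at h1
    refine Nat.dvd_of_mul_dvd_mul_left hg0 ?_
    rwa [mul_comm g l, hlg]
  have hfrob : l ≤ Nat.card {y : G ⧸ K // y ^ l = 1} := by
    haveI : Nonempty {y : G ⧸ K // y ^ l = 1} := ⟨⟨1, one_pow _⟩⟩
    exact Nat.le_of_dvd Nat.card_pos (FrobeniusTheorem.dvd_card_pow_eq_one hlG)
  by_cases hg1 : g = 1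
  · -- `K` is prime to `n`
    have hln : l = n := by rw [← hlg, hg1, mul_one]
    rw [hln] at hlG hfrob
    obtain ⟨e, he1, he0⟩ := Nat.chineseRemainder (show Nat.Coprime n (Nat.card K) from hg1) 1 0
    have hsurj : Function.Surjective (fun x : {x : G // x ^ n = 1} =>
        (⟨π x.1, by rw [← map_pow, x.2, map_one]⟩ : {y : G ⧸ K // y ^ n = 1})) := by
      rintro ⟨y, hy⟩
      obtain ⟨x, rfl⟩ := QuotientGroup.mk'_surjective K y
      have hxK : x ^ n ∈ K := by rw [← QuotientGroup.eq_one_iff, QuotientGroup.mk_pow]; exact hy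
      refine ⟨⟨x ^ e, ?_⟩, Subtype.ext ?_⟩
      · rw [← pow_mul, mul_comm, pow_mul]
        exact orderOf_dvd_iff_pow_eq_one.1
          ((Subgroup.orderOf_dvd_natCard _ hxK).trans (Nat.modEq_zero_iff_dvd.1 he0))
      · show π (x ^ e) = π x
        rw [map_pow]
        conv_rhs => rw [← pow_one (π x)]
        exact pow_eq_pow_iff_modEq.2 (he1.of_dvd (orderOf_dvd_of_pow_eq_one hy))
    have hcnt : Nat.card {y : G ⧸ K // y ^ n = 1} = n := by
      refine le_antisymm ?_ hfrob
      exact (Nat.card_le_card_of_surjective _ hsurj).trans hcount.le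
    obtain ⟨H', -, hH'⟩ := ih _ hlt (G ⧸ K) rfl n hlG hcnt
    have hH'c : Nat.card H' = n := by
      conv_rhs => rw [← hcnt]
      exact Nat.card_congr (Equiv.subtypeEquivRight fun y => Set.ext_iff.1 hH' y)
    set H := H'.comap π with hH
    have hKH : K ≤ H := QuotientGroup.le_comap_mk' K H'
    set K' := K.subgroupOf H
    have hidxK : K'.index = n := by
      show K.relIndex H = n
      have hk := Subgroup.relIndex_ker (K := H) π
      rw [QuotientGroup.ker_mk', hH,
        Subgroup.map_comap_eq_self_of_surjective (QuotientGroup.mk'_surjective K) H', hH'c] at hk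
      exact hk
    have hK'c : Nat.card K' = Nat.card K :=
      Nat.card_congr (Subgroup.subgroupOfEquivOfLe hKH).toEquiv
    obtain ⟨U, hU⟩ := Subgroup.exists_right_complement'_of_coprime
      (show Nat.Coprime (Nat.card K') K'.index by rw [hK'c, hidxK]; exact Nat.Coprime.symm hg1)
    have hUc : Nat.card U = n := by rw [← hU.symm.index_eq_card, hidxK]
    have key : ((U.map H.subtype : Subgroup G) : Set G) = {x : G | x ^ n = 1} := by
      refine hset _ ?_ ?_
      · rw [Subgroup.card_map_of_injective H.subtype_injective, hUc]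
      · rintro _ ⟨x, hx, rfl⟩
        have h1 : (⟨x, hx⟩ : U) ^ n = 1 := hUc ▸ pow_card_eq_one'
        exact congrArg (fun z : U => ((z : H) : G)) h1
    exact ⟨_, hnormal _ key, key⟩
  · -- `p` divides `n`
    obtain ⟨j, hj, hgj⟩ := (Nat.dvd_prime_pow hp).1 (show g ∣ p ^ i from hi ▸ Nat.gcd_dvd_right _ _)
    have hpg : p ∣ g := by
      rw [hgj]
      exact dvd_pow_self p (by rintro rfl; exact hg1 (by simpa using hgj))
    have hlift : ∀ x : G, π x ^ l = 1 → x ^ n = 1 := by
      intro x hx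
      have h1 : x ^ l ∈ K := by rw [← QuotientGroup.eq_one_iff, QuotientGroup.mk_pow]; exact hx
      refine orderOf_dvd_iff_pow_eq_one.1 ((orderOf_dvd_of_pow_eq_one (n := l * p) ?_).trans ?_)
      · rw [pow_mul]; exact hKp _ h1
      · exact (mul_dvd_mul_left l hpg).trans (dvd_of_eq hlg)
    have hpre : Nat.card {x : G // π x ^ l = 1} = Nat.card {y : G ⧸ K // y ^ l = 1} * Nat.card K := by
      rw [mul_comm, ← Nat.card_prod]
      exact Nat.card_congr (QuotientGroup.preimageMkEquivSubgroupProdSet K {y | y ^ l = 1})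
    have hle : Nat.card {x : G // π x ^ l = 1} ≤ n := by
      rw [← hcount]
      exact Nat.card_le_card_of_injective (fun x => ⟨x.1, hlift x.1 x.2⟩)
        (fun x y h => Subtype.ext (congrArg Subtype.val h :))
    rw [hpre] at hle
    have hgK : g ≤ Nat.card K := Nat.gcd_le_right _ Nat.card_pos
    have hge : n ≤ Nat.card {y : G ⧸ K // y ^ l = 1} * Nat.card K :=
      hlg ▸ Nat.mul_le_mul hfrob hgK
    have hcnt : Nat.card {y : G ⧸ K // y ^ l = 1} = l := by
      refine le_antisymm (Nat.le_of_mul_le_mul_right ?_ hg0) hfrob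
      rw [hlg]
      exact (Nat.mul_le_mul_left _ hgK).trans hle
    obtain ⟨H', -, hH'⟩ := ih _ hlt (G ⧸ K) rfl l hlG hcnt
    have key : ((H'.comap π : Subgroup G) : Set G) = {x : G | x ^ n = 1} := by
      have hmem : ∀ x, x ∈ H'.comap π ↔ π x ^ l = 1 := fun x => Set.ext_iff.1 hH' (π x)
      refine hset _ ?_ (fun x hx => hlift x ((hmem x).1 hx))
      rw [Nat.card_congr (Equiv.subtypeEquivRight hmem), hpre]
      exact le_antisymm hle hge
    exact ⟨_, hnormal _ key, key⟩

end Cfsg.Agent.Lib.Fgs9.PowerSubgroup
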