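import Cfsg.Agent.Lib.PGroups.Thompson
import Cfsg.Agent.Lib.Transfer.Frobenius
import Cfsg.Agent.Lib.Induced.Burnside
import Mathlib.GroupTheory.Nilpotent
import Mathlib.GroupTheory.PGroup

/-!
# Cosets of exponent `p` (Hughes, Thompson, Kegel)

`H ⊴ G` and every element outside `H` has `p`-th power `1`. Then an abelian subgroup `R ≤ H` and a
coprime subgroup `S ≤ H` normalising it, both normalised by one element outside `H`, commute. This
gives `[G : H] = p` for `H` not a `p`-group, and nilpotency of `H` from Thompson's normal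
`p`-complement theorem (taken as a hypothesis here).
-/

namespace Cfsg.Agent.Lib.Fgs9.Splitting

open Subgroup

universe u

variable {G : Type*} [Group G]

theorem normalizerMonoidHom_coe {R : Subgroup G} (a : normalizer (R : Set G)) (r : R) :
    ((R.normalizerMonoidHom a r : R) : G) = (a : G) * r * (a : G)⁻¹ := rfl

/-- `(r y)^n = (∏_{j<n} y^j r y^{-j}) y^n`. -/
theorem coe_prod_conj {R : Subgroup G} [IsMulCommutative R] (a : normalizer (R : Set G)) (r : R) (n : ℕ) :
    ((((List.range n).map fun j => R.normalizerMonoidHom (a ^ j) r).prod : R) : G) * (a : G) ^ n =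
      ((r : G) * a) ^ n := by
  induction n with
  | zero => simp
  | succ n ih =>
    rw [List.range_succ, List.map_append, List.prod_append, List.map_singleton, List.prod_singleton,
      pow_succ ((r : G) * a), ← ih, coe_mul, normalizerMonoidHom_coe, SubmonoidClass.coe_pow, pow_succ]
    group

open scoped IsMulCommutative in
theorem prod_conj_eq_one {H R : Subgroup G} [IsMulCommutative R] (hR : R ≤ H) {p : ℕ}
    (hpow : ∀ y : G, y ∉ H → y ^ p = 1) (a : normalizer (R : Set G)) (ha : (a : G) ∉ H) (r : R) :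
    ∏ j ∈ Finset.range p, R.normalizerMonoidHom (a ^ j) r = 1 := by
  have h1 : (r : G) * a ∉ H := fun h => ha (by simpa using H.mul_mem (H.inv_mem (hR r.2)) h)
  have h2 := coe_prod_conj a r p
  rw [hpow _ h1, hpow _ ha, mul_one] at h2
  rw [← List.toFinset_range, List.prod_toFinset _ List.nodup_range]
  exact Subtype.ext h2

/-- A power map coprime to the order is injective. -/
theorem pow_inj {V : Type*} [Group V] [Finite V] {k : ℕ} (h : (Nat.card V).Coprime k) {a b : V}
    (he : a ^ k = b ^ k) : a = b :=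
  (powCoprime h).injective he

/-- In a `p`-group coset the `j`-th power map is a bijection, `p ∤ j`. -/
theorem eq_of_pow_eq {p j : ℕ} (hp : p.Prime) {a b : G} (ha : a ^ p = 1) (hb : b ^ p = 1)
    (hj : ¬ p ∣ j) (h : a ^ j = b ^ j) : a = b := by
  obtain ⟨m, hm⟩ := Nat.exists_mul_mod_eq_one_of_coprime
    (Nat.coprime_comm.1 (hp.coprime_iff_not_dvd.2 hj)) hp.one_lt
  have e : ∀ c : G, c ^ p = 1 → (c ^ j) ^ m = c := fun c hc => by
    conv_rhs => rw [← pow_one c, ← hm.2]
    rw [← pow_mul, ← pow_eq_pow_mod _ hc]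
  rw [← e a ha, ← e b hb, h]

open scoped IsMulCommutative in
/-- An abelian `R ≤ H` and a coprime `S ≤ H` normalising it commute, if some element outside `H`
normalises both. -/
theorem centralizes [Finite G] {H R S : Subgroup G} [IsMulCommutative R] {p : ℕ} (hp : p.Prime)
    (hpow : ∀ y : G, y ∉ H → y ^ p = 1) (hR : R ≤ H) (hS : S ≤ H)
    (hSR : S ≤ normalizer (R : Set G)) {y : G} (hy : y ∉ H) (hyR : y ∈ normalizer (R : Set G))
    (hyS : y ∈ normalizer (S : Set G)) (hcop : (Nat.card R).Coprime (Nat.card S)) :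
    S ≤ centralizer (R : Set G) := by
  classical
  have := Fintype.ofFinite S
  let c := R.normalizerMonoidHom
  let ι : S →* normalizer (R : Set G) := inclusion hSR
  let b : normalizer (R : Set G) := ⟨y, hyR⟩
  intro s hs
  rw [mem_centralizer_iff]
  intro r₀ hr₀
  let r : R := ⟨r₀, hr₀⟩
  have hout : ∀ t : S, ((ι t * b : normalizer (R : Set G)) : G) ∉ H := fun t h => by
    replace h : (t : G) * y ∈ H := h
    exact hy (by simpa using H.mul_mem (H.inv_mem (hS t.2)) h)
  -- sum of all the norm identities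
  have hsum : ∏ t : S, ∏ j ∈ Finset.range p, c ((ι t * b) ^ j) r = 1 :=
    Finset.prod_eq_one fun t _ => prod_conj_eq_one hR hpow _ (hout t) r
  rw [Finset.prod_comm, ← Finset.prod_erase_mul _ _ (Finset.mem_range.2 hp.pos)] at hsum
  simp only [pow_zero, map_one, MulAut.one_apply, Finset.prod_const, Finset.card_univ] at hsum
  -- every other layer is fixed by `S`
  have hfix : ∀ j ∈ (Finset.range p).erase 0, ∀ u : S,
      c (ι u) (∏ t : S, c ((ι t * b) ^ j) r) = ∏ t : S, c ((ι t * b) ^ j) r := by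
    intro j hj u
    rw [Finset.mem_erase, Finset.mem_range] at hj
    have hmem : ∀ t : S, ∀ n : ℕ, ((t : G) * y) ^ n * (y ^ n)⁻¹ ∈ S := by
      intro t n
      induction n with
      | zero => simp
      | succ n ih =>
        have e : ((t : G) * y) ^ (n + 1) * (y ^ (n + 1))⁻¹ =
            (t : G) * (y * (((t : G) * y) ^ n * (y ^ n)⁻¹) * y⁻¹) := by
          rw [pow_succ', pow_succ']; group
        rw [e]
        exact S.mul_mem t.2 ((mem_normalizer_iff.1 hyS _).1 ih)
    let φ : S → S := fun t => ⟨_, hmem t j⟩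
    have hjp : ¬ p ∣ j := fun h => by have := Nat.le_of_dvd (by omega) h; omega
    have hinj : Function.Injective φ := by
      intro t t' h
      have h' := mul_right_cancel (congrArg Subtype.val h)
      exact Subtype.ext (mul_right_cancel (eq_of_pow_eq hp (hpow _ (hout t)) (hpow _ (hout t')) hjp h'))
    have hφ : ∀ t : S, (ι t * b) ^ j = ι (φ t) * b ^ j := fun t => by
      apply Subtype.ext
      simp [ι, b, φ, Subgroup.inclusion]
    simp only [hφ, map_mul, MulAut.mul_apply]
    rw [(hinj.bijective_of_finite).prod_comp (fun t : S => c (ι t) (c (b ^ j) r)), map_prod]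
    refine Fintype.prod_equiv (Equiv.mulLeft u) _ _ fun t => ?_
    simp [map_mul]
  set M := ∏ j ∈ (Finset.range p).erase 0, ∏ t : S, c ((ι t * b) ^ j) r
  have hM : c (ι ⟨s, hs⟩) M = M := by
    rw [map_prod]; exact Finset.prod_congr rfl fun j hj => hfix j hj _
  have hr : c (ι ⟨s, hs⟩) r = r := by
    refine pow_inj (k := Fintype.card S) (by rwa [Fintype.card_eq_nat_card]) ?_
    rw [← map_pow, eq_inv_of_mul_eq_one_right hsum, map_inv, hM]
  have h1 := congrArg Subtype.val hr
  rw [normalizerMonoidHom_coe] at h1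
  have h2 : s * r₀ * s⁻¹ = r₀ := h1
  calc r₀ * s = s * r₀ * s⁻¹ * s := by rw [h2]
    _ = s * r₀ := by group

/-- Frattini: some element outside a proper normal subgroup normalises a given Sylow subgroup of it. -/
theorem exists_notMem_normalizer_sylow [Finite G] {H : Subgroup G} [H.Normal] (hH : H ≠ ⊤) {q : ℕ}
    [Fact q.Prime] (Q : Sylow q H) :
    ∃ y, y ∉ H ∧ y ∈ normalizer (((Q : Subgroup H).map H.subtype : Subgroup G) : Set G) := by
  by_contra h
  simp only [not_exists, not_and] at h
  apply hH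
  have h1 : normalizer (((Q : Subgroup H).map H.subtype : Subgroup G) : Set G) ≤ H := fun y hy => by
    by_contra hy'
    exact h y hy' hy
  rw [← top_le_iff, ← Sylow.normalizer_sup_eq_top Q]
  exact sup_le h1 le_rfl

theorem exists_abelian_pGroup_normal [Finite G] (N : Subgroup G) [N.Normal] (hN : N ≠ ⊥)
    (hs : Group.IsSolvable N) :
    ∃ (r : ℕ) (R : Subgroup G), r.Prime ∧ R ≤ N ∧ R.Normal ∧ R ≠ ⊥ ∧ IsMulCommutative R ∧ IsPGroup r R := by
  obtain ⟨M, ⟨hMn, hM, hMN⟩, hmin⟩ :=
    (Set.toFinite {K : Subgroup G | K.Normal ∧ K ≠ ⊥ ∧ K ≤ N}).exists_minimal ⟨N, inferInstance, hN, le_rfl⟩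
  have hab : ⁅M, M⁆ = ⊥ := by
    by_contra hne
    have heq : ⁅M, M⁆ = M := le_antisymm (commutator_le_left _ _)
      (hmin ⟨commutator_normal _ _, hne, (commutator_le_left _ _).trans hMN⟩ (commutator_le_left _ _))
    haveI : Group.IsSolvable M := Group.isSolvable_of_isSolvable_injective (f := inclusion hMN) (inclusion_injective _)
    have hc : commutator M = ⊤ := by
      apply Subgroup.map_injective M.subtype_injective
      rw [map_subtype_commutator, heq, ← MonoidHom.range_eq_map, range_subtype]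
    have hder : ∀ k, derivedSeries M k = ⊤ := fun k => by
      induction k with
      | zero => rfl
      | succ k ih => rw [derivedSeries_succ, ih]; exact hc
    obtain ⟨k, hk⟩ := (Group.isSolvable_def M).1 inferInstance
    rw [hder] at hk
    apply hM
    rw [eq_bot_iff]
    intro x hx
    have : (⟨x, hx⟩ : M) ∈ (⊥ : Subgroup M) := hk ▸ mem_top _
    exact congrArg Subtype.val (mem_bot.1 this)
  have hcomm : ∀ a ∈ M, ∀ b ∈ M, a * b = b * a := fun a ha b hb =>
    (mem_centralizer_iff.1 (commutator_eq_bot_iff_le_centralizer.1 hab hb) a ha)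
  obtain ⟨r, hr, hrM⟩ := Nat.exists_prime_and_dvd (show Nat.card M ≠ 1 from fun h => hM (card_eq_one.1 h))
  haveI := Fact.mk hr
  let R : Subgroup G :=
    { carrier := {x | x ∈ M ∧ x ^ r = 1}
      one_mem' := ⟨one_mem _, one_pow r⟩
      mul_mem' := fun {a b} ha hb => ⟨mul_mem ha.1 hb.1, by
        rw [(show Commute a b from hcomm a ha.1 b hb.1).mul_pow, ha.2, hb.2, mul_one]⟩
      inv_mem' := fun {a} ha => ⟨inv_mem ha.1, by rw [inv_pow, ha.2, inv_one]⟩ }
  refine ⟨r, R, hr, fun x hx => hMN hx.1, ⟨fun x hx g => ⟨hMn.conj_mem x hx.1 g, ?_⟩⟩, ?_,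
    ⟨⟨fun a b => Subtype.ext (hcomm a a.2.1 b b.2.1)⟩⟩, fun x => ⟨1, Subtype.ext (by simpa using x.2.2)⟩⟩
  · rw [conj_pow, hx.2, mul_one, mul_inv_cancel]
  · obtain ⟨m, hm⟩ := exists_prime_orderOf_dvd_card' (G := M) r hrM
    intro h
    have : (m : G) ∈ R := ⟨m.2, by
      have := pow_orderOf_eq_one m
      rw [hm] at this
      simpa using congrArg Subtype.val this⟩
    rw [h, mem_bot] at this
    exact hr.ne_one (by rw [← hm, orderOf_eq_one_iff]; exact Subtype.ext this)

/-- Thompson's normal `p`-complement criterion, as a hypothesis. -/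
def ThompsonCriterion : Prop :=
  ∀ (G : Type u) [Group G] [Finite G] (q : ℕ) [Fact q.Prime], q ≠ 2 → ∀ P : Sylow q G,
    Cfsg.HasNormalPComplement q (normalizer (Cfsg.thompsonSubgroupOf q (P : Subgroup G) : Set G)) →
    Cfsg.HasNormalPComplement q
      (centralizer (((P : Subgroup G) ⊓ centralizer (P : Set G)) : Set G)) →
    Cfsg.HasNormalPComplement q G

open scoped IsMulCommutative in
/-- If `z` and `t` commute on `V ≤ H` and no `t z^i` lies in `H`, then `z` centralises `V`. -/
theorem fixed_of_commuting [Finite G] {H V : Subgroup G} [IsMulCommutative V] {p : ℕ} (hp : p.Prime)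
    (hpow : ∀ y : G, y ∉ H → y ^ p = 1) (hV : V ≤ H) (hcop : (Nat.card V).Coprime p)
    (t z : normalizer (V : Set G))
    (hcomm : Commute (V.normalizerMonoidHom t) (V.normalizerMonoidHom z))
    (hz : (V.normalizerMonoidHom z) ^ p = 1)
    (hout : ∀ i < p, ((t * z ^ i : normalizer (V : Set G)) : G) ∉ H) :
    V.normalizerMonoidHom z = 1 := by
  classical
  set A := V.normalizerMonoidHom t
  set B := V.normalizerMonoidHom z
  have h1 : ∀ v : V, ∏ i ∈ Finset.range p, ∏ j ∈ Finset.range p, (A ^ j * B ^ (i * j)) v = 1 := by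
    intro v
    refine Finset.prod_eq_one fun i hi => ?_
    refine Eq.trans (Finset.prod_congr rfl fun j _ => ?_)
      (prod_conj_eq_one hV hpow (t * z ^ i) (hout i (Finset.mem_range.1 hi)) v)
    rw [map_pow, map_mul, map_pow, (hcomm.pow_right i).mul_pow, ← pow_mul]
  -- `B` fixes each orbit product of `B`
  have hB : ∀ w : V, B (∏ i ∈ Finset.range p, (B ^ i) w) = ∏ i ∈ Finset.range p, (B ^ i) w := by
    intro w
    rw [map_prod]
    have e1 := Finset.prod_range_succ' (fun i => (B ^ i) w) p
    have e2 := Finset.prod_range_succ (fun i => (B ^ i) w) p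
    rw [e2, hz, pow_zero] at e1
    simp only [pow_succ', MulAut.mul_apply] at e1
    exact (mul_right_cancel e1).symm
  apply MulEquiv.ext
  intro v
  change B v = v
  refine pow_inj hcop ?_
  have hsum := h1 v
  rw [Finset.prod_comm, ← Finset.prod_erase_mul _ _ (Finset.mem_range.2 hp.pos)] at hsum
  simp only [pow_zero, mul_zero, mul_one, MulAut.one_apply, Finset.prod_const, Finset.card_range] at hsum
  rw [← map_pow, eq_inv_of_mul_eq_one_right hsum, map_inv, map_prod]
  congr 1
  refine Finset.prod_congr rfl fun j hj => ?_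
  rw [Finset.mem_erase, Finset.mem_range] at hj
  have hjp : ¬ p ∣ j := fun h => by have := Nat.le_of_dvd (by omega) h; omega
  -- reindex `i * j` modulo `p`
  have e : ∏ i ∈ Finset.range p, (A ^ j * B ^ (i * j)) v = ∏ i ∈ Finset.range p, (B ^ i) ((A ^ j) v) := by
    have e1 : ∀ k, (A ^ j * B ^ k) v = (B ^ k) ((A ^ j) v) := fun k => by
      rw [(hcomm.pow_pow j k).eq]; rfl
    simp only [e1]
    refine Finset.prod_nbij (fun i => i * j % p) (fun i _ => Finset.mem_range.2 (Nat.mod_lt _ hp.pos)) ?_ ?_ ?_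
    · intro a ha b hb h
      simp only [Finset.coe_range, Set.mem_Iio] at ha hb
      have h' : a * j ≡ b * j [MOD p] := h
      exact Nat.ModEq.eq_of_lt_of_lt
        (h'.cancel_right_of_coprime (hp.coprime_iff_not_dvd.2 hjp)) ha hb
    · intro c hc
      simp only [Finset.coe_range, Set.mem_Iio] at hc
      obtain ⟨m, hm⟩ := Nat.exists_mul_mod_eq_one_of_coprime (Nat.coprime_comm.1 (hp.coprime_iff_not_dvd.2 hjp)) hp.one_lt
      refine ⟨c * m % p, by simpa using Nat.mod_lt _ hp.pos, ?_⟩
      show c * m % p * j % p = c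
      rw [Nat.mod_mul_mod, mul_assoc, mul_comm m j, Nat.mul_mod, hm.2, mul_one, Nat.mod_mod, Nat.mod_eq_of_lt hc]
    · intro a _
      rw [← pow_eq_pow_mod (a * j) hz]
  rw [e, hB]

/-- Hughes–Thompson: the index of such a subgroup is `p`, unless it is a `p`-group. -/
theorem index_eq [Finite G] {H : Subgroup G} [H.Normal] (hH : H ≠ ⊤) {p : ℕ} (hp : p.Prime)
    (hpow : ∀ y : G, y ∉ H → y ^ p = 1) {q : ℕ} (hq : q.Prime) (hqp : q ≠ p) (hqH : q ∣ Nat.card H) :
    H.index = p := by
  haveI := Fact.mk hp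
  haveI := Fact.mk hq
  obtain ⟨Q⟩ : Nonempty (Sylow q H) := inferInstance
  set Q' : Subgroup G := (Q : Subgroup H).map H.subtype
  set V : Subgroup G := Q' ⊓ centralizer (Q' : Set G) with hVdef
  haveI : IsMulCommutative V :=
    ⟨⟨fun a b => Subtype.ext (mem_centralizer_iff.1 b.2.2 a a.2.1)⟩⟩
  have hV : V ≤ H := inf_le_left.trans (map_subtype_le _)
  have hQp : IsPGroup q Q' := Q.2.map _
  have hcop : (Nat.card V).Coprime p := by
    obtain ⟨k, hk⟩ := IsPGroup.iff_card.1 (hQp.to_le (inf_le_left : V ≤ Q'))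
    rw [hk]
    exact Nat.Coprime.pow_left k ((Nat.coprime_primes hq hp).2 hqp)
  have hQ'ne : Q' ≠ ⊥ := by
    rw [Ne, map_eq_bot_iff_of_injective _ H.subtype_injective]
    exact Q.ne_bot_of_dvd_card hqH
  -- a central element of `Q'`
  obtain ⟨v, hv⟩ : ∃ v : V, v ≠ 1 := by
    haveI : Nontrivial Q' := (nontrivial_iff_ne_bot Q').2 hQ'ne
    haveI := hQp.center_nontrivial
    obtain ⟨c, hc⟩ := exists_ne (1 : center Q')
    refine ⟨⟨((c : Q') : G), (c : Q').2, ?_⟩, ?_⟩
    · show ((c : Q') : G) ∈ centralizer (Q' : Set G)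
      rw [mem_centralizer_iff]
      intro a ha
      exact congrArg Subtype.val (mem_center_iff.1 c.2 ⟨a, ha⟩)
    · intro h
      exact hc (Subtype.ext (Subtype.ext (congrArg (fun w : V => (w : G)) h)))
  set N := normalizer (Q' : Set G)
  have hNV : N ≤ normalizer (V : Set G) := by
    intro a ha
    apply Cfsg.Agent.Lib.PGroups.mem_normalizer_of_map_conj_eq
    rw [hVdef, Cfsg.Agent.Lib.PGroups.map_inf_centralizer_of_injective _ (MulAut.conj a).injective,
      Cfsg.Agent.Lib.PGroups.map_conj_eq_of_mem_normalizer ha]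
  have htop : N ⊔ H = ⊤ := Sylow.normalizer_sup_eq_top Q
  obtain ⟨T⟩ : Nonempty (Sylow p N) := inferInstance
  set T' : Subgroup G := (T : Subgroup N).map N.subtype
  have hT'N : T' ≤ N := map_subtype_le _
  have hTtop : T' ⊔ H = ⊤ := by
    have hp' : IsPGroup p (G ⧸ H) := fun g => by
      induction g using QuotientGroup.induction_on with | H g => ?_
      by_cases hg : g ∈ H
      · exact ⟨0, by rw [pow_zero, pow_one, QuotientGroup.eq_one_iff]; exact hg⟩
      · exact ⟨1, by rw [pow_one, ← QuotientGroup.mk_pow, hpow g hg, QuotientGroup.mk_one]⟩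
    obtain ⟨k, hk⟩ := IsPGroup.iff_card.1 hp'
    rw [← index_eq_card] at hk
    have htop' : (T : Subgroup N) ⊔ H.subgroupOf N = ⊤ := by
      rw [← index_eq_one]
      exact Nat.eq_one_of_dvd_coprimes
        (Nat.Coprime.pow_left k (hp.coprime_iff_not_dvd.2 T.not_dvd_index))
        ((index_dvd_of_le le_sup_right).trans (hk ▸ relIndex_dvd_index_of_normal H N))
        (index_dvd_of_le le_sup_left)
    rw [← top_le_iff, ← htop]
    refine sup_le ?_ le_sup_right
    have h1 := congrArg (map N.subtype) htop'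
    rw [Subgroup.map_sup, ← MonoidHom.range_eq_map, range_subtype] at h1
    rw [← h1]
    exact sup_le le_sup_left (le_sup_of_le_right (map_comap_le _ _))
  -- the image of `T'` in `Aut V`
  let ρ : T' →* MulAut V := V.normalizerMonoidHom.comp (inclusion (hT'N.trans hNV))
  have hout : ∀ t : T', (t : G) ∉ H → ρ t ≠ 1 := by
    intro t ht h1
    have hc : (t : G) * v = v * t := by
      have h2 := congrArg (fun f : MulAut V => ((f v : V) : G)) h1
      have h3 : (t : G) * v * (t : G)⁻¹ = v := h2
      calc (t : G) * v = (t : G) * v * (t : G)⁻¹ * t := by group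
        _ = v * t := by rw [h3]
    have h4 : ((v : G) * t) ^ p = 1 := hpow _ fun h => ht (by simpa using H.mul_mem (H.inv_mem (hV v.2)) h)
    rw [(show Commute (v : G) t from hc.symm).mul_pow, hpow _ ht, mul_one] at h4
    refine hv (pow_inj hcop ?_)
    rw [one_pow]; exact Subtype.ext (by simpa using h4)
  have hsurj : ∀ g : G, ∃ t : T', ∃ h ∈ H, (t : G) * h = g := by
    intro g
    have hg : g ∈ ((T' ⊔ H : Subgroup G) : Set G) := by simp [hTtop]
    rw [mul_normal T' H] at hg
    obtain ⟨a, ha, b, hb, rfl⟩ := hg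
    exact ⟨⟨a, ha⟩, b, hb, rfl⟩
  haveI : Nontrivial ρ.range := by
    obtain ⟨g, hg⟩ : ∃ g, g ∉ H := by simpa using mt (eq_top_iff' H).2 hH
    obtain ⟨t, b, hb, hbt⟩ := hsurj g
    have ht : (t : G) ∉ H := fun h => hg (hbt ▸ H.mul_mem h hb)
    exact nontrivial_of_ne ⟨ρ t, t, rfl⟩ 1 fun h => hout t ht (congrArg Subtype.val h)
  have hW : IsPGroup p ρ.range := (T.2.map N.subtype).of_surjective ρ.rangeRestrict ρ.rangeRestrict_surjective
  haveI := hW.center_nontrivial
  obtain ⟨c, hc⟩ := exists_prime_orderOf_dvd_card' (G := center ρ.range) p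
    ((hW.to_subgroup _).card_eq_or_dvd.resolve_left Finite.one_lt_card.ne')
  obtain ⟨z, hz⟩ : ∃ z : T', ρ z = ((c : ρ.range) : MulAut V) := (c : ρ.range).2
  have hzp : (ρ z) ^ p = 1 := by
    have := pow_orderOf_eq_one c
    rw [hc] at this
    rw [hz]; exact congrArg (fun a : center ρ.range => ((a : ρ.range) : MulAut V)) this
  have hz1 : ρ z ≠ 1 := by
    rw [hz]; intro h
    have : c = 1 := Subtype.ext (Subtype.ext h)
    rw [this, orderOf_one] at hc
    exact hp.ne_one hc.symm
  have hzc : ∀ t : T', Commute (ρ t) (ρ z) := fun t => by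
    rw [hz]; exact congrArg Subtype.val (mem_center_iff.1 c.2 ⟨ρ t, t, rfl⟩)
  -- every element lies in `H⟨z⟩`
  have hcov : ∀ t : T', ∃ i < p, (t : G) * (z : G) ^ i ∈ H := by
    intro t
    by_contra h
    simp only [not_exists, not_and] at h
    exact hz1 (fixed_of_commuting hp hpow hV hcop (inclusion (hT'N.trans hNV) t) (inclusion (hT'N.trans hNV) z)
      (hzc t) hzp fun i hi hmem => h i hi (by simpa [Subgroup.inclusion] using hmem))
  have hgen : ∀ g : G, ∃ i : ℕ, g * (z : G) ^ i ∈ H := by
    intro g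
    obtain ⟨t, b, hb, rfl⟩ := hsurj g
    obtain ⟨i, -, hi⟩ := hcov t
    refine ⟨i, ?_⟩
    have e : (t : G) * b * (z : G) ^ i = (t : G) * (z : G) ^ i * (((z : G) ^ i)⁻¹ * b * (z : G) ^ i) := by group
    rw [e]
    exact H.mul_mem hi (by simpa using ‹H.Normal›.conj_mem b hb ((z : G) ^ i)⁻¹)
  have hzH : (z : G) ∉ H := fun hzH => hH (by
    rw [eq_top_iff']
    intro g
    obtain ⟨i, hi⟩ := hgen g
    simpa using H.mul_mem hi (H.inv_mem (pow_mem hzH i)))
  have hgz : zpowers (z : G ⧸ H) = ⊤ := by
    rw [eq_top_iff']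
    intro q
    induction q using QuotientGroup.induction_on with | H g => ?_
    obtain ⟨i, hi⟩ := hgen g
    refine ⟨-(i : ℤ), ?_⟩
    have : ((g : G ⧸ H)) * (z : G ⧸ H) ^ i = 1 := by
      rw [← QuotientGroup.mk_pow, ← QuotientGroup.mk_mul, QuotientGroup.eq_one_iff]; exact hi
    simp only [zpow_neg, zpow_natCast]
    exact (eq_inv_of_mul_eq_one_left this).symm
  rw [index_eq_card, ← card_top, ← hgz, Nat.card_zpowers, orderOf_eq_prime (p := p)]
  · rw [← QuotientGroup.mk_pow, hpow _ hzH, QuotientGroup.mk_one]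
  · rwa [Ne, QuotientGroup.eq_one_iff]

theorem mem_normalizer_inf {A : Subgroup G} {y : G} (hy : y ∈ normalizer (A : Set G)) (H : Subgroup G) [H.Normal] :
    y ∈ normalizer ((normalizer (A : Set G) ⊓ H : Subgroup G) : Set G) := by
  rw [mem_normalizer_iff]
  intro a
  constructor
  · intro ha
    exact ⟨(normalizer (A : Set G)).mul_mem ((normalizer (A : Set G)).mul_mem hy ha.1) ((normalizer (A : Set G)).inv_mem hy), ‹H.Normal›.conj_mem a ha.2 y⟩
  · intro ha
    refine ⟨?_, ?_⟩
    · simpa [mul_assoc] using mul_mem (mul_mem (inv_mem hy) ha.1) hy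
    · simpa [mul_assoc] using ‹H.Normal›.conj_mem _ ha.2 y⁻¹

theorem solvable_two_primes {G : Type u} [Group G] [Finite G] {p : ℕ} (hp : p.Prime)
    (h : ∀ r, r.Prime → r ∣ Nat.card G → r = 2 ∨ r = p) : Group.IsSolvable G := by
  obtain ⟨a, m, hm, hn⟩ := Nat.exists_eq_two_pow_mul_odd (n := Nat.card G) Nat.card_pos.ne'
  have hm' : m = p ^ m.primeFactorsList.length :=
    Nat.eq_prime_pow_of_unique_prime_dvd (by obtain ⟨k, rfl⟩ := hm; omega) fun {d} hd hdm =>
      (h d hd (hn ▸ Dvd.dvd.mul_left hdm _)).resolve_left fun e => by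
        subst e; obtain ⟨k, rfl⟩ := hm; omega
  exact Cfsg.Agent.Lib.Induced.Burnside.isSolvable_of_card_eq 2 p a m.primeFactorsList.length Nat.prime_two hp (hm' ▸ hn)

/-- Thompson-criterion step: a nontrivial normal abelian `r`-subgroup of `G` inside `H`. -/
theorem exists_normal_abelian (hT : ThompsonCriterion.{u}) {G : Type u} [Group G] [Finite G]
    {H : Subgroup G} [H.Normal] (hH : H ≠ ⊤) (hH' : H ≠ ⊥) {p : ℕ} (hp : p.Prime)
    (IH : ∀ M : Subgroup G, M < H → (∃ y, y ∉ H ∧ y ∈ normalizer (M : Set G)) → Group.IsNilpotent M) :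
    ∃ (r : ℕ) (R : Subgroup G), r.Prime ∧ R ≤ H ∧ R.Normal ∧ R ≠ ⊥ ∧ IsMulCommutative R ∧ IsPGroup r R := by
  suffices ∃ N : Subgroup G, N.Normal ∧ N ≠ ⊥ ∧ N ≤ H ∧ Group.IsSolvable N by
    obtain ⟨N, h1, h2, h3, h4⟩ := this
    obtain ⟨r, R, a, b, c, d, e, f⟩ := exists_abelian_pGroup_normal N h2 h4
    exact ⟨r, R, a, b.trans h3, c, d, e, f⟩
  by_cases hq : ∃ q, q.Prime ∧ q ≠ 2 ∧ q ≠ p ∧ q ∣ Nat.card H
  · obtain ⟨q, hq, hq2, -, hqH⟩ := hq
    haveI := Fact.mk hq
    obtain ⟨Q⟩ : Nonempty (Sylow q H) := inferInstance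
    set Q' : Subgroup G := (Q : Subgroup H).map H.subtype with hQ'
    obtain ⟨y, hy, hyQ⟩ := exists_notMem_normalizer_sylow hH Q
    set J := Cfsg.thompsonSubgroupOf q Q'
    set Z := Q' ⊓ centralizer (Q' : Set G)
    have hQp : IsPGroup q Q' := Q.2.map _
    have hQ'ne : Q' ≠ ⊥ := by
      rw [Ne, map_eq_bot_iff_of_injective _ H.subtype_injective]
      exact Q.ne_bot_of_dvd_card hqH
    obtain ⟨x, hxQ, hxc, hxq, hx1⟩ : ∃ x ∈ Q', (∀ a ∈ Q', x * a = a * x) ∧ x ^ q = 1 ∧ x ≠ 1 := by
      haveI : Nontrivial Q' := (nontrivial_iff_ne_bot Q').2 hQ'ne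
      haveI := hQp.center_nontrivial
      obtain ⟨c, hc⟩ := exists_prime_orderOf_dvd_card' (G := center Q') q
        ((hQp.to_subgroup _).card_eq_or_dvd.resolve_left Finite.one_lt_card.ne')
      have h1 := pow_orderOf_eq_one c
      rw [hc] at h1
      refine ⟨((c : Q') : G), (c : Q').2, fun a ha => (congrArg Subtype.val (mem_center_iff.1 c.2 ⟨a, ha⟩)).symm,
        congrArg (fun a : center Q' => ((a : Q') : G)) h1, fun h => ?_⟩
      rw [show c = 1 from Subtype.ext (Subtype.ext h), orderOf_one] at hc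
      exact hq.ne_one hc.symm
    have hJne : J ≠ ⊥ := fun h => hx1 (mem_bot.1 (h ▸ Cfsg.Agent.Lib.PGroups.centerThompsonOf_le_thompson q Q'
      (Cfsg.Agent.Lib.PGroups.mem_centerThompsonOf_of_center hxQ hxc hxq)))
    have hZne : Z ≠ ⊥ := fun h => hx1 (mem_bot.1 (h ▸ (⟨hxQ, mem_centralizer_iff.2 fun a ha => (hxc a ha).symm⟩ : x ∈ Z)))
    have hJQ : J ≤ Q' := Cfsg.Agent.Lib.PGroups.thompsonSubgroupOf_le q Q'
    have hyJ : y ∈ normalizer (J : Set G) := Cfsg.Agent.Lib.PGroups.normalizer_le_normalizer_thompson Q' hyQ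
    have hyZ : y ∈ normalizer (Z : Set G) := by
      apply Cfsg.Agent.Lib.PGroups.mem_normalizer_of_map_conj_eq
      rw [Cfsg.Agent.Lib.PGroups.map_inf_centralizer_of_injective _ (MulAut.conj y).injective,
        Cfsg.Agent.Lib.PGroups.map_conj_eq_of_mem_normalizer hyQ]
    by_cases hJn : J.Normal
    · haveI := (hQp.to_le hJQ).isNilpotent
      exact ⟨J, hJn, hJne, hJQ.trans (map_subtype_le _), inferInstance⟩
    by_cases hZn : Z.Normal
    · haveI := (hQp.to_le (inf_le_left : Z ≤ Q')).isNilpotent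
      exact ⟨Z, hZn, hZne, inf_le_left.trans (map_subtype_le _), inferInstance⟩
    -- otherwise `H` has a normal `q`-complement
    have hAnorm : ∀ A : Subgroup G, normalizer (Q' : Set G) ≤ normalizer (A : Set G) → ¬ A.Normal →
        Group.IsNilpotent (normalizer (A : Set G) ⊓ H : Subgroup G) := by
      intro A hQA hAn
      refine IH _ (lt_of_le_of_ne inf_le_right fun e => hAn ?_) ⟨y, hy, ?_⟩
      · rw [← normalizer_eq_top_iff, eq_top_iff, ← show normalizer (Q' : Set G) ⊔ H = ⊤ from Sylow.normalizer_sup_eq_top Q]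
        exact sup_le hQA (e ▸ inf_le_left)
      · exact mem_normalizer_inf (hQA hyQ) H
    have hNPC : Cfsg.HasNormalPComplement q H := by
      refine hT H q hq2 Q ?_ ?_
      · haveI := hAnorm J (Cfsg.Agent.Lib.PGroups.normalizer_le_normalizer_thompson Q') hJn
        refine Cfsg.Agent.Lib.Transfer.PResidual.hasNormalPComplement_of_injective
          ((H.subtype.comp (normalizer _).subtype).codRestrict (normalizer (J : Set G) ⊓ H) fun a => ⟨?_, (a : H).2⟩)
          (fun a b h => Subtype.ext (Subtype.ext (congrArg Subtype.val h :)))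
          Cfsg.Agent.Lib.Transfer.Frobenius.hasNormalPComplement_of_isNilpotent
        have h1 := Subgroup.le_normalizer_map H.subtype ⟨(a : H), a.2, rfl⟩
        rw [Cfsg.Agent.Lib.PGroups.map_thompsonSubgroupOf _ H.subtype_injective] at h1
        exact h1
      · haveI := hAnorm Z (fun a ha => by
          apply Cfsg.Agent.Lib.PGroups.mem_normalizer_of_map_conj_eq
          rw [Cfsg.Agent.Lib.PGroups.map_inf_centralizer_of_injective _ (MulAut.conj a).injective,
            Cfsg.Agent.Lib.PGroups.map_conj_eq_of_mem_normalizer ha]) hZn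
        refine Cfsg.Agent.Lib.Transfer.PResidual.hasNormalPComplement_of_injective
          ((H.subtype.comp (centralizer _).subtype).codRestrict (normalizer (Z : Set G) ⊓ H) fun a => ⟨?_, (a : H).2⟩)
          (fun a b h => Subtype.ext (Subtype.ext (congrArg Subtype.val h :)))
          Cfsg.Agent.Lib.Transfer.Frobenius.hasNormalPComplement_of_isNilpotent
        have h1 := Subgroup.le_normalizer_map H.subtype ⟨(a : H), centralizer_le_normalizer (((Q : Subgroup H) ⊓ centralizer ((Q : Subgroup H) : Set H) : Subgroup H) : Set H) a.2, rfl⟩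
        rw [Cfsg.Agent.Lib.PGroups.map_inf_centralizer_of_injective _ H.subtype_injective] at h1
        exact h1
    set N : Subgroup G := (Cfsg.pResidual q H).map H.subtype
    by_cases hN : Cfsg.pResidual q H = ⊥
    · haveI : Group.IsNilpotent H := (Cfsg.Agent.Lib.Transfer.PResidual.pResidual_eq_bot_iff.1 hN).isNilpotent
      exact ⟨H, inferInstance, hH', le_rfl, inferInstance⟩
    have hNlt : N < H := by
      refine lt_of_le_of_ne (map_subtype_le _) fun e => ?_
      refine Cfsg.Agent.Lib.Transfer.PResidual.hasNormalPComplement_iff_not_dvd.1 hNPC ?_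
      rw [← card_map_of_injective H.subtype_injective]
      exact (congrArg (fun A : Subgroup G => q ∣ Nat.card A) e).mpr hqH
    haveI := IH N hNlt ⟨y, hy, by rw [normalizer_eq_top]; exact mem_top y⟩
    exact ⟨N, inferInstance, by rwa [Ne, map_eq_bot_iff_of_injective _ H.subtype_injective], hNlt.le, inferInstance⟩
  · simp only [not_exists, not_and, not_not] at hq
    refine ⟨H, inferInstance, hH', le_rfl, solvable_two_primes hp fun r hr hrH => ?_⟩
    by_cases hr2 : r = 2
    · exact Or.inl hr2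
    · exact Or.inr (by by_contra h; exact hq r hr hr2 h hrH)

/-- **Kegel / Hughes–Thompson–Kegel**: with Thompson's criterion, `H` is nilpotent. -/
theorem isNilpotent (hT : ThompsonCriterion.{u}) : ∀ (n : ℕ) (G : Type u) [Group G] [Finite G]
    (H : Subgroup G) [H.Normal] (p : ℕ), p.Prime → Nat.card H = n → H ≠ ⊤ →
    (∀ y : G, y ∉ H → y ^ p = 1) → Group.IsNilpotent H := by
  intro n
  induction n using Nat.strong_induction_on with
  | _ n ih =>
    intro G _ _ H _ p hp hn hH hpow
    haveI := Fact.mk hp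
    by_cases hH' : H = ⊥
    · subst hH'; infer_instance
    have hlt : ∀ M : Subgroup G, M < H → Nat.card M < n := fun M hM =>
      hn ▸ (card_le_of_le hM.le).lt_of_ne fun e => hM.ne (eq_of_le_of_card_ge hM.le e.ge)
    -- subgroups normalised from outside
    have IH : ∀ M : Subgroup G, M < H → (∃ y, y ∉ H ∧ y ∈ normalizer (M : Set G)) → Group.IsNilpotent M := by
      rintro M hM ⟨y, hy, hyM⟩
      let X := M ⊔ zpowers y
      have hXN : X ≤ normalizer (M : Set G) := sup_le le_normalizer (zpowers_le.2 hyM)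
      haveI : (M.subgroupOf X).Normal := normal_subgroupOf_of_le_normalizer hXN
      haveI := ih _ (hlt M hM) X (M.subgroupOf X) p hp (Nat.card_congr (subgroupOfEquivOfLe le_sup_left).toEquiv)
        (fun h => hy (hM.le ((subgroupOf_eq_top.1 h) ((le_sup_right : zpowers y ≤ X) (mem_zpowers y)))))
        (fun a ha => Subtype.ext (by
          rw [SubmonoidClass.coe_pow, coe_one]
          refine hpow _ fun haH => ha ?_
          rw [mem_subgroupOf]
          have hmem : (a : G) ∈ ((M ⊔ zpowers y : Subgroup G) : Set G) := a.2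
          rw [coe_mul_of_right_le_normalizer_left M (zpowers y) (zpowers_le.2 hyM)] at hmem
          obtain ⟨m, hm, b, hb, hab⟩ := hmem
          obtain ⟨k, rfl⟩ := mem_zpowers_iff.1 hb
          have hab' : m * y ^ k = (a : G) := hab
          have hbH : y ^ k ∈ H := by
            have := H.mul_mem (H.inv_mem (hM.le hm)) haH
            rwa [← hab', inv_mul_cancel_left] at this
          have hy1 : y ≠ 1 := fun e => hy (e ▸ one_mem H)
          have ho : orderOf y = p := orderOf_eq_prime (hpow y hy) hy1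
          have hk : (p : ℤ) ∣ k := by
            by_contra hk
            apply hy
            have hg : Int.gcd k p = 1 :=
              Int.isCoprime_iff_gcd_eq_one.1 ((Prime.coprime_iff_not_dvd (Nat.prime_iff_prime_int.1 hp)).2 hk).symm
            have e : y = (y ^ k) ^ Int.gcdA k p * (y ^ (p : ℤ)) ^ Int.gcdB k p := by
              rw [← zpow_mul, ← zpow_mul, ← zpow_add, ← Int.gcd_eq_gcd_ab, hg, Nat.cast_one, zpow_one]
            rw [e, zpow_natCast, hpow y hy, one_zpow, mul_one]
            exact H.zpow_mem hbH _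
          have : y ^ k = 1 := orderOf_dvd_iff_zpow_eq_one.1 (ho ▸ hk)
          rw [this, mul_one] at hab'
          exact hab' ▸ hm))
      exact Group.nilpotent_of_mulEquiv (subgroupOfEquivOfLe (le_sup_left : M ≤ X))
    obtain ⟨r, R, hr, hRH, hRn, hR1, hRc, hRp⟩ := exists_normal_abelian hT hH hH' hp IH
    haveI := Fact.mk hr
    -- the quotient is nilpotent
    let π := QuotientGroup.mk' R
    haveI : (H.map π).Normal := Subgroup.Normal.map ‹H.Normal› π (QuotientGroup.mk'_surjective R)
    have hcomap : (H.map π).comap π = H := by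
      rw [comap_map_eq, QuotientGroup.ker_mk', sup_eq_left.2 hRH]
    have hmapcard : Nat.card (H.map π) < n := by
      have h1 := relIndex_ker (K := H) π
      rw [QuotientGroup.ker_mk'] at h1
      rw [← h1, ← hn]
      have h2 := Subgroup.card_mul_index (R.subgroupOf H)
      rw [Nat.card_congr (subgroupOfEquivOfLe hRH).toEquiv] at h2
      rw [← h2]
      exact lt_mul_left (Nat.pos_of_ne_zero index_ne_zero_of_finite) ((one_lt_card_iff_ne_bot R).2 hR1)
    haveI hnil : Group.IsNilpotent (H.map π) := ih _ hmapcard (G ⧸ R) (H.map π) p hp rfl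
      (fun h => hH (by rw [← hcomap, h, comap_top]))
      (fun a ha => by
        obtain ⟨g, rfl⟩ := QuotientGroup.mk'_surjective R a
        rw [← map_pow, hpow g fun hg => ha (mem_map_of_mem _ hg), map_one])
    refine ((Group.isNilpotent_of_finite_tfae (G := H)).out 0 3 rfl rfl).2 fun s hs S => ?_
    let f : H →* H.map π := π.subgroupMap H
    have hker : f.ker = R.subgroupOf H := by
      ext a
      simp [f, π, mem_subgroupOf, MonoidHom.mem_ker, Subtype.ext_iff, QuotientGroup.eq_one_iff]
    set T : Subgroup H := (S : Subgroup H) ⊔ R.subgroupOf H with hTdef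
    haveI hTn : T.Normal := by
      have h1 : ((S : Subgroup H).map f).Normal := by
        rw [← Sylow.coe_mapSurjective (π.subgroupMap_surjective H) S]; infer_instance
      have h2 : T = ((S : Subgroup H).map f).comap f := by rw [comap_map_eq, hker]
      rw [h2]
      exact h1.comap f
    by_cases hsr : s = r
    · subst hsr
      have : R.subgroupOf H ≤ S := by
        obtain ⟨S', hS'⟩ := (hRp.comap_subtype (K := H)).exists_le_sylow
        obtain ⟨g, hg⟩ := MulAction.exists_smul_eq H S' S
        intro a ha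
        have h1 : g⁻¹ * a * g ∈ R.subgroupOf H := by
          simpa using (inferInstance : (R.subgroupOf H).Normal).conj_mem a ha g⁻¹
        rw [← hg]
        exact ⟨g⁻¹ * a * g, hS' h1, by simp [MulAut.smul_def, mul_assoc]⟩
      rw [hTdef, sup_eq_left.2 this] at hTn
      exact hTn
    -- `S` centralises `R`
    haveI := hRc
    set S' : Subgroup G := (S : Subgroup H).map H.subtype
    have hSp : IsPGroup s S' := S.2.map _
    obtain ⟨y, hy, hyS⟩ := exists_notMem_normalizer_sylow hH S
    have hcop : (Nat.card R).Coprime (Nat.card S') := by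
      obtain ⟨a, ha⟩ := IsPGroup.iff_card.1 hRp
      obtain ⟨b, hb⟩ := IsPGroup.iff_card.1 hSp
      rw [ha, hb]
      exact Nat.Coprime.pow _ _ ((Nat.coprime_primes hr hs.out).2 (Ne.symm hsr))
    have hc := centralizes hp hpow hRH (map_subtype_le _) (by rw [normalizer_eq_top]; exact le_top) hy
      (by rw [normalizer_eq_top]; exact mem_top y) hyS hcop
    -- hence it is the set of `s`-elements of `T`
    constructor
    intro a ha g
    have hb := hTn.conj_mem a (le_sup_left (b := R.subgroupOf H) ha) g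
    have hb' : g * a * g⁻¹ ∈ ((T : Subgroup H) : Set H) := hb
    rw [hTdef, mul_normal] at hb'
    obtain ⟨u, hu, w, hw, huw⟩ := hb'
    obtain ⟨k, hk⟩ := S.2 ⟨a, ha⟩
    obtain ⟨k', hk'⟩ := S.2 ⟨u, hu⟩
    have hak : a ^ s ^ k = 1 := by simpa using congrArg Subtype.val hk
    have huk : u ^ s ^ k' = 1 := by simpa using congrArg Subtype.val hk'
    have hcu : Commute u w := Subtype.ext (mem_centralizer_iff.1 (hc ⟨u, hu, rfl⟩) _ hw).symm
    have huw' : u * w = g * a * g⁻¹ := huw
    have hwk : w ^ s ^ (k + k') = 1 := by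
      have h1 : (g * a * g⁻¹) ^ s ^ (k + k') = 1 := by
        rw [conj_pow, pow_add, pow_mul, hak, one_pow, mul_one, mul_inv_cancel]
      have e1 : u ^ s ^ (k + k') = 1 := by rw [pow_add, mul_comm, pow_mul, huk, one_pow]
      rwa [← huw', hcu.mul_pow, e1, one_mul] at h1
    have hw1 : (w : G) = 1 := by
      have h1 : ((⟨(w : G), hw⟩ : R)) ^ s ^ (k + k') = 1 ^ s ^ (k + k') := by
        rw [one_pow]; exact Subtype.ext (by simpa using congrArg Subtype.val hwk)
      obtain ⟨e, he⟩ := IsPGroup.iff_card.1 hRp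
      have := pow_inj (V := R) (he ▸ Nat.Coprime.pow _ _ ((Nat.coprime_primes hr hs.out).2 (Ne.symm hsr))) h1
      exact congrArg Subtype.val this
    rw [show w = 1 from Subtype.ext hw1, mul_one] at huw'
    exact huw' ▸ hu

end Cfsg.Agent.Lib.Fgs9.Splitting
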