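import Cfsg.Agent.Lib.Transfer.PResidual
import Mathlib.GroupTheory.Transfer
import Mathlib.GroupTheory.IndexNormal
import Mathlib.Data.Finite.Perm
import Mathlib.Tactic.IntervalCases
import Mathlib.GroupTheory.SpecificGroups.Cyclic

/-!
# 35 is not a Sylow 17-number

Owner: helper73. Namespace `Cfsg.Agent.Lib.Fgs9.ThirtyFive`.
Elementary: in a transitive group of degree 35 whose point stabilisers have a normal Sylow 17-subgroup
fixing one point, the Sylow 2-subgroup is abelian, Burnside gives a normal subgroup of order 595, hence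
a normal subgroup of order 5.
-/

set_option autoImplicit false

namespace Cfsg.Agent.Lib.Fgs9.ThirtyFive

open Equiv

theorem exists_notMem_of_card_lt {α : Type*} [Fintype α] {s : Finset α} (h : s.card < Fintype.card α) :
    ∃ x, x ∉ s := by
  by_contra hc
  push Not at hc
  rw [Finset.eq_univ_of_forall hc, Finset.card_univ] at h
  exact lt_irrefl _ h

/-- The hypothesis on the point stabilisers. -/
structure Local {Ω : Type*} (K : Subgroup (Perm Ω)) (α : Ω) (P : Subgroup (Perm Ω)) : Prop where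
  le : P ≤ K
  pgroup : IsPGroup 17 P
  fix : ∀ s ∈ P, s α = α
  only : ∀ β, (∀ s ∈ P, s β = β) → β = α
  conj : ∀ g ∈ K, g α = α → ∀ s ∈ P, g * s * g⁻¹ ∈ P
  maximal : ∀ g ∈ K, g α = α → (∃ k, g ^ 17 ^ k = 1) → g ∈ P

variable {Ω : Type*} [Finite Ω] {K : Subgroup (Perm Ω)} {α : Ω} {P : Subgroup (Perm Ω)}
  [Fact (Nat.Prime 17)] (hΩ : Nat.card Ω = 35) (h : Local K α P)

include hΩ h in
theorem card_orbit {x : Ω} (hx : x ≠ α) : Nat.card (MulAction.orbit P x) = 17 := by
  obtain ⟨k, hk⟩ := h.pgroup.card_orbit x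
  have hle : Nat.card (MulAction.orbit P x) ≤ 35 := hΩ ▸
    Nat.card_le_card_of_injective (Subtype.val : MulAction.orbit P x → Ω) Subtype.val_injective
  have hne : Nat.card (MulAction.orbit P x) ≠ 1 := by
    intro h1
    refine hx (h.only x fun s hs => ?_)
    obtain ⟨hsub, -⟩ := Nat.card_eq_one_iff_unique.1 h1
    exact congrArg Subtype.val (Subsingleton.elim
      (⟨s x, ⟨s, hs⟩, rfl⟩ : MulAction.orbit P x) ⟨x, MulAction.mem_orbit_self x⟩)
  rw [hk] at hle hne ⊢
  rcases Nat.lt_or_ge k 2 with h2 | h2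
  · interval_cases k
    · exact absurd (pow_zero 17) hne
    · rfl
  · exact absurd ((Nat.pow_le_pow_right (by norm_num) h2).trans hle) (by norm_num)

include hΩ h in
theorem fix_orbit {x : Ω} (hx : x ≠ α) {s : Perm Ω} (hs : s ∈ P) (hsx : s x = x) {y : Ω}
    (hy : y ∈ MulAction.orbit P x) : s y = y := by
  haveI : (MulAction.stabilizer P x).Normal := by
    refine Subgroup.normal_of_index_eq_minFac_card ?_
    have hidx : (MulAction.stabilizer P x).index = 17 := by
      rw [MulAction.index_stabilizer, ← Nat.card_coe_set_eq, card_orbit hΩ h hx]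
    obtain ⟨j, hj⟩ := IsPGroup.iff_card.1 h.pgroup
    have hj0 : j ≠ 0 := by
      rintro rfl
      have := Subgroup.index_dvd_card (MulAction.stabilizer P x)
      rw [hidx, hj] at this
      norm_num at this
    rw [hidx, hj, Nat.Prime.pow_minFac (by norm_num) hj0]
  obtain ⟨t, rfl⟩ := hy
  have h1 := ‹(MulAction.stabilizer P x).Normal›.conj_mem ⟨s, hs⟩ hsx t⁻¹
  have h2 : (t : Perm Ω)⁻¹ (s ((t : Perm Ω) x)) = x := by
    simpa [MulAction.mem_stabilizer_iff, Subgroup.smul_def] using h1
  show s ((t : Perm Ω) x) = (t : Perm Ω) x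
  conv_rhs => rw [← h2]
  simp

include hΩ h in
theorem cover {x : Ω} (hx : x ≠ α) : ∃ y, y ≠ α ∧ y ∉ MulAction.orbit P x ∧
    ∀ z, z ≠ α → z ∈ MulAction.orbit P x ∨ z ∈ MulAction.orbit P y := by
  classical
  have := Fintype.ofFinite Ω
  have hcard : ∀ z, z ≠ α → (MulAction.orbit P z).toFinset.card = 17 := fun z hz => by
    rw [← card_orbit hΩ h hz, Set.toFinset_card, ← Nat.card_eq_fintype_card]
  obtain ⟨y, hy⟩ := exists_notMem_of_card_lt (α := Ω) (s := insert α (MulAction.orbit P x).toFinset)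
    (by rw [← Nat.card_eq_fintype_card, hΩ]
        exact lt_of_le_of_lt (Finset.card_insert_le _ _) (by rw [hcard x hx]; norm_num))
  simp only [Finset.mem_insert, Set.mem_toFinset, not_or] at hy
  refine ⟨y, hy.1, hy.2, fun z hz => ?_⟩
  have hd : Disjoint (MulAction.orbit P x).toFinset (MulAction.orbit P y).toFinset := by
    rw [Finset.disjoint_left]
    intro u hu hu'
    rw [Set.mem_toFinset] at hu hu'
    refine hy.2 ?_
    rw [← MulAction.orbit_eq_iff.2 hu, MulAction.orbit_eq_iff.2 hu']
    exact MulAction.mem_orbit_self y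
  have hα : α ∉ (MulAction.orbit P x).toFinset ∪ (MulAction.orbit P y).toFinset := by
    intro hm
    rw [Finset.mem_union, Set.mem_toFinset, Set.mem_toFinset] at hm
    rcases hm with hm | hm
    all_goals
      obtain ⟨t, ht⟩ := hm
      have h1 : (t : Perm Ω) _ = α := ht
      have h2 := (t : Perm Ω).injective (h1.trans (h.fix t t.2).symm)
    exacts [hx h2, hy.1 h2]
  have htot : insert α ((MulAction.orbit P x).toFinset ∪ (MulAction.orbit P y).toFinset) = Finset.univ := by
    apply Finset.eq_univ_of_card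
    rw [Finset.card_insert_of_notMem hα, Finset.card_union_of_disjoint hd, hcard x hx, hcard y hy.1,
      ← Nat.card_eq_fintype_card, hΩ]
  have := htot ▸ Finset.mem_univ z
  simpa [hz] using this

omit [Finite Ω] [Fact (Nat.Prime 17)] in
/-- An element commuting with the action on an orbit that it preserves. -/
theorem iterate_eq {x : Ω} {g : Perm Ω} {s : Perm Ω} (hs : s ∈ P) (hgx : g x = s x)
    (hc : ∀ y ∈ MulAction.orbit P x, g (s y) = s (g y)) : ∀ n : ℕ, (g ^ n) x = (s ^ n) x := by
  have horb : ∀ n : ℕ, (s ^ n) x ∈ MulAction.orbit P x := fun n =>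
    ⟨⟨s ^ n, pow_mem hs n⟩, rfl⟩
  intro n
  induction n with
  | zero => rfl
  | succ n ih =>
    rw [pow_succ', Perm.mul_apply, ih]
    clear ih
    induction n with
    | zero => simpa using hgx
    | succ n ihn =>
      rw [pow_succ', Perm.mul_apply, hc _ (horb n), ihn, ← Perm.mul_apply, ← pow_succ']

include hΩ h in
theorem exists_zpow_on_orbit {x : Ω} (hx : x ≠ α) {s t : Perm Ω} (hs : s ∈ P) (hsx : s x ≠ x)
    (ht : t ∈ P) : ∃ i : ℕ, ∀ y ∈ MulAction.orbit P x, t y = (s ^ i) y := by
  classical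
  have hidx : (MulAction.stabilizer P x).index = 17 := by
    rw [MulAction.index_stabilizer, ← Nat.card_coe_set_eq, card_orbit hΩ h hx]
  haveI : (MulAction.stabilizer P x).Normal := ⟨fun a ha g => by
    have hfix := fix_orbit hΩ h hx a.2 ha (MulAction.mem_orbit x g⁻¹)
    rw [MulAction.mem_stabilizer_iff, mul_smul, mul_smul]
    show (g : Perm Ω) ((a : Perm Ω) (((g⁻¹ : P) : Perm Ω) x)) = x
    rw [show (a : Perm Ω) (((g⁻¹ : P) : Perm Ω) x) = ((g⁻¹ : P) : Perm Ω) x from hfix]
    simp⟩
  set π := QuotientGroup.mk' (MulAction.stabilizer P x)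
  have h1 : π ⟨s, hs⟩ ≠ 1 := fun e => hsx ((QuotientGroup.eq_one_iff _).1 e)
  obtain ⟨i, hi⟩ := mem_powers_of_prime_card (p := 17)
    (show Nat.card (P ⧸ MulAction.stabilizer P x) = 17 by rw [← Subgroup.index_eq_card, hidx])
    h1 (g' := π ⟨t, ht⟩)
  have hi' : π ⟨s, hs⟩ ^ i = π ⟨t, ht⟩ := hi
  rw [← map_pow] at hi'
  refine ⟨i, fun y hy => ?_⟩
  have h2 : (s ^ i)⁻¹ * t ∈ P := mul_mem (inv_mem (pow_mem hs i)) ht
  have h3 := fix_orbit hΩ h hx h2 (QuotientGroup.eq.1 hi') hy
  rw [Perm.mul_apply, Perm.inv_eq_iff_eq] at h3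
  exact h3

include hΩ h in
/-- `g` centralizes the restriction to each fixed orbit as soon as its order is prime to `16`. -/
theorem comm_on_orbit {x : Ω} (hx : x ≠ α) {g : Perm Ω} (hg : g ∈ K) (hgα : g α = α)
    (hgO : g x ∈ MulAction.orbit P x) {r : ℕ} (hr : g ^ r = 1) (hr16 : r.Coprime 16) {s : Perm Ω}
    (hs : s ∈ P) : ∀ y ∈ MulAction.orbit P x, g (s y) = s (g y) := by
  have hinv : ∀ y ∈ MulAction.orbit P x, g y ∈ MulAction.orbit P x := by
    rintro _ ⟨t, rfl⟩
    obtain ⟨u, hu⟩ := hgO
    have hu' : (u : Perm Ω) x = g x := hu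
    refine ⟨⟨_, h.conj g hg hgα t t.2⟩ * u, ?_⟩
    show (g * (t : Perm Ω) * g⁻¹) ((u : Perm Ω) x) = g ((t : Perm Ω) x)
    rw [hu']
    simp
  intro y hy
  by_cases hsx : s x = x
  · rw [fix_orbit hΩ h hx hs hsx hy, fix_orbit hΩ h hx hs hsx (hinv y hy)]
  obtain ⟨i, hi⟩ := exists_zpow_on_orbit hΩ h hx hs hsx (h.conj g hg hgα s hs)
  have hpow : ∀ m : ℕ, ∀ y ∈ MulAction.orbit P x, g ((s ^ m) y) = (s ^ (i * m)) (g y) := by
    intro m
    induction m with
    | zero => intro y _; simp
    | succ m ih =>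
      intro y hy
      have hy' : (s ^ m) y ∈ MulAction.orbit P x := by
        obtain ⟨t, rfl⟩ := hy
        exact ⟨⟨s ^ m, pow_mem hs m⟩ * t, rfl⟩
      have h1 := hi (g ((s ^ m) y)) (hinv _ hy')
      rw [Perm.mul_apply, Perm.mul_apply, Perm.inv_def, Equiv.symm_apply_apply] at h1
      rw [pow_succ', Perm.mul_apply, h1, ih y hy, ← Perm.mul_apply, ← pow_add, Nat.mul_succ, add_comm]
  have hit : ∀ n : ℕ, ∀ y ∈ MulAction.orbit P x, (g ^ n) y ∈ MulAction.orbit P x ∧
      (g ^ n) (s y) = (s ^ (i ^ n)) ((g ^ n) y) := by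
    intro n
    induction n with
    | zero => intro y hy; simpa using hy
    | succ n ih =>
      intro y hy
      obtain ⟨h1, h2⟩ := ih y hy
      refine ⟨by rw [pow_succ', Perm.mul_apply]; exact hinv _ h1, ?_⟩
      rw [pow_succ' g, Perm.mul_apply, h2, hpow _ _ h1, Perm.mul_apply, pow_succ']
  have h17 : (s ^ 17) x = x := by
    have hidx : (MulAction.stabilizer P x).index = 17 := by
      rw [MulAction.index_stabilizer, ← Nat.card_coe_set_eq, card_orbit hΩ h hx]
    haveI : (MulAction.stabilizer P x).Normal := ⟨fun a ha g => by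
      have hfix := fix_orbit hΩ h hx a.2 ha (MulAction.mem_orbit x g⁻¹)
      rw [MulAction.mem_stabilizer_iff, mul_smul, mul_smul]
      show (g : Perm Ω) ((a : Perm Ω) (((g⁻¹ : P) : Perm Ω) x)) = x
      rw [show (a : Perm Ω) (((g⁻¹ : P) : Perm Ω) x) = ((g⁻¹ : P) : Perm Ω) x from hfix]
      simp⟩
    have := Subgroup.pow_index_mem (MulAction.stabilizer P x) ⟨s, hs⟩
    rw [hidx] at this
    exact this
  -- `i ^ r ≡ 1`, so `i ≡ 1`
  have hir : (s ^ (i ^ r)) x = s x := by
    have := (hit r x (MulAction.mem_orbit_self x)).2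
    rw [hr] at this
    simpa using this.symm
  have hmod : (s ^ (i ^ r % 17)) x = s x := by
    rw [← hir]
    conv_rhs => rw [← Nat.mod_add_div (i ^ r) 17, pow_add, Perm.mul_apply]
    congr 1
    generalize i ^ r / 17 = q
    induction q with
    | zero => simp
    | succ q ih => rw [Nat.mul_succ, pow_add, Perm.mul_apply, h17]; exact ih
  have hsmall : ∀ m : ℕ, m < 17 → (s ^ m) x = s x → m = 1 := by
    intro m hm he
    by_contra hne
    refine hsx ?_
    have hcop : Nat.Coprime (if m = 0 then 1 else m - 1) 17 :=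
      (((by norm_num : Nat.Prime 17)).coprime_iff_not_dvd.2 (by
        split_ifs with h0
        · norm_num
        · exact Nat.not_dvd_of_pos_of_lt (by omega) (by omega))).symm
    set d := if m = 0 then 1 else m - 1
    have hd : (s ^ d) x = x := by
      simp only [d]
      split_ifs with h0
      · subst h0; rw [pow_zero, Perm.one_apply] at he; rw [pow_one]; exact he.symm
      · have h1 : (s ^ m) x = s ((s ^ (m - 1)) x) := by
          rw [← Perm.mul_apply, ← pow_succ', Nat.sub_add_cancel (by omega)]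
        rw [h1] at he
        exact s.injective he
    have hmem : s ^ (Nat.gcd d 17) ∈ MulAction.stabilizer (Perm Ω) x := by
      rw [← zpow_natCast, Nat.gcd_eq_gcd_ab, zpow_add, zpow_mul, zpow_mul, zpow_natCast, zpow_natCast]
      exact mul_mem (zpow_mem (MulAction.mem_stabilizer_iff.2 hd) _)
        (zpow_mem (MulAction.mem_stabilizer_iff.2 h17) _)
    rw [Nat.Coprime.gcd_eq_one hcop, pow_one] at hmem
    exact hmem
  have hr1 : i ^ r % 17 = 1 := hsmall _ (Nat.mod_lt _ (by norm_num)) hmod
  have hi1 : i % 17 = 1 := by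
    have hz : ((i : ZMod 17)) ^ r = 1 := by
      rw [← Nat.cast_pow, ← ZMod.natCast_mod, hr1, Nat.cast_one]
    rcases Nat.eq_zero_or_pos r with rfl | hr0
    · norm_num at hr16
    have hne : (i : ZMod 17) ≠ 0 := fun h0 => by
      rw [h0, zero_pow hr0.ne'] at hz; exact zero_ne_one hz
    have h16 : orderOf (i : ZMod 17) ∣ 16 := orderOf_dvd_of_pow_eq_one (ZMod.pow_card_sub_one_eq_one hne)
    have h1 := Nat.eq_one_of_dvd_coprimes hr16 (orderOf_dvd_of_pow_eq_one hz) h16
    have h2 := orderOf_eq_one_iff.1 h1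
    rw [← Nat.cast_one, ZMod.natCast_eq_natCast_iff'] at h2
    simpa using h2
  have hfix17 : (s ^ 17) (g y) = g y := fix_orbit hΩ h hx (pow_mem hs 17) h17 (hinv y hy)
  have h1 := hpow 1 y hy
  rw [pow_one, mul_one, ← Nat.mod_add_div i 17, hi1, pow_add, pow_one, Perm.mul_apply] at h1
  rw [h1]
  congr 1
  generalize i / 17 = q
  induction q with
  | zero => simp
  | succ q ih => rw [Nat.mul_succ, pow_add, Perm.mul_apply, hfix17, ih]

include hΩ h in
/-- An element of a stabiliser commuting with `P` on a preserved orbit has its 17th power fixing it. -/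
theorem pow_fix {x : Ω} (hx : x ≠ α) {g : Perm Ω} (hgO : g x ∈ MulAction.orbit P x)
    (hc : ∀ s ∈ P, ∀ y ∈ MulAction.orbit P x, g (s y) = s (g y)) : (g ^ 17) x = x := by
  obtain ⟨u, hu⟩ := hgO
  rw [iterate_eq (P := P) u.2 (show g x = (u : Perm Ω) x from hu.symm) (hc u u.2) 17]
  have hidx : (MulAction.stabilizer P x).index = 17 := by
    rw [MulAction.index_stabilizer, ← Nat.card_coe_set_eq, card_orbit hΩ h hx]
  haveI : (MulAction.stabilizer P x).Normal := ⟨fun a ha g => by
    have hfix := fix_orbit hΩ h hx a.2 ha (MulAction.mem_orbit x g⁻¹)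
    rw [MulAction.mem_stabilizer_iff, mul_smul, mul_smul]
    show (g : Perm Ω) ((a : Perm Ω) (((g⁻¹ : P) : Perm Ω) x)) = x
    rw [show (a : Perm Ω) (((g⁻¹ : P) : Perm Ω) x) = ((g⁻¹ : P) : Perm Ω) x from hfix]
    simp⟩
  have := Subgroup.pow_index_mem (MulAction.stabilizer P x) u
  rw [hidx] at this
  exact this

include hΩ h in
/-- The stabiliser is a `{2, 17}`-group. -/
theorem no_other_prime {g : Perm Ω} (hg : g ∈ K) (hgα : g α = α) {r : ℕ} (hr : r.Prime)
    (hgr : g ^ r = 1) (hr2 : r ≠ 2) (hr17 : r ≠ 17) : g = 1 := by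
  have h16 : r.Coprime 16 := by
    have : r.Coprime (2 ^ 4) := ((Nat.coprime_primes hr Nat.prime_two).2 hr2).pow_right 4
    exact this
  refine Equiv.ext fun x => ?_
  rw [Perm.one_apply]
  by_cases hx : x = α
  · rw [hx, hgα]
  obtain ⟨y, hy, hyx, hcov⟩ := cover hΩ h hx
  have hgne : g x ≠ α := fun e => hx (g.injective (e.trans hgα.symm))
  have hgO : g x ∈ MulAction.orbit P x := by
    rcases hcov _ hgne with h1 | h1
    · exact h1
    exfalso
    -- an element of odd order cannot exchange two orbits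
    have hswap : ∀ u, u ∈ MulAction.orbit P x → g u ∈ MulAction.orbit P y := by
      rintro _ ⟨t, rfl⟩
      obtain ⟨w, hw⟩ := h1
      have hw' : (w : Perm Ω) y = g x := hw
      refine ⟨⟨_, h.conj g hg hgα t t.2⟩ * w, ?_⟩
      show (g * (t : Perm Ω) * g⁻¹) ((w : Perm Ω) y) = g ((t : Perm Ω) x)
      rw [hw']; simp
    have hback : ∀ u, u ∈ MulAction.orbit P y → g u ∈ MulAction.orbit P x := by
      intro u hu
      have hune : u ≠ α := by
        intro e
        rw [e] at hu
        obtain ⟨t, ht⟩ := hu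
        exact hy ((t : Perm Ω).injective ((show (t : Perm Ω) y = α from ht).trans (h.fix t t.2).symm))
      have hgune : g u ≠ α := fun e => hune (g.injective (e.trans hgα.symm))
      refine (hcov _ hgune).resolve_right fun h2 => ?_
      -- then `g` would not be injective on orbits
      obtain ⟨w, hw⟩ := h1
      obtain ⟨v, hv⟩ := h2
      obtain ⟨t, ht⟩ := hu
      have hginv : g⁻¹ α = α := by rw [Perm.inv_eq_iff_eq]; exact hgα.symm
      have h3 : g⁻¹ * ((v : Perm Ω) * (w : Perm Ω)⁻¹) * g ∈ P := by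
        have := h.conj g⁻¹ (inv_mem hg) hginv _ (mul_mem v.2 (inv_mem w.2))
        simpa using this
      refine hyx ⟨⟨(t : Perm Ω)⁻¹, inv_mem t.2⟩ * ⟨_, h3⟩, ?_⟩
      show ((t : Perm Ω)⁻¹) ((g⁻¹ * ((v : Perm Ω) * (w : Perm Ω)⁻¹) * g) x) = y
      rw [Perm.mul_apply, Perm.mul_apply, Perm.mul_apply, ← (show (w : Perm Ω) y = g x from hw),
        Perm.inv_def (w : Perm Ω), Equiv.symm_apply_apply, (show (v : Perm Ω) y = g u from hv),
        Perm.inv_def g, Equiv.symm_apply_apply, ← (show (t : Perm Ω) y = u from ht), Perm.inv_def,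
        Equiv.symm_apply_apply]
    have halt : ∀ n : ℕ, (g ^ (2 * n + 1)) x ∈ MulAction.orbit P y := by
      intro n
      induction n with
      | zero => rw [mul_zero, zero_add, pow_one]; exact h1
      | succ n ih =>
        rw [show 2 * (n + 1) + 1 = (2 * n + 1) + 1 + 1 by ring, pow_succ', pow_succ', Perm.mul_apply,
          Perm.mul_apply]
        exact hswap _ (hback _ ih)
    obtain ⟨n, hn⟩ := hr.odd_of_ne_two hr2
    have := halt n
    rw [← hn, hgr, Perm.one_apply] at this
    refine hyx ?_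
    rw [MulAction.orbit_eq_iff.2 this]
    exact MulAction.mem_orbit_self y
  have h17 := pow_fix hΩ h hx hgO fun s hs => comm_on_orbit hΩ h hx hg hgα hgO hgr h16 hs
  have hcop : Nat.gcd r 17 = 1 := (Nat.coprime_primes hr (by norm_num)).2 hr17
  have hmem : g ^ Nat.gcd r 17 ∈ MulAction.stabilizer (Perm Ω) x := by
    rw [← zpow_natCast, Nat.gcd_eq_gcd_ab, zpow_add, zpow_mul, zpow_mul, zpow_natCast, zpow_natCast, hgr,
      one_zpow, one_mul]
    exact zpow_mem (MulAction.mem_stabilizer_iff.2 h17) _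
  rw [hcop, pow_one] at hmem
  exact hmem

include hΩ h in
theorem prime_dvd_stabilizer {r : ℕ} (hr : r.Prime)
    (hd : r ∣ Nat.card (MulAction.stabilizer K α)) : r = 2 ∨ r = 17 := by
  haveI := Fact.mk hr
  by_contra hc
  push Not at hc
  obtain ⟨⟨⟨g, hg⟩, hgα⟩, ho⟩ := exists_prime_orderOf_dvd_card' r hd
  have hgr : g ^ r = 1 := by
    have := pow_orderOf_eq_one (⟨⟨g, hg⟩, hgα⟩ : MulAction.stabilizer K α)
    rw [ho] at this
    exact congrArg (fun z : MulAction.stabilizer K α => ((z : K) : Perm Ω)) this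
  have h1 := no_other_prime hΩ h hg hgα hr hgr hc.1 hc.2
  subst h1
  rw [show (⟨⟨1, hg⟩, hgα⟩ : MulAction.stabilizer K α) = 1 from rfl, orderOf_one] at ho
  exact hr.ne_one ho.symm

include hΩ in
theorem three_not_dvd (hloc : ∀ β, ∃ Q, Local K β Q) (htr : MulAction.IsPretransitive K Ω) :
    ¬ 3 ∣ Nat.card K := by
  haveI := htr
  intro h3
  obtain ⟨β⟩ : Nonempty Ω := (Nat.card_pos_iff.1 (by rw [hΩ]; norm_num)).1
  obtain ⟨Q, hQ⟩ := hloc β
  rw [← Subgroup.card_mul_index (MulAction.stabilizer K β), MulAction.index_stabilizer,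
    MulAction.orbit_eq_univ, Set.ncard_univ, hΩ] at h3
  rcases (Nat.prime_three.dvd_mul).1 h3 with h3 | h3
  · rcases prime_dvd_stabilizer hΩ hQ Nat.prime_three h3 with h' | h' <;> norm_num at h'
  · norm_num at h3

include hΩ h in
/-- The Sylow 17-subgroup of the stabiliser has order 17. -/
theorem card_local (hloc : ∀ β, ∃ Q, Local K β Q) (htr : MulAction.IsPretransitive K Ω) :
    Nat.card P = 17 := by
  classical
  obtain ⟨x, hx⟩ : ∃ x : Ω, x ≠ α := by
    have := Fintype.ofFinite Ω
    obtain ⟨x, hx⟩ := exists_notMem_of_card_lt (α := Ω) (s := {α})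
      (by rw [← Nat.card_eq_fintype_card, hΩ, Finset.card_singleton]; norm_num)
    exact ⟨x, by simpa using hx⟩
  have hidx : (MulAction.stabilizer P x).index = 17 := by
    rw [MulAction.index_stabilizer, ← Nat.card_coe_set_eq, card_orbit hΩ h hx]
  rw [← Subgroup.card_mul_index (MulAction.stabilizer P x), hidx]
  by_contra hc
  have hne : MulAction.stabilizer P x ≠ ⊥ := fun e => hc (by rw [e, Subgroup.card_bot, one_mul])
  obtain ⟨⟨τ, hτP⟩, hτx, hτ1⟩ := SetLike.exists_of_lt (bot_lt_iff_ne_bot.2 hne)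
  have hτne : τ ≠ 1 := fun e => hτ1 (Subgroup.mem_bot.2 (Subtype.ext e))
  have hτfix : ∀ y ∈ MulAction.orbit P x, τ y = y := fun y hy => fix_orbit hΩ h hx hτP hτx hy
  -- the centraliser of `τ`
  let C : Subgroup K := (Subgroup.centralizer ({τ} : Set (Perm Ω))).comap K.subtype
  have hcommP : ∀ s ∈ P, s * τ = τ * s := by
    intro s hs
    refine Equiv.ext fun z => ?_
    rw [Perm.mul_apply, Perm.mul_apply]
    by_cases hz : z = α
    · rw [hz, h.fix τ hτP, h.fix s hs, h.fix τ hτP]
    by_cases hsz : s z = z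
    · rw [hsz]
      have horb : τ z ∈ MulAction.orbit P z := ⟨⟨τ, hτP⟩, rfl⟩
      exact fix_orbit hΩ h hz hs hsz horb
    · obtain ⟨i, hi⟩ := exists_zpow_on_orbit hΩ h hz hs hsz hτP
      rw [hi z (MulAction.mem_orbit_self z), hi (s z) ⟨⟨s, hs⟩, rfl⟩, ← Perm.mul_apply, ← Perm.mul_apply,
        ← pow_succ, ← pow_succ']
  have hPC : ∀ s ∈ P, ∀ hs : s ∈ K, (⟨s, hs⟩ : K) ∈ C := fun s hs _ =>
    Subgroup.mem_centralizer_singleton_iff.2 (hcommP s hs)
  obtain ⟨Q, hQ⟩ := hloc x
  have hτQ : τ ∈ Q := hQ.maximal τ (h.le hτP) hτx (by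
    obtain ⟨k, hk⟩ := h.pgroup ⟨τ, hτP⟩
    exact ⟨k, congrArg Subtype.val hk⟩)
  have hQC : ∀ s ∈ Q, ∀ hs : s ∈ K, (⟨s, hs⟩ : K) ∈ C := by
    intro s hs hsK
    refine Subgroup.mem_centralizer_singleton_iff.2 ?_
    refine Equiv.ext fun z => ?_
    show s (τ z) = τ (s z)
    by_cases hz : z = x
    · rw [hz, hQ.fix τ hτQ, hQ.fix s hs, hQ.fix τ hτQ]
    by_cases hsz : s z = z
    · rw [hsz]
      exact fix_orbit hΩ hQ hz hs hsz ⟨⟨τ, hτQ⟩, rfl⟩
    · obtain ⟨i, hi⟩ := exists_zpow_on_orbit hΩ hQ hz hs hsz hτQ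
      rw [hi z (MulAction.mem_orbit_self z), hi (s z) ⟨⟨s, hs⟩, rfl⟩, ← Perm.mul_apply, ← Perm.mul_apply,
        ← pow_succ, ← pow_succ']
  have hOα : α ∉ MulAction.orbit P x := by
    rintro ⟨t, ht⟩
    exact hx ((t : Perm Ω).injective ((show (t : Perm Ω) x = α from ht).trans (h.fix t t.2).symm))
  obtain ⟨y, hy, hyx, hcov⟩ := cover hΩ h hx
  have hfixset : ∀ z, τ z = z → z ∈ MulAction.orbit P x ∨ z = α := by
    intro z hz
    by_cases hzα : z = α
    · exact Or.inr hzα
    refine Or.inl ((hcov z hzα).resolve_right fun hzy => hτne (Equiv.ext fun u => ?_))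
    rw [Perm.one_apply]
    by_cases hu : u = α
    · rw [hu, h.fix τ hτP]
    rcases hcov u hu with hu' | hu'
    · exact hτfix u hu'
    · refine fix_orbit hΩ h hzα hτP hz ?_
      rw [MulAction.orbit_eq_iff.2 hzy]
      exact hu'
  have horb : MulAction.orbit C α = {z | z ∈ MulAction.orbit P x ∨ z = α} := by
    refine Set.Subset.antisymm ?_ ?_
    · rintro _ ⟨c, rfl⟩
      refine hfixset _ ?_
      have hc := Subgroup.mem_centralizer_singleton_iff.1 c.2
      show τ (((c : K) : Perm Ω) α) = ((c : K) : Perm Ω) α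
      rw [← Perm.mul_apply, ← (show ((c : K) : Perm Ω) * τ = τ * ((c : K) : Perm Ω) from hc),
        Perm.mul_apply, h.fix τ hτP]
    · have hstep : ∀ s ∈ P, ∀ u ∈ MulAction.orbit C α, s u ∈ MulAction.orbit C α := by
        rintro s hs _ ⟨c, rfl⟩
        exact ⟨⟨⟨s, h.le hs⟩, hPC s hs (h.le hs)⟩ * c, rfl⟩
      -- some point of the orbit of `x` lies in the orbit of `α`
      obtain ⟨s, hs, hsα⟩ : ∃ s ∈ Q, s α ≠ α := by
        by_contra hcon
        push Not at hcon
        exact hx (hQ.only α hcon).symm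
      have hsmem : s α ∈ MulAction.orbit C α := ⟨⟨⟨s, hQ.le hs⟩, hQC s hs (hQ.le hs)⟩, rfl⟩
      have hsO : s α ∈ MulAction.orbit P x := by
        refine (hfixset (s α) ?_).resolve_right hsα
        have := Subgroup.mem_centralizer_singleton_iff.1 (hQC s hs (hQ.le hs))
        show τ (s α) = s α
        rw [← Perm.mul_apply, ← (show s * τ = τ * s from this), Perm.mul_apply, h.fix τ hτP]
      rintro z (hz | rfl)
      · rw [← MulAction.orbit_eq_iff.2 hsO] at hz
        obtain ⟨t, rfl⟩ := hz
        exact hstep t t.2 _ hsmem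
      · exact MulAction.mem_orbit_self z
  refine three_not_dvd hΩ hloc htr ?_
  have h18 : Nat.card (MulAction.orbit C α) = 18 := by
    rw [horb, show {z | z ∈ MulAction.orbit P x ∨ z = α} = insert α (MulAction.orbit P x) by
      ext z; simp [or_comm], Nat.card_coe_set_eq, Set.ncard_insert_of_notMem hOα, ← Nat.card_coe_set_eq,
      card_orbit hΩ h hx]
  have hd : Nat.card (MulAction.orbit C α) ∣ Nat.card C := by
    rw [Nat.card_coe_set_eq, ← MulAction.index_stabilizer]
    exact Subgroup.index_dvd_card _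
  rw [h18] at hd
  exact (dvd_trans (by norm_num) hd).trans (Subgroup.card_subgroup_dvd_card C)

include hΩ h in
theorem main (hloc : ∀ β, ∃ Q, Local K β Q) (htr : MulAction.IsPretransitive K Ω) : False := by
  classical
  haveI := htr
  haveI : Fact (Nat.Prime 2) := ⟨Nat.prime_two⟩
  have := Fintype.ofFinite Ω
  have hP17 := card_local hΩ h hloc htr
  set St := MulAction.stabilizer K α with hSt
  have hStidx : St.index = 35 := by
    rw [hSt, MulAction.index_stabilizer, MulAction.orbit_eq_univ, Set.ncard_univ, hΩ]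
  -- the stabiliser has order `17 * 2 ^ a`
  have hPSt : Nat.card ((P.subgroupOf K).subgroupOf St) = 17 := by
    rw [← hP17]
    refine (Nat.card_congr (Subgroup.subgroupOfEquivOfLe ?_).toEquiv).trans
      (Nat.card_congr (Subgroup.subgroupOfEquivOfLe h.le).toEquiv)
    intro s hs
    exact h.fix s hs
  have hP17' : ∀ g : St, (∃ k, g ^ 17 ^ k = 1) → g ∈ (P.subgroupOf K).subgroupOf St := by
    rintro ⟨⟨g, hg⟩, hgα⟩ ⟨k, hk⟩
    exact h.maximal g hg hgα ⟨k, congrArg (fun z : St => ((z : K) : Perm Ω)) hk⟩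
  obtain ⟨a, ha⟩ : ∃ a, Nat.card St = 17 * 2 ^ a := by
    have h17 : 17 ∣ Nat.card St := hPSt ▸ Subgroup.card_subgroup_dvd_card _
    obtain ⟨m, hm⟩ := h17
    refine ⟨m.primeFactorsList.length, ?_⟩
    rw [hm]; congr 1
    have hm0 : m ≠ 0 := by rintro rfl; rw [mul_zero] at hm; exact Nat.card_pos.ne' hm
    refine Nat.eq_prime_pow_of_unique_prime_dvd hm0 fun {q} hq hqm => ?_
    rcases prime_dvd_stabilizer hΩ h hq (hm ▸ hqm.mul_left 17) with h' | h'
    · exact h'
    exfalso
    subst h'
    obtain ⟨R, hR⟩ := Sylow.exists_subgroup_card_pow_prime 17 (G := St) (n := 2)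
      (by rw [hm, sq]; exact mul_dvd_mul_left 17 hqm)
    have hle : R ≤ (P.subgroupOf K).subgroupOf St := fun g hg => hP17' g ⟨2, by
      have h1 : (⟨g, hg⟩ : R) ^ Nat.card R = 1 := pow_card_eq_one'
      rw [hR] at h1
      exact congrArg Subtype.val h1⟩
    have := Subgroup.card_dvd_of_le hle
    rw [hR, hPSt] at this
    norm_num at this
  -- a Sylow 2-subgroup
  obtain ⟨W₀⟩ : Nonempty (Sylow 2 St) := inferInstance
  have hWc : Nat.card (W₀ : Subgroup St) = 2 ^ a := by
    rw [Sylow.card_eq_multiplicity, ha, Nat.factorization_mul (by norm_num) (by positivity),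
      Nat.Prime.factorization_pow Nat.prime_two, Finsupp.add_apply, Finsupp.single_apply, if_pos rfl,
      Nat.factorization_eq_zero_of_not_dvd (by norm_num : ¬ (2 ∣ 17)), zero_add]
  set W : Subgroup K := (W₀ : Subgroup St).map St.subtype with hW
  have hWp : IsPGroup 2 W := W₀.2.map _
  have hWcard : Nat.card W = 2 ^ a := by rw [hW, Subgroup.card_subtype, hWc]
  have hKcard : Nat.card K = 595 * 2 ^ a := by
    rw [← Subgroup.card_mul_index St, hStidx, ha]; ring
  have hWidx : ¬ 2 ∣ W.index := by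
    have h1 := W.card_mul_index
    rw [hWcard, hKcard, mul_comm 595] at h1
    rw [Nat.eq_of_mul_eq_mul_left (by positivity) h1]
    norm_num
  have hWα : ∀ w ∈ W, (w : Perm Ω) α = α := by
    rintro _ ⟨w, -, rfl⟩
    exact w.2
  obtain ⟨σ, hσP, hσ1⟩ : ∃ σ ∈ P, σ ≠ 1 := by
    by_contra hcon
    push Not at hcon
    have : P = ⊥ := (Subgroup.eq_bot_iff_forall P).2 hcon
    rw [this, Subgroup.card_bot] at hP17
    norm_num at hP17
  haveI hPcyc : IsCyclic P := isCyclic_of_prime_card hP17
  -- the action on `P`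
  let θ : W →* MulAut P := MonoidHom.mk' (fun w =>
    { toFun := fun s => ⟨((w : K) : Perm Ω) * s * ((w : K) : Perm Ω)⁻¹, h.conj _ (w : K).2 (hWα _ w.2) s s.2⟩
      invFun := fun s => ⟨((w : K) : Perm Ω)⁻¹ * s * ((w : K) : Perm Ω), by
        have := h.conj _ (inv_mem (w : K).2) (by rw [Perm.inv_eq_iff_eq]; exact (hWα _ w.2).symm) s s.2
        simpa using this⟩
      left_inv := fun s => Subtype.ext (by simp [mul_assoc])
      right_inv := fun s => Subtype.ext (by simp [mul_assoc])
      map_mul' := fun s t => Subtype.ext (by simp [mul_assoc]) })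
    fun v w => MulEquiv.ext fun s => Subtype.ext (by simp [mul_assoc])
  obtain ⟨x, hx⟩ : ∃ x : Ω, x ≠ α := by
    obtain ⟨x, hx⟩ := exists_notMem_of_card_lt (α := Ω) (s := {α})
      (by rw [← Nat.card_eq_fintype_card, hΩ, Finset.card_singleton]; norm_num)
    exact ⟨x, by simpa using hx⟩
  obtain ⟨y, hy, hyx, hcov⟩ := cover hΩ h hx
  -- the kernel has at most two elements
  have hkerc : ∀ w : W, w ∈ θ.ker → ∀ s ∈ P, ((w : K) : Perm Ω) * s = s * ((w : K) : Perm Ω) := by
    intro w hw s hs
    have := congrArg Subtype.val (DFunLike.congr_fun (show θ w = 1 from hw) ⟨s, hs⟩)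
    exact mul_inv_eq_iff_eq_mul.1 this
  have hkey : ∀ w : W, w ∈ θ.ker → ((w : K) : Perm Ω) x ∈ MulAction.orbit P x → w = 1 := by
    intro w hw hwx
    obtain ⟨k, hk⟩ := hWp w
    have h2 : ((w : K) : Perm Ω) ^ 2 ^ k = 1 :=
      congrArg (fun z : W => ((z : K) : Perm Ω)) hk
    have hcomm := hkerc w hw
    have hfix : ∀ z, z ≠ α → ((w : K) : Perm Ω) z ∈ MulAction.orbit P z → ((w : K) : Perm Ω) z = z := by
      intro z hz hzO
      have h17 := pow_fix hΩ h hz hzO fun s hs u _ => congrArg (fun e : Perm Ω => e u) (hcomm s hs)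
      have hmem : ((w : K) : Perm Ω) ^ Nat.gcd (2 ^ k) 17 ∈ MulAction.stabilizer (Perm Ω) z := by
        rw [← zpow_natCast, Nat.gcd_eq_gcd_ab, zpow_add, zpow_mul, zpow_mul, zpow_natCast, zpow_natCast,
          h2, one_zpow, one_mul]
        exact zpow_mem (MulAction.mem_stabilizer_iff.2 h17) _
      rw [Nat.Coprime.gcd_eq_one (Nat.Coprime.pow_left k (by norm_num)), pow_one] at hmem
      exact hmem
    have hwxx := hfix x hx hwx
    refine Subtype.ext (Subtype.ext (Equiv.ext fun z => ?_))
    show ((w : K) : Perm Ω) z = z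
    by_cases hz : z = α
    · rw [hz]; exact hWα _ w.2
    rcases hcov z hz with hz' | hz'
    · obtain ⟨t, rfl⟩ := hz'
      show ((w : K) : Perm Ω) ((t : Perm Ω) x) = (t : Perm Ω) x
      rw [← Perm.mul_apply, hcomm t t.2, Perm.mul_apply, hwxx]
    · obtain ⟨t, rfl⟩ := hz'
      have hwy : ((w : K) : Perm Ω) y = y := by
        refine hfix y hy ?_
        have hne : ((w : K) : Perm Ω) y ≠ α := fun e =>
          hy (((w : K) : Perm Ω).injective (e.trans (hWα _ w.2).symm))
        refine (hcov _ hne).resolve_left fun ⟨u, hu⟩ => hyx ⟨u, ?_⟩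
        apply ((w : K) : Perm Ω).injective
        show ((w : K) : Perm Ω) ((u : Perm Ω) x) = ((w : K) : Perm Ω) y
        rw [← Perm.mul_apply, hcomm u u.2, Perm.mul_apply, hwxx]
        exact hu
      show ((w : K) : Perm Ω) ((t : Perm Ω) y) = (t : Perm Ω) y
      rw [← Perm.mul_apply, hcomm t t.2, Perm.mul_apply, hwy]
  have hker2 : Nat.card θ.ker ≤ 2 := by
    have hinj : Function.Injective (fun w : θ.ker => decide (((w : W) : K).1 x ∈ MulAction.orbit P x)) := by
      intro u v huv
      simp only [decide_eq_decide] at huv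
      have hm := mul_mem (inv_mem v.2) u.2
      refine Subtype.ext (eq_of_inv_mul_eq_one (hkey _ hm ?_)).symm
      show (((v : W) : K).1)⁻¹ ((((u : W) : K).1) x) ∈ MulAction.orbit P x
      have hne : ∀ w : θ.ker, (((w : W) : K).1) x ≠ α := fun w e =>
        hx ((((w : W) : K).1).injective (e.trans (hWα _ (w : W).2).symm))
      -- both images lie in the same orbit
      obtain ⟨t, ht⟩ : (((u : W) : K).1) x ∈ MulAction.orbit P ((((v : W) : K).1) x) := by
        by_cases hux : (((u : W) : K).1) x ∈ MulAction.orbit P x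
        · rw [MulAction.orbit_eq_iff.2 (huv.1 hux)]; exact hux
        · have hu' := (hcov _ (hne u)).resolve_left hux
          have hv' := (hcov _ (hne v)).resolve_left fun e => hux (huv.2 e)
          rw [MulAction.orbit_eq_iff.2 hv']; exact hu'
      refine ⟨t, ?_⟩
      show (t : Perm Ω) x = _
      rw [Perm.eq_inv_iff_eq, ← Perm.mul_apply, hkerc v v.2 t t.2, Perm.mul_apply]
      exact ht
    simpa using Nat.card_le_card_of_injective _ hinj
  haveI : IsCyclic (MulAut P) := by
    haveI : Fact (Nat.card P).Prime := ⟨by rw [hP17]; norm_num⟩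
    exact isCyclic_of_surjective (IsCyclic.mulAutMulEquiv P).symm.toMonoidHom
      (IsCyclic.mulAutMulEquiv P).symm.surjective
  have hkerle : θ.ker ≤ Subgroup.center W := by
    intro v hv
    rw [Subgroup.mem_center_iff]
    intro g
    by_cases hv1 : v = 1
    · rw [hv1, one_mul, mul_one]
    have hconj : g * v * g⁻¹ ∈ θ.ker := (inferInstance : θ.ker.Normal).conj_mem v hv g
    by_cases he : g * v * g⁻¹ = v
    · exact mul_inv_eq_iff_eq_mul.1 he
    exfalso
    have h3 : ({1, v, g * v * g⁻¹} : Finset W).card ≤ Nat.card θ.ker := by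
      rw [Nat.card_eq_fintype_card, ← Fintype.card_coe]
      refine Fintype.card_le_of_injective (fun z => ⟨z.1, ?_⟩) fun z z' e => Subtype.ext (congrArg Subtype.val e :)
      have := z.2
      simp only [Finset.mem_insert, Finset.mem_singleton] at this
      rcases this with h' | h' | h' <;> rw [h']
      · exact one_mem _
      · exact hv
      · exact hconj
    rw [Finset.card_insert_of_notMem (by
      simp only [Finset.mem_insert, Finset.mem_singleton, not_or]
      exact ⟨fun e => hv1 e.symm, fun e => hv1 (conj_eq_one_iff.1 e.symm)⟩),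
      Finset.card_insert_of_notMem (by simp only [Finset.mem_singleton]; exact fun e => he e.symm),
      Finset.card_singleton] at h3
    omega
  have hWcomm : ∀ v w : W, v * w = w * v := commutative_of_cyclic_center_quotient θ hkerle
  -- few involutions
  let I : Type _ := {w : W // w ^ 2 = 1}
  have hI : Nat.card I ≤ 4 := by
    let f : I → {e : MulAut P // e ^ 2 = 1} := fun w => ⟨θ w.1, by rw [← map_pow, w.2, map_one]⟩
    have hfib : ∀ e, Nat.card {w : I // f w = e} ≤ 2 := by
      intro e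
      rcases isEmpty_or_nonempty {w : I // f w = e} with he | ⟨⟨w₀, hw₀⟩⟩
      · simp
      refine le_trans (Nat.card_le_card_of_injective (fun w => (⟨w₀.1⁻¹ * w.1.1, ?_⟩ : θ.ker)) ?_) hker2
      · have h1 : θ w.1.1 = θ w₀.1 := congrArg Subtype.val (w.2.trans hw₀.symm)
        rw [MonoidHom.mem_ker, map_mul, map_inv, h1, inv_mul_cancel]
      · intro a b hab
        exact Subtype.ext (Subtype.ext (mul_left_cancel (congrArg Subtype.val hab)))
    have hc2 : Nat.card {e : MulAut P // e ^ 2 = 1} ≤ 2 := by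
      have := Fintype.ofFinite (MulAut P)
      rw [Nat.card_eq_fintype_card, Fintype.card_subtype]
      exact IsCyclic.card_pow_eq_one_le two_pos
    have := Fintype.ofFinite {e : MulAut P // e ^ 2 = 1}
    rw [← Nat.card_congr (Equiv.sigmaFiberEquiv f), Nat.card_sigma]
    refine le_trans (Finset.sum_le_card_nsmul _ _ 2 fun e _ => hfib e) ?_
    rw [smul_eq_mul, Finset.card_univ, ← Nat.card_eq_fintype_card]
    omega
  -- `W` is central in its normalizer
  have hNC : Subgroup.normalizer ((W : Subgroup K) : Set K) ≤ Subgroup.centralizer (W : Set K) := by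
    intro g hg
    obtain ⟨b, c, hb, hc, hbc, -, ⟨k, hk⟩, hcop⟩ :=
      Cfsg.Agent.Lib.Transfer.PResidual.exists_pPart_mul_pPrimePart (p := 2) g (isOfFinOrder_of_finite g)
    have hbN := Subgroup.zpowers_le.2 hg hb
    have hcN := Subgroup.zpowers_le.2 hg hc
    rw [← hbc]
    refine mul_mem ?_ ?_
    · have hbz : IsPGroup 2 (Subgroup.zpowers b) := by
        obtain ⟨j, -, hj⟩ := (Nat.dvd_prime_pow Nat.prime_two).1 (orderOf_dvd_of_pow_eq_one hk)
        exact IsPGroup.of_card (n := j) (by rw [Nat.card_zpowers, hj])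
      have hsup := hbz.to_sup_of_normal_right' hWp (Subgroup.zpowers_le.2 hbN)
      have hbW : b ∈ W := by
        have hsyl : ∀ {Q : Subgroup K}, IsPGroup 2 Q → W ≤ Q → Q = W := fun {Q} hQ hWQ =>
          ((hWp.toSylow hWidx).3 hQ hWQ)
        rw [← hsyl hsup le_sup_right]
        exact Subgroup.mem_sup_left (Subgroup.mem_zpowers b)
      rw [Subgroup.mem_centralizer_iff]
      intro w hw
      exact congrArg Subtype.val (hWcomm ⟨w, hw⟩ ⟨b, hbW⟩)
    · have hoc : orderOf c ∣ 595 := by
        have h1 : orderOf c ∣ 595 * 2 ^ a := hKcard ▸ orderOf_dvd_natCard c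
        exact (hcop.pow_right a).dvd_of_dvd_mul_right h1
      set m := orderOf c
      have hcW : ∀ w ∈ W, c * w * c⁻¹ ∈ W := fun w hw => (Subgroup.mem_normalizer_iff.1 hcN w).1 hw
      let γ : W →* W := MonoidHom.mk' (fun w => ⟨c * w * c⁻¹, hcW w w.2⟩) fun v w => Subtype.ext (by simp)
      have hγ : ∀ n (w : W), (((γ : W → W)^[n] w : W) : K) = c ^ n * w * (c ^ n)⁻¹ := by
        intro n
        induction n with
        | zero => intro w; simp
        | succ n ih =>
          intro w
          rw [Function.iterate_succ_apply']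
          show c * ((γ : W → W)^[n] w : K) * c⁻¹ = _
          rw [ih, pow_succ']
          group
      have hγm : ∀ w : W, (γ : W → W)^[m] w = w := fun w => Subtype.ext (by
        rw [hγ, pow_orderOf_eq_one]; simp)
      have hm2 : Nat.Coprime m 2 := hcop
      have hinv : ∀ w : W, w ^ 2 = 1 → γ w = w := by
        intro w hw
        let π : Perm I := Equiv.ofBijective (fun v => ⟨γ v.1, by rw [← map_pow, v.2, map_one]⟩)
          (Finite.injective_iff_bijective.1 fun u v e => by
            have e2 := mul_left_cancel (mul_right_cancel (congrArg Subtype.val (congrArg Subtype.val e) :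
              c * ((u.1 : W) : K) * c⁻¹ = c * ((v.1 : W) : K) * c⁻¹))
            exact Subtype.ext (Subtype.ext e2))
        have hπn : ∀ n (v : I), ((π ^ n) v).1 = (γ : W → W)^[n] v.1 := by
          intro n
          induction n with
          | zero => intro v; rfl
          | succ n ih =>
            intro v
            rw [pow_succ', Perm.mul_apply, Function.iterate_succ_apply', ← ih]
            rfl
        have hπm : π ^ m = 1 := Equiv.ext fun v => Subtype.ext (by rw [hπn, hγm]; rfl)
        have h24 : orderOf π ∣ 24 := by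
          refine (orderOf_dvd_natCard π).trans ?_
          rw [Nat.card_perm]
          exact Nat.factorial_dvd_factorial hI
        have h1 : orderOf π = 1 := Nat.eq_one_of_dvd_coprimes (a := 595) (b := 24) (by norm_num)
          ((orderOf_dvd_of_pow_eq_one hπm).trans hoc) h24
        have h2 := orderOf_eq_one_iff.1 h1
        exact congrArg Subtype.val (congrArg (fun e : Perm I => e ⟨w, hw⟩) h2)
      have hall : ∀ k (w : W), w ^ 2 ^ k = 1 → γ w = w := by
        intro k
        induction k with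
        | zero => intro w hw; exact hinv w (by rw [pow_zero, pow_one] at hw; rw [hw, one_pow])
        | succ k ih =>
          intro w hw
          have h2 : γ (w ^ 2) = w ^ 2 := ih _ (by rw [← pow_mul, ← pow_succ']; exact hw)
          set z := w⁻¹ * γ w with hz
          have hzc : Commute w⁻¹ (γ w) := hWcomm _ _
          have hz2 : z ^ 2 = 1 := by
            rw [hz, hzc.mul_pow, ← map_pow, h2, inv_pow, inv_mul_cancel]
          have hzfix := hinv z hz2
          have hit : ∀ n, (γ : W → W)^[n] w = w * z ^ n := by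
            intro n
            induction n with
            | zero => simp
            | succ n ihn =>
              rw [Function.iterate_succ_apply', ihn, map_mul, map_pow, hzfix,
                show γ w = w * z by rw [hz, mul_inv_cancel_left], mul_assoc, ← pow_succ']
          have hzm : z ^ m = 1 := by
            have := hγm w
            rwa [hit, mul_eq_left] at this
          have hz1 : z = 1 := orderOf_eq_one_iff.1 (Nat.eq_one_of_dvd_coprimes hm2
            (orderOf_dvd_of_pow_eq_one hzm) (orderOf_dvd_of_pow_eq_one hz2))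
          exact (inv_mul_eq_one.1 hz1).symm
      rw [Subgroup.mem_centralizer_iff]
      intro w hw
      obtain ⟨k, hk⟩ := hWp ⟨w, hw⟩
      have h1 : c * w * c⁻¹ = w := congrArg Subtype.val (hall k ⟨w, hw⟩ hk)
      exact (mul_inv_eq_iff_eq_mul.1 h1).symm
  -- the normal complement and its Sylow 5-subgroup
  set S := hWp.toSylow hWidx
  have hS : (S : Subgroup K) = W := rfl
  have hSC : Subgroup.normalizer ((S : Subgroup K) : Set K) ≤ Subgroup.centralizer ((S : Subgroup K) : Set K) := by
    rw [hS]; exact hNC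
  set N := (MonoidHom.transferSylow S hSC).ker with hN
  haveI hNn : N.Normal := MonoidHom.normal_ker _
  have hNc : Nat.card N = 595 := by
    have := (MonoidHom.ker_transferSylow_isComplement' S hSC).card_mul_card
    change Nat.card N * Nat.card W = Nat.card K at this
    rw [hWcard, hKcard] at this
    exact Nat.eq_of_mul_eq_mul_right (by positivity) this
  haveI : Fact (Nat.Prime 5) := ⟨by norm_num⟩
  have huniq : Subsingleton (Sylow 5 N) := by
    obtain ⟨Q⟩ : Nonempty (Sylow 5 N) := inferInstance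
    have hQc : Nat.card (Q : Subgroup N) = 5 := by
      rw [Sylow.card_eq_multiplicity, hNc]
      have : (595 : ℕ).factorization 5 = 1 := by
        rw [show (595 : ℕ) = 5 * 119 from rfl, Nat.factorization_mul (by norm_num) (by norm_num),
          Finsupp.add_apply, Nat.Prime.factorization_self (by norm_num),
          Nat.factorization_eq_zero_of_not_dvd (by norm_num : ¬ (5 ∣ 119))]
      rw [this, pow_one]
    have h1 : Nat.card (Sylow 5 N) ∣ 119 := by
      have h2 := Q.card_dvd_index
      have h3 := (Q : Subgroup N).card_mul_index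
      rw [hQc, hNc] at h3
      rwa [show (Q : Subgroup N).index = 119 by omega] at h2
    have hmod := card_sylow_modEq_one 5 N
    have hle := Nat.le_of_dvd (by norm_num) h1
    have hcases : Nat.card (Sylow 5 N) = 1 := by
      unfold Nat.ModEq at hmod
      have : Nat.card (Sylow 5 N) ∈ Nat.divisors 119 := Nat.mem_divisors.2 ⟨h1, by norm_num⟩
      rw [show Nat.divisors 119 = {1, 7, 17, 119} from by decide +kernel] at this
      simp only [Finset.mem_insert, Finset.mem_singleton] at this
      rcases this with e | e | e | e <;> rw [e] at hmod ⊢ <;> norm_num at hmod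
    exact (Nat.card_eq_one_iff_unique.1 hcases).1
  obtain ⟨Q⟩ : Nonempty (Sylow 5 N) := inferInstance
  set F := (Q : Subgroup N).map N.subtype with hF
  haveI : (Q : Subgroup N).Characteristic := Q.characteristic_of_subsingleton
  haveI hFn : F.Normal := inferInstance
  have hFc : Nat.card F = 5 := by
    rw [hF, Subgroup.card_subtype, Sylow.card_eq_multiplicity, hNc,
      show (595 : ℕ) = 5 * 119 from rfl, Nat.factorization_mul (by norm_num) (by norm_num),
      Finsupp.add_apply, Nat.Prime.factorization_self (by norm_num),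
      Nat.factorization_eq_zero_of_not_dvd (by norm_num : ¬ (5 ∣ 119))]
    norm_num
  -- its orbits
  set B := MulAction.orbit F α
  have hBle : Nat.card B ≤ 5 := by
    rw [← hFc]
    exact Nat.card_le_card_of_surjective (fun f : F => (⟨f • α, MulAction.mem_orbit α f⟩ : B))
      (fun ⟨z, f, hf⟩ => ⟨f, Subtype.ext hf⟩)
  obtain ⟨z, hzB, hzα⟩ : ∃ z ∈ B, z ≠ α := by
    by_contra hcon
    push Not at hcon
    have hall : ∀ f : F, ∀ u : Ω, ((f : K) : Perm Ω) u = u := by
      intro f u
      obtain ⟨g, hg⟩ := MulAction.exists_smul_eq K α u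
      have hg' : (g : Perm Ω) α = u := hg
      have hfg : g⁻¹ * (f : K) * g ∈ F := by simpa using hFn.conj_mem (f : K) f.2 g⁻¹
      have h1 : (g : Perm Ω)⁻¹ (((f : K) : Perm Ω) ((g : Perm Ω) α)) = α := hcon _ ⟨⟨_, hfg⟩, rfl⟩
      rw [Perm.inv_eq_iff_eq, hg'] at h1
      exact h1
    have : F = ⊥ := (Subgroup.eq_bot_iff_forall F).2 fun f hf =>
      Subtype.ext (Equiv.ext fun u => hall ⟨f, hf⟩ u)
    rw [this, Subgroup.card_bot] at hFc
    norm_num at hFc
  have hsub : MulAction.orbit P z ⊆ B := by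
    rintro _ ⟨s, rfl⟩
    obtain ⟨f, rfl⟩ := hzB
    have hsf : (⟨s, h.le s.2⟩ : K) * f * (⟨s, h.le s.2⟩ : K)⁻¹ ∈ F := hFn.conj_mem _ f.2 _
    refine ⟨⟨_, hsf⟩, ?_⟩
    show (s : Perm Ω) (((f : K) : Perm Ω) ((s : Perm Ω)⁻¹ α)) = (s : Perm Ω) (((f : K) : Perm Ω) α)
    rw [show (s : Perm Ω)⁻¹ α = α by rw [Perm.inv_eq_iff_eq]; exact (h.fix s s.2).symm]
  have h17le := Nat.card_mono (Set.toFinite B) hsub
  rw [card_orbit hΩ h hzα] at h17le
  omega

end Cfsg.Agent.Lib.Fgs9.ThirtyFive
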